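import Cfsg.Agent.Lib.JankoFour.Recog.Main

/-!
The normaliser of an elementary abelian subgroup of order 2048 in a simple group of Janko-four type.
-/

set_option autoImplicit false
set_option linter.unusedSectionVars false

namespace Cfsg.Agent.JankoFour.Recog

open Subgroup

theorem map_normalizer_of_bijective {G K : Type*} [Group G] [Group K] (e : G ≃* K) (V : Subgroup G) :
    (normalizer (V : Set G)).map e.toMonoidHom = normalizer ((V.map e.toMonoidHom : Subgroup K) : Set K) := by
  ext x
  rw [mem_map_equiv, mem_normalizer_iff, mem_normalizer_iff]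
  constructor
  · intro h y
    rw [mem_map_equiv, mem_map_equiv, map_mul, map_mul, map_inv]
    exact h _
  · intro h y
    have := h (e y)
    rw [mem_map_equiv, mem_map_equiv, map_mul, map_mul, map_inv, e.symm_apply_apply] at this
    exact this

theorem card_normalizer_of_type {G : Type*} [Group G] [Finite G] [IsSimpleGroup G] (hG : ¬ IsMulCommutative G)
    {z : G} (hJ : Cfsg.IsOfJankoFourTypeAt z) (V : Subgroup G) (hV : Cfsg.IsElementaryAbelian 2 V)
    (hcard : Nat.card ↥V = 2048) : Nat.card ↥(normalizer (V : Set G)) = 501397585920 := by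
  obtain ⟨P, hP⟩ := hJ
  obtain ⟨F⟩ := exists_frame hG hP
  obtain ⟨g, rfl⟩ := F.X.Z.D.conjugate V hV hcard
  rw [← map_normalizer_of_bijective (MulAut.conj g) F.X.Z.V, ← F.card_normalizer]
  exact card_map_of_injective (MulAut.conj g).injective

theorem index_normalizer_of_type {G : Type*} [Group G] [Finite G] [IsSimpleGroup G] (hG : ¬ IsMulCommutative G)
    {z : G} (hJ : Cfsg.IsOfJankoFourTypeAt z) (V : Subgroup G) (hV : Cfsg.IsElementaryAbelian 2 V)
    (hcard : Nat.card ↥V = 2048) : (normalizer (V : Set G)).index = 173067389 := by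
  have h := (normalizer (V : Set G)).card_mul_index
  rw [card_normalizer_of_type hG hJ V hV hcard, order_of_type hG ⟨z, hJ⟩] at h
  omega

end Cfsg.Agent.JankoFour.Recog
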