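import Cfsg.Agent.Lib.JankoFour.Recog.Full
import Cfsg.Agent.Lib.JankoFour.Split
import Cfsg.Agent.Lib.JankoFour.TypeOrder
import Cfsg.Prelude.Def_Spor_J4

/-!
A simple group of Janko-four type is an image of the presented fourth Janko group, and is isomorphic to it as soon as
the presented group is not larger.
-/

set_option autoImplicit false
set_option linter.unusedSectionVars false

namespace Cfsg.Agent.JankoFour.Recog

open Cfsg (M24)
open Cfsg.Agent.J4Pres

/-- The images of the three generators under the relations. -/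
def relImage {G : Type*} [Group G] (R : J4Bound.Rels G) : Cfsg.Spor.J4.Gen → G
  | .x => R.ψ gx
  | .y => R.ψ gy
  | .t => R.t

theorem relImage_hold {G : Type*} [Group G] (R : J4Bound.Rels G) :
    ∀ r ∈ (Cfsg.Spor.coxRelators Cfsg.Spor.J4.edges ∪ {r | r ∈ Cfsg.Spor.J4.extra}),
      FreeGroup.lift (relImage R) r = 1 := by
  have hs := R.comm TrioSystem.gS fix_W.2.1
  have hx := R.comm gx fix_W.1
  rintro r (⟨a, hx, -⟩ | hr)
  · simp [Cfsg.Spor.coxNodes, Cfsg.Spor.J4.edges] at hx
  · simp only [Cfsg.Spor.J4.extra, Set.mem_ofPred_eq, List.mem_cons, List.not_mem_nil, or_false] at hr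
    rcases hr with rfl | rfl | rfl | rfl | rfl | rfl | rfl | rfl | rfl | rfl | rfl | rfl <;>
      simp only [map_mul, map_pow, map_inv, FreeGroup.lift_apply_of, relImage, Cfsg.Spor.J4.x,
        Cfsg.Spor.J4.y, Cfsg.Spor.J4.t]
    · rw [← map_pow, rel_sq, map_one]
    · rw [← map_pow, rel_cube, map_one]
    · rw [← map_mul, ← map_pow, rel_twentythree, map_one]
    · simp only [← map_inv, ← map_mul, ← map_pow]; rw [rel_twelve, map_one]
    · simp only [← map_inv, ← map_mul, ← map_pow]; rw [rel_five, map_one]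
    · simp only [← map_inv, ← map_mul, ← map_pow]; rw [rel_six, map_one]
    · simp only [← map_inv, ← map_mul, ← map_pow]; rw [rel_seven, map_one]
    · rw [pow_two, R.tt]
    · simp only [TrioSystem.gS, map_mul, map_pow, map_inv] at hs
      rw [mul_assoc _ R.t, ← hs, mul_assoc, inv_mul_cancel_left, inv_mul_cancel]
    · rw [mul_assoc _ R.t, ← hx, mul_assoc, inv_mul_cancel_left, inv_mul_cancel]
    · simpa only [TrioSystem.gLine, map_mul, map_pow, map_inv] using R.line
    · simpa only [TrioSystem.gFour, TrioSystem.gLast, map_mul, map_pow, map_inv] using R.last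

/-- The map from the presented group. -/
def relHom {G : Type*} [Group G] (R : J4Bound.Rels G) : Cfsg.Spor.J4 →* G :=
  PresentedGroup.toGroup (relImage_hold R)

theorem relHom_psi {G : Type*} [Group G] (R : J4Bound.Rels G) (g : M24) : R.ψ g ∈ (relHom R).range := by
  have hg : g ∈ Subgroup.closure {gx, gy} := by rw [closure_gx_gy]; trivial
  revert hg
  refine fun hg => (Subgroup.closure_le (((relHom R).range).comap R.ψ)).2 ?_ hg
  rintro x (rfl | rfl)
  · exact ⟨PresentedGroup.of Cfsg.Spor.J4.Gen.x, PresentedGroup.toGroup.of _⟩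
  · exact ⟨PresentedGroup.of Cfsg.Spor.J4.Gen.y, PresentedGroup.toGroup.of _⟩

theorem relHom_t {G : Type*} [Group G] (R : J4Bound.Rels G) : R.t ∈ (relHom R).range :=
  ⟨PresentedGroup.of Cfsg.Spor.J4.Gen.t, PresentedGroup.toGroup.of _⟩

/-- A framed rig exists in a simple group of Janko-four type. -/
theorem exists_frame {G : Type*} [Group G] [Finite G] [IsSimpleGroup G] (hG : ¬ IsMulCommutative G) {z : G}
    {P : Subgroup G} (hJ : Cfsg.IsOfJankoFourTypeWith z P) : Nonempty (Framed z) := by
  obtain ⟨M, B, ⟨F⟩⟩ := exists_facts hJ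
  obtain ⟨D⟩ := F.exists_pack hG
  obtain ⟨K, hKN, hKV, hKsup, -⟩ := exists_complement M D
  obtain ⟨Z⟩ := exists_sect D K hKN hKV hKsup
  obtain ⟨M', L, E, hs, hL⟩ := exists_ten_data hG hJ
  obtain ⟨X⟩ := exists_rig (⟨Z, z, P, M', L, E, hs, hL, IsConj.refl z⟩ : Setup z)
  exact exists_framed hG hJ X

/-- **A simple group of Janko-four type is an image of the presented group.** -/
theorem exists_surjective {G : Type*} [Group G] [Finite G] [IsSimpleGroup G] (hG : ¬ IsMulCommutative G)
    (hJ : Cfsg.IsOfJankoFourType G) : ∃ f : Cfsg.Spor.J4 →* G, Function.Surjective f := by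
  have hord := order_of_type hG hJ
  obtain ⟨z, P, hP⟩ := hJ
  obtain ⟨F⟩ := exists_frame hG hP
  refine ⟨relHom F.rels, MonoidHom.range_eq_top.1 (F.eq_top hG hP hord ?_ (relHom_t F.rels))⟩
  rintro _ ⟨σ, rfl⟩
  have h := relHom_psi F.rels ((MulAut.conj (toM permC)).symm σ)
  rwa [show F.rels.ψ ((MulAut.conj (toM permC)).symm σ) = F.X.Z.psi σ from
    congrArg F.X.Z.psi ((MulAut.conj (toM permC)).apply_symm_apply σ)] at h

/-- **Recognition, given that the presented group is not larger.** -/
theorem iso_of_card_le {G : Type*} [Group G] [Finite G] [IsSimpleGroup G] (hG : ¬ IsMulCommutative G)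
    (hJ : Cfsg.IsOfJankoFourType G) [Finite Cfsg.Spor.J4]
    (hle : Nat.card Cfsg.Spor.J4 ≤ 86775571046077562880) : Cfsg.Spor.IsoJ4 G := by
  obtain ⟨f, hf⟩ := exists_surjective hG hJ
  rw [← order_of_type hG hJ] at hle
  exact ⟨(MulEquiv.ofBijective f (hf.bijective_of_nat_card_le hle)).symm⟩

end Cfsg.Agent.JankoFour.Recog
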