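import Cfsg.Agent.Lib.JankoFour.Recog.OutChecks
import Cfsg.Agent.Lib.JankoFour.Recog.Main
import Cfsg.Agent.S2064
import Cfsg.Prelude.Def_KGroupFacts

/-!
Every automorphism of a simple group of Janko-four type is inner.
-/

set_option autoImplicit false
set_option linter.unusedSectionVars false
set_option maxRecDepth 100000

namespace Cfsg.Agent.JankoFour.Recog

open Subgroup
open Cfsg (GolayPt M24)
open Cfsg.Agent.Golay Cfsg.Agent.PermCert
open Cfsg.Agent.J4Module (app)
open scoped symmDiff Pointwise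

/-- The generators of the data are conjugate to the ones of the presentation. -/
theorem conjC_gens : MulAut.conj (toM permC) J4Pres.gx = toM permX ∧ MulAut.conj (toM permC) J4Pres.gy = toM permY := by
  obtain ⟨h1, h2, -⟩ := words_conj
  constructor <;> refine Subtype.ext ?_ <;> rw [MulAut.conj_apply, Subgroup.coe_mul, Subgroup.coe_mul,
    Subgroup.coe_inv, toM_val permC_ok, toM_val (perms_mem _ (by simp)), mul_inv_eq_iff_eq_mul]
  exacts [h1, h2]

theorem hom_ext {G : Type*} [Group G] {f f' : ↥M24 →* G} (hx : f (toM permX) = f' (toM permX))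
    (hy : f (toM permY) = f' (toM permY)) : f = f' := by
  have h : f.comp (MulAut.conj (toM permC)).toMonoidHom = f'.comp (MulAut.conj (toM permC)).toMonoidHom :=
    MonoidHom.eq_of_eqOn_dense J4Pres.closure_gx_gy (by
      rintro _ (rfl | rfl) <;>
        simp only [MonoidHom.comp_apply, MulEquiv.coe_toMonoidHom, conjC_gens.1, conjC_gens.2, hx, hy])
  refine MonoidHom.ext fun σ => ?_
  obtain ⟨τ, rfl⟩ := (MulAut.conj (toM permC)).surjective σ
  exact DFunLike.congr_fun h τ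

/-- An automorphism of the Mathieu group is inner. -/
theorem exists_conj_M24 (b : MulAut ↥M24) : ∃ m, b = MulAut.conj m := by
  obtain ⟨h, -⟩ := Nat.card_eq_one_iff_unique.1 Cfsg.Agent.S2064.result
  obtain ⟨m, hm⟩ := (QuotientGroup.eq_one_iff b).1 (h.elim (QuotientGroup.mk b) 1)
  exact ⟨m, hm.symm⟩

namespace Sect

variable {G : Type*} [Group G] [Finite G] {z : G} (Z : Sect z)

theorem twHom_mask {e : Elt} (he : permOK e = true) :
    Z.twHom (toM e) = Z.sv (twMask e) * Z.psi (toM e) := by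
  set p := pt ⟨pIn, twist_spec.2.2.2.2.2.2.1⟩
  set q := (toM e : Equiv.Perm GolayPt) p
  have hset : ∀ i : GolayPt, maskSet (1 <<< idx i) = {i} := fun i => by
    ext r
    simp only [mem_maskSet, Nat.one_shiftLeft, Nat.testBit_two_pow, decide_eq_true_eq, Finset.mem_singleton]
    exact ⟨fun h => idx_injective h.symm, fun h => by rw [h]⟩
  have hp : idx p = pIn := idx_pt _
  have hq : idx q = PermCert.get 5 e.1 pIn := by rw [idx_toM he, hp]
  have l1 : ∀ i : GolayPt, (1 : ℕ) <<< idx i < 2 ^ 24 := fun i => by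
    rw [Nat.one_shiftLeft]; exact Nat.pow_lt_pow_right (by norm_num) (idx_lt i)
  show Z.twFun (toM e) = _
  rw [twFun, ← hset p, ← hset q, ← maskSet_xor (l1 p) (l1 q), twMask, ← hq, ← hp]
  rfl

theorem twMask_ok {e : Elt} (he : permOK e = true) : twMask e < 2 ^ 24 ∧ popCount (twMask e) 24 % 2 = 0 := by
  set p := pt ⟨pIn, twist_spec.2.2.2.2.2.2.1⟩
  set q := (toM e : Equiv.Perm GolayPt) p
  have hp : idx p = pIn := idx_pt _
  have hq : idx q = PermCert.get 5 e.1 pIn := by rw [idx_toM he, hp]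
  have hset : ∀ i : GolayPt, maskSet (1 <<< idx i) = {i} := fun i => by
    ext r
    simp only [mem_maskSet, Nat.one_shiftLeft, Nat.testBit_two_pow, decide_eq_true_eq, Finset.mem_singleton]
    exact ⟨fun h => idx_injective h.symm, fun h => by rw [h]⟩
  have l1 : ∀ i : GolayPt, (1 : ℕ) <<< idx i < 2 ^ 24 := fun i => by
    rw [Nat.one_shiftLeft]; exact Nat.pow_lt_pow_right (by norm_num) (idx_lt i)
  rw [twMask, ← hq, ← hp]
  refine ⟨Nat.xor_lt_two_pow (n := 24) (l1 p) (l1 q), ?_⟩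
  rw [← card_maskSet, maskSet_xor (l1 p) (l1 q), hset, hset]
  exact Nat.even_iff.1 (even_two_singletons p q)

/-- The permutations of a word in the two generators. -/
def perms (L : List ℕ) : List Elt := L.map fun k => if k = 0 then permX else permY

/-- A lift of the two generators evaluated on a word. -/
theorem lift_word {f : ↥M24 →* G} {mx my : ℕ} (lx : mx < 2 ^ 24) (ex : popCount mx 24 % 2 = 0) (ly : my < 2 ^ 24)
    (ey : popCount my 24 % 2 = 0) (hx : f (toM permX) = Z.sv mx * Z.psi (toM permX))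
    (hy : f (toM permY) = Z.sv my * Z.psi (toM permY)) : ∀ L : List ℕ,
    derEval mx my L < 2 ^ 24 ∧ popCount (derEval mx my L) 24 % 2 = 0 ∧
      f (mList (perms L)) = Z.sv (derEval mx my L) * Z.psi (mList (perms L))
  | [] => ⟨by simp [derEval], by show popCount 0 24 % 2 = 0; decide, by
      rw [show mList (perms []) = 1 from rfl, map_one, map_one, mul_one, derEval]
      exact ((Z.sv_eq_one (by norm_num) (by decide)).2 (by decide +kernel)).symm⟩
  | k :: L => by
    obtain ⟨l, e, h⟩ := lift_word lx ex ly ey hx hy L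
    have step : ∀ (p : Elt) (m : ℕ), permOK p = true → m < 2 ^ 24 → popCount m 24 % 2 = 0 →
        f (toM p) = Z.sv m * Z.psi (toM p) →
        (m ^^^ imgMask p (derEval mx my L)) < 2 ^ 24 ∧
          popCount (m ^^^ imgMask p (derEval mx my L)) 24 % 2 = 0 ∧
          f (toM p * mList (perms L)) =
            Z.sv (m ^^^ imgMask p (derEval mx my L)) * Z.psi (toM p * mList (perms L)) := by
      intro p m hp lm em hm
      obtain ⟨il, ie⟩ := Sect.imgMask_ok hp e
      refine ⟨Nat.xor_lt_two_pow (n := 24) lm il, ?_, ?_⟩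
      · rw [← card_maskSet, maskSet_xor lm il, LargeFischer.Big.card_symmDiff_mod, card_maskSet, card_maskSet]
        omega
      · rw [map_mul, hm, h, Z.sv_xor lm il em ie, map_mul, ← Z.psi_sv hp e]
        group
    obtain ⟨-, -, -, okY, okX, -⟩ := rel_codes
    show derEval mx my (k :: L) < _ ∧ _ ∧ f (toM (if k = 0 then permX else permY) * mList (perms L)) =
      Z.sv (derEval mx my (k :: L)) * Z.psi (toM (if k = 0 then permX else permY) * mList (perms L))
    rw [derEval]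
    by_cases hk : k = 0
    · simp only [if_pos hk]; exact step _ _ okX lx ex hx
    · simp only [if_neg hk]; exact step _ _ okY ly ey hy

end Sect

namespace Framed

variable {G : Type*} [Group G] [Finite G] {z : G} (F : Framed z)

/-- An automorphism that is inner up to an inner one is inner. -/
theorem inner_step {g : G} {α : MulAut G} (h : ∃ k, (MulAut.conj g)⁻¹ * α = MulAut.conj k) :
    ∃ k, α = MulAut.conj k := by
  obtain ⟨k, hk⟩ := h
  exact ⟨g * k, by rw [map_mul, ← hk, mul_inv_cancel_left]⟩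

/-- An automorphism fixing the copy of the Mathieu group and the transvection is trivial. -/
theorem eq_one_of_fix [IsSimpleGroup G] (hG : ¬ IsMulCommutative G) {P : Subgroup G}
    (hJ : Cfsg.IsOfJankoFourTypeWith z P) {β : MulAut G} (hψ : ∀ σ, β (F.X.Z.psi σ) = F.X.Z.psi σ)
    (ht : β (F.X.tr 8) = F.X.tr 8) : β = 1 := by
  have hord := order_of_type hG ⟨z, P, hJ⟩
  have h := F.eq_top hG hJ hord (H := β.toMonoidHom.eqLocus (MonoidHom.id G))
    (by rintro _ ⟨σ, rfl⟩; exact hψ σ) (by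
      show β F.tP = F.tP
      rw [tP, map_mul, map_mul, map_inv, hψ, ht])
  refine MulEquiv.ext fun x => ?_
  exact (h ▸ mem_top x : x ∈ β.toMonoidHom.eqLocus (MonoidHom.id G))

/-- An automorphism fixing the copy of the Mathieu group up to the twist fixes the transvection up to the
subgroup of order 1024. -/
theorem tr_shift {β : MulAut G} (hc : ∀ w < 1024, β (F.X.Z.c w) = F.X.Z.c w) :
    ∃ n < 1024, β (F.X.tr 8) = F.X.Z.c n * F.X.tr 8 ∧ app (tauC 8) n = n := by
  set Z := F.X.Z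
  set T := F.X.tr 8
  have h8 : (8 : ℕ) < 16 := by norm_num
  have hT : T * T = 1 := F.X.tr_sq h8
  have hTi : T⁻¹ = T := inv_eq_of_mul_eq_one_right hT
  have hA : β T * T⁻¹ ∈ Z.A := Z.centralizer_A.le (mem_centralizer_iff.2 (by
    rintro _ ⟨v, hv, rfl⟩
    obtain ⟨hw, e⟩ := F.X.tr_acts h8 v hv
    have e2 : T * Z.c (app (tauC 8) v) * T⁻¹ = Z.c v := by
      rw [← e]
      calc T * (T * Z.c v * T⁻¹) * T⁻¹ = (T * T) * Z.c v * (T * T)⁻¹ := by group
        _ = _ := by rw [hT]; group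
    have e3 : β T * Z.c (app (tauC 8) v) * (β T)⁻¹ = Z.c v := by
      have := congrArg β e2
      rwa [map_mul, map_mul, map_inv, hc _ hw, hc _ hv] at this
    calc Z.c v * (β T * T⁻¹) = (β T * Z.c (app (tauC 8) v) * (β T)⁻¹) * β T * T⁻¹ := by rw [e3]; group
      _ = β T * T⁻¹ * (T * Z.c (app (tauC 8) v) * T⁻¹) := by group
      _ = _ := by rw [e2]))
  obtain ⟨n, hn, he⟩ := hA
  have hβ : β T = Z.c n * T := by rw [he]; group
  refine ⟨n, hn, hβ, ?_⟩
  obtain ⟨hn', e⟩ := F.X.tr_acts h8 n hn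
  have h2 : β T * β T = 1 := by rw [← map_mul, hT, map_one]
  rw [hβ] at h2
  have h3 : Z.c (n ^^^ app (tauC 8) n) = 1 := by
    rw [Z.c_xor hn hn', ← e, ← h2, hTi]
    group
    rfl
  exact (Nat.xor_eq_zero_iff.1 (Z.c_eq_one (Nat.xor_lt_two_pow (n := 10) hn hn') h3)).symm

/-- The equation of a datum fixing the eighth functional. -/
theorem shift_eq {β : MulAut G} {n u : ℕ} (hn : n < 1024) (hu : u < 1024)
    (hβ : β (F.X.tr 8) = F.X.Z.c n * F.X.tr 8) {d : SData} (hd : d ∈ allData) (hconj : conjB d.2.2.2 8 8 = true)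
    (hcols : colsOK d.1 d.2.2.2 = true) (hk : β (F.X.Z.psi (toM d.1)) = F.X.Z.c u * F.X.Z.psi (toM d.1)) :
    u ^^^ app d.2.2.2 n ^^^ app (tauC 8) u = n := by
  set Z := F.X.Z
  set T := F.X.tr 8
  set k := Z.psi (toM d.1)
  have h8 : (8 : ℕ) < 16 := by norm_num
  have hTi : T⁻¹ = T := F.X.tr_inv h8
  have hfix : k * T * k⁻¹ = T := F.X.conj_tr hd h8 h8 hconj
  obtain ⟨hCn, eC⟩ := Z.psi_acts (Rig.data_ok hd) hcols n hn
  obtain ⟨htu, et⟩ := F.X.tr_acts h8 u hu
  have hui : (Z.c u)⁻¹ = Z.c u := inv_eq_of_mul_eq_one_right (Z.c_sq hu)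
  have h := congrArg β hfix
  rw [map_mul, map_mul, map_inv, hk, hβ] at h
  have h' : Z.c u * Z.c (app d.2.2.2 n) * Z.c (app (tauC 8) u) * T = Z.c n * T := by
    rw [← h, ← eC, ← et]
    calc Z.c u * (k * Z.c n * k⁻¹) * (T * Z.c u * T⁻¹) * T
        = Z.c u * (k * Z.c n * k⁻¹) * T * Z.c u := by group
      _ = Z.c u * (k * Z.c n * k⁻¹) * (k * T * k⁻¹) * Z.c u := by rw [hfix]
      _ = Z.c u * k * (Z.c n * T) * k⁻¹ * (Z.c u)⁻¹ := by rw [hui]; group
      _ = _ := by group
  refine Z.c_inj (Nat.xor_lt_two_pow (n := 10) (Nat.xor_lt_two_pow (n := 10) hu hCn) htu) hn ?_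
  rw [Z.c_xor (Nat.xor_lt_two_pow (n := 10) hu hCn) htu, Z.c_xor hu hCn]
  exact mul_right_cancel h'

/-- An automorphism fixing the copy of the Mathieu group and the large abelian subgroup is trivial. -/
theorem eq_one_of_psi [IsSimpleGroup G] (hG : ¬ IsMulCommutative G) {P : Subgroup G}
    (hJ : Cfsg.IsOfJankoFourTypeWith z P) {β : MulAut G} (hV : ∀ v ∈ F.X.Z.V, β v = v)
    (hψ : ∀ σ, β (F.X.Z.psi σ) = F.X.Z.psi σ) : β = 1 := by
  have hc : ∀ w < 1024, β (F.X.Z.c w) = F.X.Z.c w := fun w _ => by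
    rw [Sect.c, map_mul, hV _ (F.X.Z.sv_mem _), hψ]
  obtain ⟨n, hn, hβ, hτ⟩ := F.tr_shift hc
  have hn0 : n = 0 := fix_eight n hn hτ (List.all_eq_true.2 fun d hd => by
    obtain ⟨hcols, hmem⟩ := fixEight_cols d hd
    have hconj : conjB d.2.2.2 8 8 = true := (List.mem_filter.1 hd).2
    have h := F.shift_eq (u := 0) hn (by norm_num) hβ hmem hconj hcols (by rw [hψ, F.X.Z.c_zero, one_mul])
    rw [J4Module.app_zero, Nat.zero_xor, Nat.xor_zero] at h
    exact beq_iff_eq.2 h)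
  rw [hn0, F.X.Z.c_zero, one_mul] at hβ
  exact F.eq_one_of_fix hG hJ hψ hβ

/-- The twist does not extend. -/
theorem not_twist {β : MulAut G} (hV : ∀ v ∈ F.X.Z.V, β v = v)
    (hψ : ∀ σ, β (F.X.Z.psi σ) = F.X.Z.twHom σ) : False := by
  have hc : ∀ w < 1024, β (F.X.Z.c w) = F.X.Z.c w := fun w hw => by
    rw [Sect.c, map_mul, hV _ (F.X.Z.sv_mem _), hψ]
    exact congrArg _ (F.X.Z.twist_evM (uMask_even w hw).2.2)
  obtain ⟨n, hn, hβ, -⟩ := F.tr_shift hc
  obtain ⟨hconj, hmem, hcols, hl, hcode⟩ := twist_none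
  have hk : β (F.X.Z.psi (toM elFw0.1)) = F.X.Z.c 161 * F.X.Z.psi (toM elFw0.1) := by
    rw [hψ]
    exact F.X.Z.twist_gen (Rig.data_ok hmem) (by norm_num) hl (by rwa [twMask] at hcode)
  have h := F.shift_eq hn (by norm_num) hβ hmem hconj hcols hk
  have h' := twist_moves n hn
  rw [h] at h'
  simp at h'

/-- An automorphism centralising the large abelian subgroup and the quotient of its normaliser is inner. -/
theorem inner_of_cocycle [IsSimpleGroup G] (hG : ¬ IsMulCommutative G) {P : Subgroup G}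
    (hJ : Cfsg.IsOfJankoFourTypeWith z P) {β : MulAut G} (hV : ∀ v ∈ F.X.Z.V, β v = v)
    (hmod : ∀ σ, β (F.X.Z.psi σ) * (F.X.Z.psi σ)⁻¹ ∈ F.X.Z.V) : ∃ k, β = MulAut.conj k := by
  classical
  set Z := F.X.Z
  obtain ⟨rX, rY, hXP, okY, okX, okP⟩ := rel_codes
  set Pσ := toM permP
  set X := Z.psi (toM permX)
  set PP := Z.psi Pσ with hPP
  have vcomm : ∀ a ∈ Z.V, ∀ b ∈ Z.V, a * b = b * a := fun a ha b hb =>
    mem_centralizer_iff.1 (Z.D.cent.ge hb) a ha
  have hnorm : ∀ a ∈ Z.V, PP * a * PP⁻¹ ∈ Z.V := fun a ha =>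
    (mem_normalizer_iff.1 (Z.psi_mem Pσ) a).1 ha
  let f : ↥Z.V → ↥Z.V := fun v => ⟨(v : G) * (PP * v * PP⁻¹), mul_mem v.2 (hnorm v v.2)⟩
  have hinj : Function.Injective f := by
    intro a b e
    have e' : (a : G) * (PP * a * PP⁻¹) = b * (PP * b * PP⁻¹) := congrArg Subtype.val e
    have hbi : (b : G)⁻¹ = b := inv_eq_of_mul_eq_one_right (Z.D.sq _ b.2)
    set w := (a : G) * b with hw
    have hwV : w ∈ Z.V := mul_mem a.2 b.2
    have hwfix : w * (PP * w * PP⁻¹) = 1 := by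
      calc w * (PP * w * PP⁻¹) = (a : G) * ((b : G) * (PP * a * PP⁻¹)) * (PP * b * PP⁻¹) := by rw [hw]; group
        _ = ((a : G) * (PP * a * PP⁻¹)) * ((b : G) * (PP * b * PP⁻¹)) := by
            rw [vcomm _ b.2 _ (hnorm _ a.2)]; group
        _ = _ := by rw [e']; exact Z.D.sq _ (mul_mem b.2 (hnorm _ b.2))
    obtain ⟨i, hi, hiw⟩ := Z.exists_rep hwV
    obtain ⟨ei, li, -⟩ := rep_spec i hi
    obtain ⟨il, ie⟩ := Sect.imgMask_ok okP ei
    rw [← hiw, hPP, Z.psi_sv okP ei, ← Z.sv_xor li il ei ie] at hwfix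
    have hev : popCount (app repCols i ^^^ imgMask permP (app repCols i)) 24 % 2 = 0 := by
      rw [← card_maskSet, Sect.maskSet_xor li il, LargeFischer.Big.card_symmDiff_mod, card_maskSet, card_maskSet]
      omega
    have hi0 := no_fix i hi ((Z.sv_eq_one (Nat.xor_lt_two_pow (n := 24) li il) hev).1 hwfix)
    have hw1 : w = 1 := by
      rw [← hiw, hi0, J4Module.app_zero]
      exact (Z.sv_eq_one (by norm_num) (by decide)).2 (by decide +kernel)
    refine Subtype.ext ?_
    rw [hw, mul_eq_one_iff_eq_inv, hbi] at hw1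
    exact hw1
  obtain ⟨v, hv⟩ := (Finite.injective_iff_surjective.1 hinj) ⟨_, hmod Pσ⟩
  have hv' : (v : G) * (PP * v * PP⁻¹) = β PP * PP⁻¹ := congrArg Subtype.val hv
  have hvi : (v : G)⁻¹ = v := inv_eq_of_mul_eq_one_right (Z.D.sq _ v.2)
  refine inner_step (g := (v : G)) ?_
  set γ := (MulAut.conj (v : G))⁻¹ * β with hγ
  have hγa : ∀ x, γ x = (v : G) * β x * v := fun x => by
    rw [hγ, MulAut.mul_apply, ← map_inv, MulAut.conj_apply, hvi, hvi]
  have hγV : ∀ a ∈ Z.V, γ a = a := fun a ha => by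
    rw [hγa, hV a ha, vcomm _ v.2 _ ha, mul_assoc, Z.D.sq _ v.2, mul_one]
  have hγP : γ PP = PP := by
    rw [hγa, show β PP = (v : G) * (PP * v * PP⁻¹) * PP by rw [hv']; group]
    calc (v : G) * ((v : G) * (PP * v * PP⁻¹) * PP) * v = (v * v) * PP * (v * v) := by group
      _ = _ := by rw [Z.D.sq _ v.2, one_mul, mul_one]
  have hγmem : γ X * X⁻¹ ∈ Z.V := by
    rw [hγa]
    have := mul_mem (mul_mem v.2 (hmod (toM permX))) ((mem_normalizer_iff.1 (Z.psi_mem (toM permX)) _).1 v.2)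
    convert this using 1
    group
    rfl
  obtain ⟨i, hi, hiX⟩ := Z.exists_rep hγmem
  obtain ⟨em, lm, -⟩ := rep_spec i hi
  obtain ⟨ly, ey⟩ := Sect.imgMask_ok okX em
  set mx := app repCols i with hmx
  set f' : ↥M24 →* G := γ.toMonoidHom.comp Z.psi
  have hfx : f' (toM permX) = Z.sv mx * Z.psi (toM permX) := by
    show γ X = _ * X; rw [hiX]; group
  have hX2 : toM permX * toM permX = 1 := by
    have := mList_eq (L := [permX, permX]) (L' := []) (by simp [okX]) (by simp) rX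
    simpa [mList] using this
  have hY : toM permX * Pσ = toM permY := by
    have := mList_eq (L := [permX, permP]) (L' := [permY]) (by simp [okX, okP]) (by simp [okY]) (by
      rw [hXP]; decide +kernel)
    simpa [mList] using this
  have hfy : f' (toM permY) = Z.sv (imgMask permX mx) * Z.psi (toM permY) := by
    rw [← hY, map_mul, show f' Pσ = PP from hγP, map_mul Z.psi, ← hPP, ← Z.psi_sv okX em]
    have hXi : f' (toM permX) = (f' (toM permX))⁻¹ :=
      (inv_eq_of_mul_eq_one_right (by rw [← map_mul, hX2, map_one])).symm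
    rw [hXi, hfx, _root_.mul_inv_rev, inv_eq_of_mul_eq_one_right (Z.sv_sq mx)]
    have hXX : X⁻¹ = X := inv_eq_of_mul_eq_one_right (by rw [← map_mul, hX2, map_one])
    show X⁻¹ * Z.sv mx * PP = X * Z.sv mx * X⁻¹ * (X * PP)
    rw [hXX]
    calc X * Z.sv mx * PP = X * Z.sv mx * (X * X) * PP := by
          rw [show X * X = 1 by rw [← map_mul, hX2, map_one], mul_one]
      _ = _ := by group
  have rel : ∀ L : List ℕ, (eltWord (Sect.perms L)).1 = idCode 5 24 →
      inCode (derEval mx (imgMask permX mx) L) = true := by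
    intro L hL
    obtain ⟨l, e, h⟩ := Z.lift_word lm em ly ey hfx hfy L
    have h1 : mList (Sect.perms L) = 1 := mList_eq (L' := []) (by
      intro a ha
      obtain ⟨k, -, rfl⟩ := List.mem_map.1 ha
      split
      · exact okX
      · exact okY) (by simp) hL
    rw [h1, map_one, map_one, mul_one] at h
    exact (Z.sv_eq_one l e).1 h.symm
  rcases deriv_cases i hi (rel [0, 0] rX) (rel [1, 1, 1] rY) with h0 | h636
  · refine ⟨1, ?_⟩
    rw [map_one]
    refine F.eq_one_of_psi hG hJ hγV fun σ => DFunLike.congr_fun (hom_ext (f := f') (f' := Z.psi) ?_ ?_) σ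
    · rw [hfx, hmx, h0, J4Module.app_zero, (Z.sv_eq_one (by norm_num) (by decide)).2 (by decide +kernel), one_mul]
    · rw [hfy, hmx, h0, J4Module.app_zero,
        (Z.sv_eq_one (by decide +kernel) (by decide +kernel)).2 (by decide +kernel), one_mul]
  · exfalso
    subst h636
    obtain ⟨eq, lq, -⟩ := rep_spec 1763 (by norm_num)
    set q := app repCols 1763 with hq
    obtain ⟨sX, sY⟩ := shift_spec
    set δ := MulAut.conj (Z.sv q) * γ with hδ
    have hqi : (Z.sv q)⁻¹ = Z.sv q := inv_eq_of_mul_eq_one_right (Z.sv_sq q)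
    have hδa : ∀ x, δ x = Z.sv q * γ x * Z.sv q := fun x => by
      rw [hδ, MulAut.mul_apply, MulAut.conj_apply, hqi]
    have hδV : ∀ a ∈ Z.V, δ a = a := fun a ha => by
      rw [hδa, hγV a ha, vcomm _ (Z.sv_mem q) _ ha, mul_assoc, Z.sv_sq, mul_one]
    have shift : ∀ (e : Elt) (m : ℕ), permOK e = true → m < 2 ^ 24 → popCount m 24 % 2 = 0 →
        f' (toM e) = Z.sv m * Z.psi (toM e) → inCode (m ^^^ q ^^^ imgMask e q ^^^ twMask e) = true →
        δ (Z.psi (toM e)) = Z.twHom (toM e) := by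
      intro e m he lm' em' hm hcode
      obtain ⟨il, ie⟩ := Sect.imgMask_ok he eq
      obtain ⟨tl, te⟩ := Sect.twMask_ok he
      have l1 : m ^^^ q < 2 ^ 24 := Nat.xor_lt_two_pow (n := 24) lm' lq
      have e1 : popCount (m ^^^ q) 24 % 2 = 0 := by
        rw [← card_maskSet, Sect.maskSet_xor lm' lq, LargeFischer.Big.card_symmDiff_mod, card_maskSet, card_maskSet]
        omega
      have e2 : popCount (m ^^^ q ^^^ imgMask e q) 24 % 2 = 0 := by
        rw [← card_maskSet, Sect.maskSet_xor l1 il, LargeFischer.Big.card_symmDiff_mod, card_maskSet, card_maskSet]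
        omega
      rw [hδa, show γ (Z.psi (toM e)) = Z.sv m * Z.psi (toM e) from hm, Z.twHom_mask he,
        ← Z.sv_congr (Nat.xor_lt_two_pow (n := 24) l1 il) tl e2 te hcode, Z.sv_xor l1 il e1 ie,
        Z.sv_xor lm' lq em' eq, ← Z.psi_sv he eq, Z.sv_comm m q]
      group
    exact F.not_twist hδV fun σ =>
      DFunLike.congr_fun (hom_ext (f := δ.toMonoidHom.comp Z.psi) (f' := Z.twHom)
        (shift _ _ okX lm em hfx sX) (shift _ _ okY ly ey hfy sY)) σ

/-- An automorphism of the large abelian subgroup commuting with the Mathieu group is trivial. -/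
theorem fix_of_equivariant {β : MulAut G} (hVm : ∀ v ∈ F.X.Z.V, β v ∈ F.X.Z.V)
    (hmod : ∀ σ, β (F.X.Z.psi σ) * (F.X.Z.psi σ)⁻¹ ∈ F.X.Z.V) : ∀ v ∈ F.X.Z.V, β v = v := by
  classical
  set Z := F.X.Z
  set D := Z.D
  have equiv : ∀ σ, ∀ v ∈ Z.V, β (Z.psi σ * v * (Z.psi σ)⁻¹) = Z.psi σ * β v * (Z.psi σ)⁻¹ := by
    intro σ v hv
    set d := β (Z.psi σ) * (Z.psi σ)⁻¹ with hd
    have hd' : β (Z.psi σ) = d * Z.psi σ := by rw [hd]; group
    have hw : Z.psi σ * β v * (Z.psi σ)⁻¹ ∈ Z.V := (mem_normalizer_iff.1 (Z.psi_mem σ) _).1 (hVm v hv)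
    rw [map_mul, map_mul, map_inv, hd']
    calc d * Z.psi σ * β v * (d * Z.psi σ)⁻¹ = d * (Z.psi σ * β v * (Z.psi σ)⁻¹) * d⁻¹ := by group
      _ = (Z.psi σ * β v * (Z.psi σ)⁻¹) * d * d⁻¹ := by
          rw [mem_centralizer_iff.1 (D.cent.ge hw) d (hmod σ)]
      _ = _ := by group
  obtain ⟨l3, e3⟩ : (3 : ℕ) < 2 ^ 24 ∧ popCount 3 24 % 2 = 0 := by decide +kernel
  have h3 : β (Z.sv 3) = Z.sv 3 := by
    obtain ⟨i, hi, hiv⟩ := Z.exists_rep (hVm _ (Z.sv_mem 3))
    obtain ⟨ei, li, -⟩ := rep_spec i hi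
    have hall : (fixThree.all fun e => inCode (imgMask e (app repCols i) ^^^ app repCols i)) = true := by
      refine List.all_eq_true.2 fun e he => ?_
      obtain ⟨hok, hc⟩ := fixThree_spec e he
      obtain ⟨il, ie⟩ := Sect.imgMask_ok hok e3
      obtain ⟨il', ie'⟩ := Sect.imgMask_ok hok ei
      have h := equiv (toM e) _ (Z.sv_mem 3)
      rw [Z.psi_sv hok e3, Z.sv_congr il l3 ie e3 hc, ← hiv, Z.psi_sv hok ei] at h
      refine (Z.sv_eq_one (Nat.xor_lt_two_pow (n := 24) il' li) ?_).1 ?_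
      · rw [← card_maskSet, Sect.maskSet_xor il' li, LargeFischer.Big.card_symmDiff_mod, card_maskSet, card_maskSet]
        omega
      · rw [Z.sv_xor il' li ie' ei, ← h, Z.sv_sq]
    rcases fix_three i hi hall with rfl | hc
    · exfalso
      rw [J4Module.app_zero, (Z.sv_eq_one (by norm_num) (by decide)).2 (by decide +kernel), eq_comm,
        MulEquiv.map_eq_one_iff, Z.sv_eq_one l3 e3] at hiv
      exact absurd hiv (by decide +kernel)
    · rw [← hiv]; exact Z.sv_congr li l3 ei e3 hc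
  have duads : ∀ r : Finset GolayPt, r.card = 2 → β (D.eS r) = D.eS r := by
    intro r hr
    have hc : (maskSet 3).card = 2 := by rw [card_maskSet]; decide +kernel
    obtain ⟨g, hg⟩ := TwoCent.exists_map_finset (s := maskSet 3) (t := r) (by rw [hc, hr]) (by omega)
    have h := D.eS_equiv ⟨Z.psi g, Z.psi_mem g⟩ (maskSet 3) (by rw [hc]; decide)
    rw [Z.phi_psi] at h
    rw [show r = (maskSet 3).image ⇑(g : Equiv.Perm GolayPt) from hg.symm, ← h]
    show β (Z.psi g * Z.sv 3 * (Z.psi g)⁻¹) = _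
    rw [equiv g _ (Z.sv_mem 3)]
    exact congrArg (fun x => Z.psi g * x * (Z.psi g)⁻¹) h3
  intro v hv
  obtain ⟨s, hs, hs4, rfl⟩ := D.eS_surj v hv
  rw [Nat.even_iff] at hs
  rcases (show s.card = 0 ∨ s.card = 2 ∨ s.card = 4 by omega) with h | h | h
  · rw [Finset.card_eq_zero.1 h, show D.eS ∅ = 1 from D.cocode.kap_empty, map_one]
  · exact duads s h
  · obtain ⟨T, hT, hTc⟩ := Finset.exists_subset_card_eq (s := s) (n := 2) (by omega)
    have hc : (s \ T).card = 2 := by rw [Finset.card_sdiff_of_subset hT, h, hTc]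
    have e : s = symmDiff T (s \ T) := by
      ext x
      simp only [Finset.mem_symmDiff, Finset.mem_sdiff]
      constructor
      · intro hx; tauto
      · rintro (⟨hx, -⟩ | ⟨⟨hx, -⟩, -⟩)
        exacts [hT hx, hx]
    rw [e, D.eS_symmDiff _ _ (by rw [hTc]; decide) (by rw [hc]; decide), map_mul, duads T hTc, duads _ hc]

/-- An automorphism stabilising the large abelian subgroup is inner. -/
theorem inner_of_stable [IsSimpleGroup G] (hG : ¬ IsMulCommutative G) {P : Subgroup G}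
    (hJ : Cfsg.IsOfJankoFourTypeWith z P) {β : MulAut G} (hVm : F.X.Z.V.map β.toMonoidHom = F.X.Z.V) :
    ∃ k, β = MulAut.conj k := by
  set Z := F.X.Z
  have hN : (normalizer (Z.V : Set G)).map β.toMonoidHom = normalizer (Z.V : Set G) := by
    conv_rhs => rw [← hVm]
    exact map_equiv_normalizer_eq Z.V β
  have hmem : ∀ σ, β (Z.psi σ) ∈ normalizer (Z.V : Set G) := fun σ => hN.le ⟨_, Z.psi_mem σ, rfl⟩
  let b : ↥M24 →* ↥M24 := MonoidHom.mk' (fun σ => Z.D.phi ⟨β (Z.psi σ), hmem σ⟩) fun a c => by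
    rw [← map_mul]
    exact congrArg Z.D.phi (Subtype.ext (by simp))
  have binj : Function.Injective b := by
    rw [injective_iff_map_eq_one]
    intro σ hσ
    have h1 : β (Z.psi σ) ∈ Z.V := by
      have h : (⟨β (Z.psi σ), hmem σ⟩ : ↥(normalizer (Z.V : Set G))) ∈ Z.D.phi.ker := hσ
      rwa [Z.D.phi_ker, mem_subgroupOf] at h
    rw [← hVm] at h1
    obtain ⟨v, hv, e⟩ := h1
    have h2 : Z.psi σ ∈ Z.V := β.injective e ▸ hv
    have h3 : Z.D.phi ⟨Z.psi σ, Z.psi_mem σ⟩ = 1 := by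
      rw [← MonoidHom.mem_ker, Z.D.phi_ker, mem_subgroupOf]; exact h2
    rwa [Z.phi_psi] at h3
  obtain ⟨m, hm⟩ := exists_conj_M24 (MulEquiv.ofBijective b (Finite.injective_iff_bijective.1 binj))
  refine inner_step (g := Z.psi m) ?_
  set γ := (MulAut.conj (Z.psi m))⁻¹ * β with hγ
  have hγa : ∀ x, γ x = (Z.psi m)⁻¹ * β x * Z.psi m := fun x => by
    rw [hγ, MulAut.mul_apply, ← map_inv, MulAut.conj_apply, inv_inv]
  have hγV : ∀ v ∈ Z.V, γ v ∈ Z.V := fun v hv => by
    rw [hγa]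
    have h := (mem_normalizer_iff.1 (inv_mem (Z.psi_mem m)) _).1 (hVm.le ⟨v, hv, rfl⟩ : β v ∈ Z.V)
    simpa using h
  have hmod : ∀ σ, γ (Z.psi σ) * (Z.psi σ)⁻¹ ∈ Z.V := by
    intro σ
    have hb : Z.D.phi ⟨β (Z.psi σ), hmem σ⟩ = m * σ * m⁻¹ := DFunLike.congr_fun hm σ
    have h : (⟨Z.psi m, Z.psi_mem m⟩⁻¹ * ⟨β (Z.psi σ), hmem σ⟩ * ⟨Z.psi m, Z.psi_mem m⟩ *
        ⟨Z.psi σ, Z.psi_mem σ⟩⁻¹ : ↥(normalizer (Z.V : Set G))) ∈ Z.D.phi.ker := by
      rw [MonoidHom.mem_ker, map_mul, map_mul, map_mul, map_inv, map_inv, hb, Z.phi_psi, Z.phi_psi]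
      group
    rw [Z.D.phi_ker, mem_subgroupOf] at h
    rw [hγa]
    simpa using h
  exact F.inner_of_cocycle hG hJ (F.fix_of_equivariant hγV hmod) hmod

end Framed

/-- **Every automorphism of a simple group of Janko-four type is inner.** -/
theorem card_out_of_type {G : Type*} [Group G] [Finite G] [IsSimpleGroup G] (hG : ¬ IsMulCommutative G)
    (hJ : Cfsg.IsOfJankoFourType G) : Nat.card (Cfsg.Out G) = 1 := by
  obtain ⟨z, P, hP⟩ := hJ
  obtain ⟨F⟩ := exists_frame hG hP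
  set Z := F.X.Z
  refine Nat.card_eq_one_iff_unique.2 ⟨⟨fun a b => ?_⟩, ⟨1⟩⟩
  suffices h : ∀ a : Cfsg.Out G, a = 1 by rw [h a, h b]
  intro a
  obtain ⟨α, rfl⟩ := QuotientGroup.mk_surjective a
  refine (QuotientGroup.eq_one_iff α).2 ?_
  suffices h : ∃ k, α = MulAut.conj k by
    obtain ⟨k, rfl⟩ := h
    exact ⟨k, rfl⟩
  have hcard : Nat.card ↥(Z.V.map α.toMonoidHom) = 2048 := by
    rw [card_map_of_injective α.injective, Z.D.card]
  obtain ⟨g, hg⟩ := Z.D.conjugate _ (elem_ab_map Z.D.sq α) hcard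
  refine Framed.inner_step (g := g) (F.inner_of_stable hG hP ?_)
  rw [show ((MulAut.conj g)⁻¹ * α).toMonoidHom = ((MulAut.conj g)⁻¹).toMonoidHom.comp α.toMonoidHom from rfl,
    ← map_map, hg, map_map]
  refine (Subgroup.ext fun x => ?_).trans (Subgroup.map_id _)
  simp [mul_assoc, Z]

end Cfsg.Agent.JankoFour.Recog
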