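import Cfsg.Agent.Lib.JankoFour.Recog.TauChecks

/-!
Decidable facts for the commutators of the transvections of two octads of the standard trio: the seven vectors of the
sextets refining the trio, the relations with the element cycling it, and the data moving the functionals.
-/

set_option autoImplicit false
set_option maxRecDepth 100000
set_option synthInstance.maxSize 4000
set_option synthInstance.maxHeartbeats 200000

namespace Cfsg.Agent.JankoFour.Recog

open Cfsg.Agent.Golay Cfsg.Agent.PermCert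
open Cfsg.Agent.J4Module (app of_chunks)

/-- The vectors of the sextets refining the standard trio. -/
def yTab : List ℕ := [0, 128, 32, 160, 16, 144, 48, 176]

/-- The vector of a sextet. -/
def yW (j : ℕ) : ℕ := yTab.getD j 0

/-- The translation of the commutator of a sextet and a functional. -/
def yLab (j l : ℕ) : ℕ := eLab (yW j ^^^ app (tauC l) (yW j))

theorem yW_ok : ∀ j < 8, yW j < 1024 ∧ eLab (yW j) = 0 ∧ (yW j = 0 → j = 0) ∧
    inCode (imgMask permGam (uMask (yW j)) ^^^ uMask (yW j)) = true ∧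
    ∀ k < 8, yW (j ^^^ k) = yW j ^^^ yW k := by decide +kernel

theorem yLab_ok : (∀ j < 8, ∀ l < 16, app (tauC l) (yW j) = yW j ^^^ eW (yLab j l) ∧ yLab j l < 16 ∧
    yLab j l % 2 = 0 ∧ app (tauC l) (yW j) < 1024) ∧ yLab 4 13 = 2 ∧ ∀ j < 8, app (tauC 1) (yW j) = yW j := by
  decide +kernel

theorem even_evB : ∀ v < 16, v % 2 = 0 →
    (mul 5 24 (mul 5 24 (evElt v) (mul 5 24 permGam (evElt v))) (one 5 24)).1 =
      (mul 5 24 (mul 5 24 (mul 5 24 permGam permGam) (evElt v)) (mul 5 24 permGam (mul 5 24 permGam (one 5 24)))).1 := by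
  decide +kernel

/-- The matrix of a power of the element of order seven. -/
def sPow : ℕ → List ℕ
  | 0 => unitW
  | k + 1 => mulC elS.2.2.2 (sPow k)

/-- Some power of the element of order seven carries one functional to another or to its translate. -/
def sReach (a b : ℕ) : Bool := (List.range 7).any fun k => conjB (sPow k) a b || conjB (sPow k) a (b ^^^ 1)

theorem sReach_ok : ∀ a < 16, ∀ b < 16, a % 2 = 0 → b % 2 = 0 → a ≠ 0 → b ≠ 0 → sReach a b = true := by
  decide +kernel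

theorem sPow_y : ∀ k < 7, ∀ j < 8, ∃ i < 8, app (sPow k) (yW j) = yW i := by decide +kernel

/-- The pairs of elements fixing a functional and only one sextet. -/
def fixPairs : List (ℕ × SData × SData) :=
  [(8, elFp80, elFp81), (10, elFp100, elFp101), (6, elFp60, elFp61), (12, elFp130, elFp131)]

theorem fixPairs_ok : ∀ q ∈ fixPairs, q.1 < 16 ∧ q.1 % 2 = 0 ∧ q.1 ≠ 0 ∧
    (∀ d ∈ [q.2.1, q.2.2], d ∈ allData ∧ conjB d.2.2.2 q.1 q.1 = true ∧ conjB d.2.2.2 1 1 = true) ∧
    ∀ j < 8, app q.2.1.2.2.2 (yW j) = yW j → app q.2.2.2.2.2 (yW j) = yW j → j = 0 ∨ j = q.1 / 2 := by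
  decide +kernel

theorem comm_mem : ∀ d ∈ [elS, elE810, elM10, elM6, elFf, elD200, elD201, elD210, elD211, elD2S, elD2K, elK2, elK8],
    d ∈ allData := by decide +kernel

theorem comm_conj : conjB elK2.2.2.2 1 2 = true ∧ conjB elE810.2.2.2 1 1 = true ∧ conjB elE810.2.2.2 8 10 = true ∧
    conjB elM10.2.2.2 8 8 = true ∧ conjB elM10.2.2.2 13 10 = true ∧ conjB elM10.2.2.2 1 1 = true ∧
    conjB elM6.2.2.2 8 8 = true ∧ conjB elM6.2.2.2 13 6 = true ∧ conjB elM6.2.2.2 1 1 = true ∧
    conjB elFf.2.2.2 10 11 = true := by decide +kernel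

theorem split_conj : (∀ d ∈ [elD200, elD201, elD210, elD211, elD2S], conjB d.2.2.2 2 2 = true) ∧
    conjB elD2K.2.2.2 2 1 = true ∧ elS.2.1 = 0 ∧ conjB elK8.2.2.2 1 8 = true := by decide +kernel

theorem comm_perms : (mul 5 24 permGam elE810.1).1 = (mul 5 24 elE810.1 permGam).1 ∧
    (mul 5 24 permGam elM10.1).1 = (mul 5 24 elM10.1 permGam).1 ∧
    (mul 5 24 permGam elM6.1).1 = (mul 5 24 elM6.1 permGam).1 ∧
    (mul 5 24 elM10.1 (evElt 2)).1 = (mul 5 24 (evElt 4) elM10.1).1 ∧
    (mul 5 24 elM6.1 (evElt 2)).1 = (mul 5 24 (evElt 6) elM6.1).1 ∧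
    (mul 5 24 permGam (evElt 2)).1 = (mul 5 24 elFf.1 permGam).1 := by decide +kernel

/-- A word in coded permutations. -/
def eltWord (L : List Elt) : Elt := L.foldr (fun a r => mul 5 24 a r) (one 5 24)

/-- The element carrying the standard trio's conjugates along. -/
def wordK2 : List Elt := [elK2.1, permGam, elK2.1, elK2.1]

theorem split_perms : (eltWord [elK2.1, elK2.1, elK2.1]).1 = idCode 5 24 ∧
    (eltWord ([elD200.1] ++ wordK2 ++ wordK2 ++ [permGam])).1 = (eltWord ([permGam, elD201.1] ++ wordK2)).1 ∧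
    (eltWord ([elD210.1] ++ wordK2 ++ wordK2 ++ [permGam])).1 = (eltWord ([permGam, elD211.1] ++ wordK2)).1 ∧
    (eltWord [permGam, permGam, elD2K.1]).1 =
      (eltWord ([elD200.1] ++ wordK2 ++ wordK2 ++ [permGam, permGam, elD2S.1, permGam] ++
        [elD210.1] ++ wordK2 ++ wordK2 ++ [permGam, permGam])).1 := by
  decide +kernel

theorem fixPairs_y : ∀ q ∈ fixPairs, ∀ d ∈ [q.2.1, q.2.2], ∀ j < 8, ∃ i < 8, app d.2.2.2 (yW j) = yW i := by
  decide +kernel

theorem swap_ok : elSw ∈ allData ∧ (mul 5 24 permGam elSw.1).1 = (mul 5 24 elSw.1 permGam).1 ∧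
    conjB elSw.2.2.2 10 8 = true ∧ conjB elSw.2.2.2 8 6 = true := by decide +kernel

theorem tau_moves : ∀ l < 16, l ≠ 0 → ∃ i : Fin 10, app (tauC l) (2 ^ i.1) ≠ 2 ^ i.1 := by decide +kernel

theorem code64 : ∀ m < 64, ∀ n < 64, (m ^^^ n) % 8 = m % 8 ^^^ n % 8 ∧ (m ^^^ n) / 8 = m / 8 ^^^ n / 8 ∧
    2 * (m / 8 ^^^ n / 8) = 2 * (m / 8) ^^^ 2 * (n / 8) := by decide +kernel

end Cfsg.Agent.JankoFour.Recog
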