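import Cfsg.Agent.Lib.JankoFour.Recog.Gamma
import Cfsg.Agent.Lib.JankoFour.SevenLocal
import Cfsg.Agent.Lib.JankoFour.Final
import Cfsg.Agent.Lib.JankoFour.HintoFusion

/-!
The local structure at seven needed for the recognition, in a simple group of Janko-four type.
-/

set_option autoImplicit false
set_option linter.unusedSectionVars false

namespace Cfsg.Agent.JankoFour.Recog

open Subgroup
open Cfsg.Agent.J4Module (app)

variable {G : Type*} [Group G] [Finite G]

/-- An element of order seven centralising the involution and the subgroup of order three. -/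
theorem exists_seven_cent {z : G} {P : Subgroup G} (M : Model z P) :
    ∃ c : ↥(centralizer ({z} : Set G)), orderOf c = 7 ∧ (c : G) ∈ centralizer (P : Set G) := by
  have : Fact (Nat.Prime 7) := ⟨by norm_num⟩
  obtain ⟨c, hcP, hc⟩ := M.cent_elem Seven.sevC Seven.sevC_K
  have hP : ((c ^ 7 : ↥(centralizer ({z} : Set G))) : G) ∈ centralizer (P : Set G) := by
    rw [SubmonoidClass.coe_pow]; exact pow_mem hcP 7
  have h7 : c ^ 7 ∈ M.Q := M.mem_Q _ (Seven.basis_spec.2.1 ▸ M.acts_pow hc 7)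
  have h14 : c ^ 14 = 1 := by
    rw [show (14 : ℕ) = 7 + 7 from rfl, pow_add]
    rcases M.cent_Q h7 hP with e | e <;> rw [e]
    · exact one_mul _
    · exact M.zz
  have hp : (c ^ 8) ^ 7 = 1 := by rw [← pow_mul, show 8 * 7 = 14 * 4 from rfl, pow_mul, h14, one_pow]
  have ha : M.Acts (c ^ 8) Seven.sevC := by
    have h := M.acts_pow hc 8
    rwa [Seven.powC_eight] at h
  refine ⟨c ^ 8, orderOf_eq_prime hp fun e => ?_, by rw [SubmonoidClass.coe_pow]; exact pow_mem hcP 8⟩
  exact Seven.basis_spec.2.2.1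
    (M.acts_unique (gen_length Seven.sevC_K) (by decide) ha (e ▸ M.acts_one))

/-- An internal direct product maps onto its second factor. -/
theorem exists_proj {S I K : Subgroup G} (h : Cfsg.IsInternalDirectProduct S I K) :
    ∃ π : ↥K →* ↥I, ∀ g : ↥K, π g = 1 → (g : G) ∈ S := by
  obtain ⟨hS, hI, hc, hd, hsup⟩ := h
  have hnorm : I ≤ normalizer (S : Set G) := fun i hi => centralizer_le_normalizer _
    (mem_centralizer_iff.2 fun a ha => hc a ha i hi)
  let f : ↥S × ↥I →* ↥K := MonoidHom.mk' (fun p => ⟨(p.1 : G) * p.2, mul_mem (hS p.1.2) (hI p.2.2)⟩) fun p q =>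
    Subtype.ext (by
      show (p.1 : G) * q.1 * (p.2 * q.2) = p.1 * p.2 * (q.1 * q.2)
      rw [mul_assoc, ← mul_assoc (q.1 : G), hc _ q.1.2 _ p.2.2]
      group)
  have hinj : Function.Injective f := by
    rw [injective_iff_map_eq_one]
    intro p hp
    have e : (p.1 : G) * p.2 = 1 := congrArg Subtype.val hp
    have h1 : (p.1 : G) ∈ S ⊓ I := mem_inf.2 ⟨p.1.2, by rw [eq_inv_of_mul_eq_one_left e]; exact inv_mem p.2.2⟩
    rw [hd, mem_bot] at h1
    rw [h1, one_mul] at e
    exact Prod.ext (Subtype.ext h1) (Subtype.ext e)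
  have hsurj : Function.Surjective f := by
    intro g
    have hg : (g : G) ∈ S ⊔ I := by rw [hsup]; exact g.2
    rw [← SetLike.mem_coe, Subgroup.coe_mul_of_right_le_normalizer_left _ _ hnorm] at hg
    obtain ⟨a, ha, b, hb, e⟩ := Set.mem_mul.1 hg
    exact ⟨(⟨a, ha⟩, ⟨b, hb⟩), Subtype.ext e⟩
  let e := MulEquiv.ofBijective f ⟨hinj, hsurj⟩
  refine ⟨(MonoidHom.snd ↥S ↥I).comp e.symm.toMonoidHom, fun g hg => ?_⟩
  have hfg : f (e.symm g) = g := e.apply_symm_apply g
  have h2 : (e.symm g).2 = 1 := hg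
  rw [← hfg]
  show ((e.symm g).1 : G) * ((e.symm g).2 : G) ∈ S
  rw [h2, OneMemClass.coe_one, mul_one]
  exact (e.symm g).1.2

/-- The local structure at seven holds. -/
theorem sevenHyp [IsSimpleGroup G] (hG : ¬ IsMulCommutative G) {z : G} {P : Subgroup G}
    (hJ : Cfsg.IsOfJankoFourTypeWith z P) : SevenHyp z := by
  have : Fact (Nat.Prime 7) := ⟨by norm_num⟩
  obtain ⟨M, B, ⟨F⟩⟩ := exists_facts hJ
  obtain ⟨hT, hcard⟩ := F.coords.classify (B.exists_fused hG)
  obtain ⟨D⟩ := F.exists_pack hG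
  intro x s hx hs hsx
  obtain ⟨k, hk⟩ := isConj_iff.1 hx.symm
  set s' := k * s * k⁻¹ with hs'
  have hs'o : orderOf s' = 7 := ((MulAut.conj k).orderOf_eq s).trans hs
  have hs'z : s' ∈ centralizer ({z} : Set G) := mem_centralizer_singleton_iff.2 (by
    rw [hs', ← hk]
    calc k * s * k⁻¹ * (k * x * k⁻¹) = k * (s * x) * k⁻¹ := by group
      _ = _ := by rw [hsx]; group)
  obtain ⟨-, ⟨I, hI, ⟨ψ⟩⟩, -, -⟩ := M.seven_local F.coords hT D
    (fun t ht => F.coords.involution_into hT hG hcard ht) (zpowers s') (by rw [Nat.card_zpowers, hs'o])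
    (zpowers_le.2 hs'z)
  refine ⟨?_, ?_⟩
  · obtain ⟨π, hπ⟩ := exists_proj hI
    have mem : ∀ g : ↥(centralizer ({s} : Set G)), k * (g : G) * k⁻¹ ∈ centralizer (zpowers s' : Set G) := by
      intro g
      rw [Subgroup.zpowers_eq_closure, Subgroup.centralizer_closure]
      refine mem_centralizer_singleton_iff.2 ?_
      have hg := mem_centralizer_singleton_iff.1 g.2
      calc k * (g : G) * k⁻¹ * s' = k * ((g : G) * s) * k⁻¹ := by rw [hs']; group
        _ = _ := by rw [hg, hs']; group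
    let c : ↥(centralizer ({s} : Set G)) →* ↥(centralizer (zpowers s' : Set G)) :=
      MonoidHom.mk' (fun g => ⟨k * (g : G) * k⁻¹, mem g⟩) fun a b => Subtype.ext (by
        show k * ((a : G) * b) * k⁻¹ = k * (a : G) * k⁻¹ * (k * (b : G) * k⁻¹)
        group)
    refine ⟨⟨(ψ.toMonoidHom.comp π).comp c, fun g hg => ?_⟩⟩
    have h1 : π (c g) = 1 := ψ.injective (hg.trans (map_one ψ).symm)
    obtain ⟨i, hi⟩ := mem_zpowers_iff.1 (hπ _ h1)
    refine mem_zpowers_iff.2 ⟨i, ?_⟩
    have e : k * (g : G) * k⁻¹ = k * s ^ i * k⁻¹ := by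
      rw [← conj_zpow, ← hs', hi]
      rfl
    exact (mul_left_cancel (mul_right_cancel e)).symm
  · obtain ⟨c, hc, hcP⟩ := exists_seven_cent M
    obtain ⟨y, hy⟩ := M.exists_conj_seven (c := ⟨s', hs'z⟩) (d := c)
      ((Subgroup.orderOf_coe (⟨s', hs'z⟩ : ↥(centralizer ({z} : Set G)))).symm.trans hs'o) hc
    have hmem : (⟨s', hs'z⟩ : ↥(centralizer ({z} : Set G))) ∈ (zpowers c).map (MulAut.conj y).toMonoidHom := by
      rw [hy]; exact mem_zpowers _
    obtain ⟨d, hd, hds⟩ := hmem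
    set p : G := (M.pElem : G)
    have hpP : p ∈ P := M.p_gen ▸ mem_zpowers _
    have hp3 : orderOf p = 3 := by rw [← Nat.card_zpowers, M.p_gen, M.card_P]
    have hps : Commute p (c : G) := (mem_centralizer_iff.1 hcP p hpP)
    have hpd : Commute p (d : G) := by
      obtain ⟨i, rfl⟩ := mem_zpowers_iff.1 hd
      rw [SubgroupClass.coe_zpow]
      exact hps.zpow_right i
    have hds' : (y : G) * d * (y : G)⁻¹ = s' := congrArg Subtype.val hds
    refine ⟨k⁻¹ * ((y : G) * p * (y : G)⁻¹) * k, ?_, ?_, ?_, ?_⟩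
    · calc _ = k⁻¹ * (y : G) * (p ^ 3) * (y : G)⁻¹ * k := by rw [pow_succ, pow_two]; group
        _ = 1 := by rw [← hp3, pow_orderOf_eq_one]; group
    · intro h
      have : p = 1 := by
        calc p = (y : G)⁻¹ * (k * (k⁻¹ * ((y : G) * p * (y : G)⁻¹) * k) * k⁻¹) * y := by group
          _ = 1 := by rw [h]; group
      rw [this, orderOf_one] at hp3
      norm_num at hp3
    · have hpz : (y : G) * p * (y : G)⁻¹ * z = z * ((y : G) * p * (y : G)⁻¹) :=
        mem_centralizer_singleton_iff.1 (mul_mem (mul_mem y.2 M.pElem.2) (inv_mem y.2))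
      have hxk : x = k⁻¹ * z * k := by rw [← hk]; group
      rw [hxk]
      calc k⁻¹ * ((y : G) * p * (y : G)⁻¹) * k * (k⁻¹ * z * k)
          = k⁻¹ * ((y : G) * p * (y : G)⁻¹ * z) * k := by group
        _ = _ := by rw [hpz]; group
    · have hsk : s = k⁻¹ * s' * k := by rw [hs']; group
      rw [hsk, ← hds']
      calc k⁻¹ * ((y : G) * p * (y : G)⁻¹) * k * (k⁻¹ * ((y : G) * d * (y : G)⁻¹) * k)
          = k⁻¹ * (y : G) * (p * d) * (y : G)⁻¹ * k := by group
        _ = _ := by rw [hpd.eq]; group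

end Cfsg.Agent.JankoFour.Recog
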