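import Cfsg.Agent.Lib.JankoFour.Recog.Rank
import Cfsg.Agent.Lib.JankoFour.Recog.Seven

/-!
The centraliser of the transvection of the standard trio, framed by the element cycling the trio.
-/

set_option autoImplicit false
set_option linter.unusedSectionVars false
set_option maxRecDepth 100000

namespace Cfsg.Agent.JankoFour.Recog

open Subgroup
open Cfsg.Agent.LargeFischer (QG)

/-- An involution of the symmetric group of degree five has one subgroup of order three in its centraliser. -/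
theorem perm5_three : ∀ a : Equiv.Perm (Fin 5), T5 a → ∀ c : Equiv.Perm (Fin 5), c * c * c = 1 → c ≠ 1 → c * a = a * c →
    ∀ d : Equiv.Perm (Fin 5), d * d * d = 1 → d ≠ 1 → d * a = a * d → d = c ∨ d = c * c := by
  decide +kernel

variable {G : Type*} [Group G] {z : G}

/-- The elements of order three commuting with an involution and an element of order seven. -/
theorem unique_three (hS : SevenHyp z) {x s u c : G} (hx : IsConj z x) (hx1 : x ≠ 1) (hx2 : x * x = 1)
    (hord : orderOf s = 7) (hsx : s * x = x * s) (hu3 : u * u * u = 1) (hu1 : u ≠ 1) (hux : u * x = x * u)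
    (hus : u * s = s * u) (hc3 : c * c * c = 1) (hc1 : c ≠ 1) (hcx : c * x = x * c) (hcs : c * s = s * c) :
    c = u ∨ c = u * u := by
  obtain ⟨⟨Θ⟩, -⟩ := hS x s hx hord hsx
  have mem : ∀ g : G, g * s = s * g → g ∈ centralizer ({s} : Set G) := fun g h =>
    mem_centralizer_singleton_iff.2 h
  set X : ↥(centralizer ({s} : Set G)) := ⟨x, mem x hsx.symm⟩
  set U : ↥(centralizer ({s} : Set G)) := ⟨u, mem u hus⟩
  set C : ↥(centralizer ({s} : Set G)) := ⟨c, mem c hcs⟩
  have hU : U * U * U = 1 := Subtype.ext hu3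
  have hC : C * C * C = 1 := Subtype.ext hc3
  have hUne : Θ.theta U ≠ 1 := fun h => hu1 (congrArg Subtype.val (Θ.kill_three hord h hu3))
  have hCne : Θ.theta C ≠ 1 := fun h => hc1 (congrArg Subtype.val (Θ.kill_three hord h hc3))
  have hX : T5 (Θ.theta X) := by
    refine ⟨by rw [← map_mul, show X * X = 1 from Subtype.ext hx2, map_one],
      fun h => hx1 (congrArg Subtype.val (Θ.kill hord h hx2)), Θ.theta U, by rw [← map_mul, ← map_mul, hU, map_one],
      hUne, ?_⟩
    rw [← map_mul, ← map_mul]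
    exact congrArg _ (Subtype.ext hux)
  have lift : ∀ W : ↥(centralizer ({s} : Set G)), W * W * W = 1 → Θ.theta C = Θ.theta W → C = W := by
    intro W hW h
    have hk : Θ.theta (C * W⁻¹) = 1 := by rw [map_mul, map_inv, h, mul_inv_cancel]
    have hcen := Θ.central hk W
    have h3 : C * W⁻¹ * (C * W⁻¹) * (C * W⁻¹) = 1 := by
      set K := C * W⁻¹ with hK
      have hCK : C = K * W := by rw [hK]; group
      have e := hC
      rw [hCK] at e
      calc K * K * K = K * K * K * (W * W * W) := by rw [hW, mul_one]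
        _ = K * K * (K * W) * W * W := by group
        _ = K * (K * W) * K * W * W := by rw [show K * K * (K * W) * W * W = K * (K * (K * W)) * W * W by group,
            show K * (K * W) * K * W * W = K * (K * (W * K)) * W * W by group, hcen]
        _ = K * W * (K * (K * W)) * W := by
            rw [show K * (K * W) * K * W * W = K * (K * W) * (K * W) * W by group,
              show K * (K * W) = K * (W * K) by rw [hcen]]
            rw [show K * (W * K) * (K * W) * W = K * W * (K * (K * W)) * W by group, show K * (W * K) = K * (K * W) by rw [hcen]]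
        _ = K * W * (K * W * K) * W := by rw [show K * (K * W) = K * (W * K) by rw [hcen]]; group
        _ = 1 := by rw [show K * W * (K * W * K) * W = K * W * (K * W) * (K * W) by group]; exact e
    have h1 := Θ.kill_three hord hk (congrArg Subtype.val h3)
    rwa [mul_inv_eq_one] at h1
  rcases perm5_three _ hX (Θ.theta U) (by rw [← map_mul, ← map_mul, hU, map_one]) hUne
    (by rw [← map_mul, ← map_mul]; exact congrArg _ (Subtype.ext hux))
    (Θ.theta C) (by rw [← map_mul, ← map_mul, hC, map_one]) hCne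
    (by rw [← map_mul, ← map_mul]; exact congrArg _ (Subtype.ext hcx)) with h | h
  · exact Or.inl (congrArg Subtype.val (lift U hU h))
  · refine Or.inr (congrArg Subtype.val (lift (U * U) ?_ (by rw [h, map_mul])))
    calc U * U * (U * U) * (U * U) = U * U * U * (U * U * U) := by group
      _ = 1 := by rw [hU, one_mul]

/-- What is used from the centraliser of an involution framed by an element of order three. -/
structure Core (t γ : G) where
  Q : Subgroup G
  mem_cent : ∀ q ∈ Q, q * t = t * q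
  normal : ∀ h : G, h * t = t * h → ∀ q ∈ Q, h * q * h⁻¹ ∈ Q
  t_mem : t ∈ Q
  comm : ∀ a ∈ Q, ∀ b ∈ Q, a * b * a⁻¹ * b⁻¹ = 1 ∨ a * b * a⁻¹ * b⁻¹ = t
  pow_four : ∀ a ∈ Q, a * a * (a * a) = 1
  fixed : ∀ a ∈ Q, a * γ = γ * a → a = 1 ∨ a = t
  move : ∀ h : G, h * t = t * h → γ⁻¹ * (h * γ * h⁻¹) ∈ Q ∨ (γ * γ)⁻¹ * (h * γ * h⁻¹) ∈ Q
  rank : ∀ f : ℕ → G, (∀ n < 64, f n * t = t * f n) →
    (∀ m < 64, ∀ n < 64, (f (m ^^^ n))⁻¹ * (f m * f n) ∈ Q) → ∃ n < 64, n ≠ 0 ∧ f n ∈ Q

variable [Finite G]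

/-- The subgroup of order three of a conjugate frame gives the core. -/
theorem core_of_model {P : Subgroup G} (M : Model z P) {g t γ : G} (hgz : g * z * g⁻¹ = t)
    (hgp : γ = g * (M.pElem : G) * g⁻¹ ∨ γ = g * (M.pElem : G) * g⁻¹ * (g * (M.pElem : G) * g⁻¹)) :
    Nonempty (Core t γ) := by
  classical
  have := M.normal
  set c := (MulAut.conj g).toMonoidHom
  have hp3 : (M.pElem : G) * M.pElem * M.pElem = 1 := by
    rw [← pow_two, ← pow_succ, show 2 + 1 = Nat.card ↥(zpowers (M.pElem : G)) by rw [M.p_gen, M.card_P]]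
    rw [Nat.card_zpowers, pow_orderOf_eq_one]
  have hγ : ∃ γ' : G, γ = g * γ' * g⁻¹ ∧ γ' ∈ P ∧ γ' * γ' * γ' = 1 ∧ zpowers γ' = P := by
    have hpP : (M.pElem : G) ∈ P := (le_of_eq M.p_gen) (mem_zpowers _)
    rcases hgp with rfl | rfl
    · exact ⟨_, rfl, hpP, hp3, M.p_gen⟩
    · refine ⟨(M.pElem : G) * M.pElem, by group, mul_mem hpP hpP, ?_, ?_⟩
      · calc _ = (M.pElem : G) * M.pElem * M.pElem * ((M.pElem : G) * M.pElem * M.pElem) := by group
          _ = 1 := by rw [hp3, one_mul]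
      · refine le_antisymm (zpowers_le.2 (mul_mem hpP hpP)) ((le_of_eq M.p_gen.symm).trans (zpowers_le.2 ?_))
        have e : ((M.pElem : G) * M.pElem) * ((M.pElem : G) * M.pElem) = M.pElem := by
          calc _ = (M.pElem : G) * M.pElem * M.pElem * M.pElem := by group
            _ = _ := by rw [hp3, one_mul]
        have h := mul_mem (mem_zpowers ((M.pElem : G) * M.pElem)) (mem_zpowers ((M.pElem : G) * M.pElem))
        rwa [e] at h
  obtain ⟨γ', rfl, hγP, hγ3, hγgen⟩ := hγ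
  have pull : ∀ {h : G}, h * t = t * h → g⁻¹ * h * g ∈ centralizer ({z} : Set G) := fun {h} e =>
    mem_centralizer_singleton_iff.2 (by
      have hz : z = g⁻¹ * t * g := by rw [← hgz]; group
      rw [hz]
      calc g⁻¹ * h * g * (g⁻¹ * t * g) = g⁻¹ * (h * t) * g := by group
        _ = _ := by rw [e]; group)
  refine ⟨⟨(QG M.Q).map c, ?_, ?_, ⟨z, M.z_mem, hgz⟩, ?_, ?_, ?_, ?_, ?_⟩⟩
  · rintro _ ⟨a, ha, rfl⟩
    show g * a * g⁻¹ * t = t * (g * a * g⁻¹)
    rw [← hgz]
    calc g * a * g⁻¹ * (g * z * g⁻¹) = g * (a * z) * g⁻¹ := by group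
      _ = _ := by rw [mem_centralizer_singleton_iff.1 (M.mem_H ha)]; group
  · rintro h e _ ⟨a, ha, rfl⟩
    obtain ⟨d, hd, rfl⟩ := ha
    exact ⟨_, ⟨⟨_, pull e⟩ * d * ⟨_, pull e⟩⁻¹, M.normal.conj_mem _ hd _, rfl⟩, show
      g * (g⁻¹ * h * g * (d : G) * (g⁻¹ * h * g)⁻¹) * g⁻¹ = h * (g * (d : G) * g⁻¹) * h⁻¹ by group⟩
  · rintro _ ⟨a, ha, rfl⟩ _ ⟨b, hb, rfl⟩
    have e : c a * c b * (c a)⁻¹ * (c b)⁻¹ = c (a * b * a⁻¹ * b⁻¹) := by simp only [map_mul, map_inv]
    rw [e]
    rcases comm_QG M ha hb with h | h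
    · left; rw [h, map_one]
    · right; rw [h]; exact hgz
  · rintro _ ⟨a, ha, rfl⟩
    rw [← map_mul, ← map_mul, pow_four_QG M ha, map_one]
  · rintro _ ⟨a, ha, rfl⟩ e
    have e' : a * γ' = γ' * a := (MulAut.conj g).injective (by rw [map_mul, map_mul]; exact e)
    have hm : a ∈ QG M.Q ⊓ centralizer (P : Set G) := mem_inf.2 ⟨ha, mem_centralizer_iff.2 fun x hx => by
      obtain ⟨i, rfl⟩ := mem_zpowers_iff.1 (hγgen.symm ▸ hx : x ∈ zpowers γ')
      exact ((show Commute a γ' from e').zpow_right i).eq.symm⟩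
    rw [M.inf_cent] at hm
    obtain ⟨i, rfl⟩ := mem_zpowers_iff.1 hm
    rcases Int.even_or_odd i with ⟨j, hj⟩ | ⟨j, hj⟩
    · left
      rw [hj, ← two_mul, zpow_mul, zpow_ofNat, pow_two, M.z_sq, one_zpow, map_one]
    · right
      rw [hj, zpow_add, zpow_mul, zpow_ofNat, pow_two, M.z_sq, one_zpow, one_mul, zpow_one]
      exact hgz
  · intro h e
    obtain ⟨q, hq, n, hn, hqn⟩ := M.decomp ⟨_, pull e⟩
    obtain ⟨hnP, hnz⟩ := mem_inf.1 hn
    have hnγ : n * γ' * n⁻¹ ∈ zpowers γ' := by rw [hγgen]; exact (mem_normalizer_iff.1 hnP γ').1 hγP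
    have hcases : n * γ' * n⁻¹ = γ' ∨ n * γ' * n⁻¹ = γ' * γ' := by
      obtain ⟨i, hi⟩ := mem_zpowers_iff.1 hnγ
      have h3 : γ' ^ (3 : ℤ) = 1 := by rw [zpow_ofNat, pow_succ, pow_two, hγ3]
      have hred : γ' ^ i = γ' ^ (i % 3) := by
        conv_lhs => rw [show i = i % 3 + 3 * (i / 3) by omega, zpow_add, zpow_mul, h3, one_zpow, mul_one]
      rw [hred] at hi
      have h0 := Int.emod_nonneg i (show (3 : ℤ) ≠ 0 by norm_num)
      have h1 := Int.emod_lt_of_pos i (show (0 : ℤ) < 3 by norm_num)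
      interval_cases hr : i % 3
      · rw [zpow_zero] at hi
        have hγ1 : γ' = 1 := by
          calc γ' = n⁻¹ * (n * γ' * n⁻¹) * n := by group
            _ = 1 := by rw [← hi]; group
        left; rw [hγ1, mul_one, mul_inv_cancel]
      · left; rw [← hi, zpow_one]
      · right; rw [← hi, zpow_ofNat, pow_two]
    have key : ∀ δ : G, δ ∈ centralizer ({z} : Set G) → n * γ' * n⁻¹ = δ →
        (g * δ * g⁻¹)⁻¹ * (h * (g * γ' * g⁻¹) * h⁻¹) ∈ (QG M.Q).map c := by
      intro δ hδ e'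
      obtain ⟨d, hd, hdq⟩ := hq
      have hd1 : δ⁻¹ * q * δ * q⁻¹ ∈ QG M.Q :=
        ⟨(⟨δ, hδ⟩ : ↥(centralizer ({z} : Set G)))⁻¹ * d * ⟨δ, hδ⟩ * d⁻¹, mul_mem (by
          simpa using M.normal.conj_mem _ hd (⟨δ, hδ⟩ : ↥(centralizer ({z} : Set G)))⁻¹) (inv_mem hd),
          by rw [← hdq]; rfl⟩
      refine ⟨δ⁻¹ * q * δ * q⁻¹, hd1, show g * (δ⁻¹ * q * δ * q⁻¹) * g⁻¹ = _ from ?_⟩
      have hh : h = g * (q * n) * g⁻¹ := by rw [← hqn]; group
      rw [hh, ← e']
      group
    have hγz : γ' ∈ centralizer ({z} : Set G) := by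
      have hPz : P ≤ centralizer ({z} : Set G) := by rw [← M.p_gen]; exact zpowers_le.2 M.pElem.2
      exact hPz hγP
    rcases hcases with h' | h'
    · exact Or.inl (key γ' hγz h')
    · refine Or.inr ?_
      have := key _ (mul_mem hγz hγz) h'
      rwa [show g * (γ' * γ') * g⁻¹ = g * γ' * g⁻¹ * (g * γ' * g⁻¹) by group] at this
  · intro f hfz hf
    obtain ⟨n, hn, hn0, hmem⟩ := rank_bound M
      (fun k => if hk : k < 64 then ⟨g⁻¹ * f k * g, pull (hfz k hk)⟩ else 1) (fun m hm n hn => by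
        have hx := Nat.xor_lt_two_pow (n := 6) hm hn
        obtain ⟨a, ha, ea⟩ := hf m hm n hn
        rw [dif_pos hx, dif_pos hm, dif_pos hn, M.mem_Q_iff]
        have e : a = g⁻¹ * ((f (m ^^^ n))⁻¹ * (f m * f n)) * g := by
          rw [← ea]; show a = g⁻¹ * (g * a * g⁻¹) * g; group
        show (g⁻¹ * f (m ^^^ n) * g)⁻¹ * (g⁻¹ * f m * g * (g⁻¹ * f n * g)) ∈ QG M.Q
        rw [show (g⁻¹ * f (m ^^^ n) * g)⁻¹ * (g⁻¹ * f m * g * (g⁻¹ * f n * g)) = a by rw [e]; group]
        exact ha)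
    rw [dif_pos hn, M.mem_Q_iff] at hmem
    exact ⟨n, hn, hn0, ⟨_, hmem, show g * (g⁻¹ * f n * g) * g⁻¹ = f n by group⟩⟩

/-- The core of the standard transvection. -/
theorem exists_core [IsSimpleGroup G] (hG : ¬ IsMulCommutative G) {P : Subgroup G}
    (hJ : Cfsg.IsOfJankoFourTypeWith z P) {x s c : G} (hx : IsConj z x) (hx1 : x ≠ 1) (hx2 : x * x = 1)
    (hord : orderOf s = 7) (hsx : s * x = x * s) (hc3 : c * c * c = 1) (hc1 : c ≠ 1) (hcx : c * x = x * c)
    (hcs : c * s = s * c) : Nonempty (Core x c) := by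
  have : Fact (Nat.Prime 7) := ⟨by norm_num⟩
  obtain ⟨M, -, -⟩ := exists_facts hJ
  obtain ⟨k, hk⟩ := isConj_iff.1 hx.symm
  set s' := k * s * k⁻¹ with hs'
  have hs'o : orderOf s' = 7 := ((MulAut.conj k).orderOf_eq s).trans hord
  have hs'z : s' ∈ centralizer ({z} : Set G) := mem_centralizer_singleton_iff.2 (by
    rw [hs', ← hk]
    calc k * s * k⁻¹ * (k * x * k⁻¹) = k * (s * x) * k⁻¹ := by group
      _ = _ := by rw [hsx]; group)
  obtain ⟨d7, hd7, hd7P⟩ := exists_seven_cent M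
  obtain ⟨y, hy⟩ := M.exists_conj_seven (c := ⟨s', hs'z⟩) (d := d7)
    ((Subgroup.orderOf_coe (⟨s', hs'z⟩ : ↥(centralizer ({z} : Set G)))).symm.trans hs'o) hd7
  have hmem : (⟨s', hs'z⟩ : ↥(centralizer ({z} : Set G))) ∈ (zpowers d7).map (MulAut.conj y).toMonoidHom := by
    rw [hy]; exact mem_zpowers _
  obtain ⟨d, hd, hds⟩ := hmem
  set p : G := (M.pElem : G)
  have hpP : p ∈ P := (le_of_eq M.p_gen) (mem_zpowers _)
  have hp3 : orderOf p = 3 := by rw [← Nat.card_zpowers, M.p_gen, M.card_P]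
  have hpd : Commute p (d : G) := by
    obtain ⟨i, rfl⟩ := mem_zpowers_iff.1 hd
    rw [SubgroupClass.coe_zpow]
    exact (show Commute p (d7 : G) from mem_centralizer_iff.1 hd7P p hpP).zpow_right i
  have hds' : (y : G) * d * (y : G)⁻¹ = s' := congrArg Subtype.val hds
  set g := k⁻¹ * (y : G) with hgdef
  have hyz : (y : G) * z = z * (y : G) := mem_centralizer_singleton_iff.1 y.2
  have hgz : g * z * g⁻¹ = x := by
    calc g * z * g⁻¹ = k⁻¹ * ((y : G) * z) * (y : G)⁻¹ * k := by rw [hgdef]; group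
      _ = k⁻¹ * z * k := by rw [hyz]; group
      _ = x := by rw [← hk]; group
  refine core_of_model M hgz ?_
  refine unique_three (sevenHyp hG hJ) hx hx1 hx2 hord hsx ?_ ?_ ?_ ?_ hc3 hc1 hcx hcs
  · calc (g * p * g⁻¹) * (g * p * g⁻¹) * (g * p * g⁻¹) = g * (p ^ 3) * g⁻¹ := by rw [pow_succ, pow_two]; group
      _ = 1 := by rw [← hp3, pow_orderOf_eq_one]; group
  · intro h
    have hp1 : p = 1 := by
      calc p = g⁻¹ * (g * p * g⁻¹) * g := by group
        _ = 1 := by rw [h]; group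
    rw [hp1, orderOf_one] at hp3
    norm_num at hp3
  · rw [← hgz]
    calc (g * p * g⁻¹) * (g * z * g⁻¹) = g * (p * z) * g⁻¹ := by group
      _ = _ := by rw [mem_centralizer_singleton_iff.1 M.pElem.2]; group
  · have hsg : s = g * d * g⁻¹ := by
      calc s = k⁻¹ * s' * k := by rw [hs']; group
        _ = _ := by rw [← hds', hgdef]; group
    rw [hsg]
    calc (g * p * g⁻¹) * (g * d * g⁻¹) = g * (p * d) * g⁻¹ := by group
      _ = g * (d * p) * g⁻¹ := by rw [hpd.eq]
      _ = g * d * g⁻¹ * (g * p * g⁻¹) := by group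

end Cfsg.Agent.JankoFour.Recog
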