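import Cfsg.Agent.Lib.JankoFour.Recog.Main
import Cfsg.Agent.Lib.JankoFour.Reduce.AutEntry

/-!
The recognition theorems of the fourth Janko group, given the bound on the order of the presented group.
-/

set_option autoImplicit false

namespace Cfsg.Agent.JankoFour.Recog

open Subgroup

/-- The bound on the presented group. -/
def J4Upper : Prop := Finite Cfsg.Spor.J4 ∧ Nat.card Cfsg.Spor.J4 ≤ 86775571046077562880

/-- Recognition from the shape of the centraliser of the involution. -/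
theorem iso_of_centralizer (hB : J4Upper) {G : Type*} [Group G] [Finite G] [IsSimpleGroup G] {t : G}
    (ht : orderOf t = 2) {Q N M : Subgroup (centralizer ({t} : Set G))} [Q.Normal] [N.Normal] [M.Normal]
    (hQN : Q ≤ N) (hNM : N ≤ M) (hM : M.index = 2) (hQ : Cfsg.IsExtraspecial 2 Q) (hcard : Nat.card Q = 2 ^ 13)
    (hN : Nat.card N = 3 * Nat.card Q) (hcent : ⁅M, N⁆ ≤ Q) (hperf : M ≤ ⁅M, M⁆ ⊔ Q)
    (h2c : centralizer (Q : Set (centralizer ({t} : Set G))) ≤ Q)
    (hout : ∀ c : centralizer ({t} : Set G), (∀ m ∈ M, c * m * c⁻¹ * m⁻¹ ∈ N) → c ∈ M)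
    (hM22 : Cfsg.Spor.IsoM22 (M ⧸ N.subgroupOf M)) : Cfsg.Spor.IsoJ4 G :=
  haveI := hB.1
  iso_of_card_le (Reduce.not_comm_of_extraspecial hQ hcard)
    ⟨t, Reduce.type_at_of_centraliser ht hQN hNM hM hQ hcard hN hcent hperf h2c hout hM22⟩ hB.2

/-- Recognition from the automorphism group of M22 in the centraliser of the involution. -/
theorem iso_of_aut (hB : J4Upper) {G : Type*} [Group G] [Finite G] [IsSimpleGroup G] {t : G}
    {Q N : Subgroup (centralizer ({t} : Set G))} [Q.Normal] [N.Normal]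
    (hS : Cfsg.IsExtraspecialCentralizerSetting t Q 6) (hQN : Q ≤ N) (hN3 : Nat.card ↥N = 3 * Nat.card ↥Q)
    (hns : ∀ K : Subgroup ↥(centralizer ({t} : Set G)), K ⊓ N = Q → K ⊔ N = ⊤ → False)
    (hAut : Nonempty (↥(centralizer ({t} : Set G)) ⧸ N ≃* MulAut ↥Cfsg.Spor.M22)) : Cfsg.Spor.IsoJ4 G :=
  haveI := hB.1
  iso_of_card_le (Reduce.not_comm_of_extraspecial hS.2.2.1 hS.2.2.2.1)
    ⟨t, Reduce.type_at_of_aut hS hQN hN3 hns hAut⟩ hB.2

end Cfsg.Agent.JankoFour.Recog
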