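import Cfsg.Agent.Lib.JankoFour.Recog.Sect
import Cfsg.Agent.Lib.JankoFour.TenTransfer
import Mathlib.GroupTheory.Perm.Cycle.Type

/-!
The subgroup of order 1024 of the octad is self-centralising, and the conjugates of the involution in it are
exactly the decomposable vectors.
-/

set_option autoImplicit false
set_option linter.unusedSectionVars false
set_option linter.style.haveILetI false
set_option maxRecDepth 100000
set_option synthInstance.maxSize 4000

namespace Cfsg.Agent.JankoFour.Recog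

open Subgroup
open Cfsg (GolayPt M24 supports golayCode)
open Cfsg.Agent.Golay Cfsg.Agent.PermCert
open Cfsg.Agent.J4Module (app)
open scoped symmDiff Pointwise

/-- A tetrad and a pair among the classes of the octad. -/
theorem pick_spec : wp 1 2 < 1024 ∧ eLab (wp 1 2) = 0 ∧ uMask (wp 1 2) < 2 ^ 24 ∧ popCount (uMask (wp 1 2)) 24 = 4 ∧
    popCount 3 24 = 2 ∧ (180 : ℕ) < 1024 ∧ eLab 180 = 0 ∧ inCode ((3 : ℕ) ^^^ uMask 180) = true := by decide +kernel

/-- Words carrying the fixed translation to the other translations. -/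
def orbWords : List (List ℕ) :=
  [[0, 1, 0, 0], [1, 0, 0], [], [0, 0, 1, 0, 0], [0], [0, 0, 1, 0], [0, 1, 0, 1, 0, 0], [1, 1, 0], [1, 0, 0, 1, 0],
    [1, 0], [0, 0, 0, 1, 0, 0], [0, 1, 0], [1, 1, 0, 0], [1, 0, 1, 0, 0], [0, 0]]

theorem orb_spec : ∀ x < 16, x ≠ 0 → (∀ k ∈ orbWords.getD (x - 1) [], k < 2) ∧
    app (wordW (orbWords.getD (x - 1) [])) 72 = eW x := by decide +kernel

/-- Conjugating a translation by a pair gives its product with a plane. -/
theorem mixed_spec : ∀ x < 16, ∀ y < 16, x ≠ 0 → y ≠ 0 → x ≠ y →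
    ((1 : ℕ) <<< ptL 0 ||| 1 <<< ptL y) < 2 ^ 24 ∧ popCount (1 <<< ptL 0 ||| 1 <<< ptL y) 24 % 2 = 0 ∧
      inCode ((1 <<< ptL 0 ||| 1 <<< ptL y) ^^^ imgMask (evElt x) (1 <<< ptL 0 ||| 1 <<< ptL y) ^^^ uMask (wp x y)) = true := by
  decide +kernel

theorem plane_lt : ∀ x < 16, ∀ y < 16, planeM x y < 2 ^ 24 := by decide +kernel

theorem octad_ref : (5279 : ℕ) ∈ octadList := by decide +kernel

namespace Sect

variable {G : Type*} [Group G] [Finite G] {z : G} (Z : Sect z)

theorem wordW_mulC (k : ℕ) (w : List ℕ) (n : ℕ) :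
    app (wordW (k :: w)) n = app (if k = 0 then colA else colB) (app (wordW w) n) := app_mulC _ _ _

/-- The product of the images of a word. -/
noncomputable def gWord (w : List ℕ) : G :=
  w.foldr (fun k r => Z.psi (toM (if k = 0 then permA else permB)) * r) 1

theorem unitW_app : ∀ w < 1024, app unitW w = w := J4Module.of_chunks 16 (by decide +kernel)

theorem gWord_acts : ∀ (w : List ℕ), ∀ n < 1024,
    app (wordW w) n < 1024 ∧ Z.gWord w * Z.c n * (Z.gWord w)⁻¹ = Z.c (app (wordW w) n)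
  | [], n, hn => by
    rw [show wordW [] = unitW from rfl, unitW_app n hn, show Z.gWord [] = 1 from rfl]
    exact ⟨hn, by group⟩
  | k :: w, n, hn => by
    obtain ⟨h1, h2⟩ := gWord_acts w n hn
    rw [wordW_mulC, show Z.gWord (k :: w) = Z.psi (toM (if k = 0 then permA else permB)) * Z.gWord w from rfl]
    have hp : ∀ (e : Elt) (C : List ℕ), permOK e = true → colsOK e C = true →
        app C (app (wordW w) n) < 1024 ∧ (Z.psi (toM e) * Z.gWord w) * Z.c n * (Z.psi (toM e) * Z.gWord w)⁻¹ =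
          Z.c (app C (app (wordW w) n)) := fun e C he hC => by
      obtain ⟨h3, h4⟩ := Z.psi_acts he hC _ h1
      refine ⟨h3, ?_⟩
      rw [← h4, ← h2]
      group
    by_cases hk : k = 0
    · simp only [if_pos hk]; exact hp _ _ permA_ok colA_ok.1
    · simp only [if_neg hk]; exact hp _ _ permB_ok colA_ok.2

theorem sv_conj_z {m : ℕ} (h : popCount m 24 = 4) : IsConj z (Z.sv m) :=
  Z.D.four_conj _ (by rw [card_maskSet, h])

theorem sv_not_conj {m : ℕ} (h : popCount m 24 = 2) : ¬ IsConj z (Z.sv m) :=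
  Z.D.pair_not_conj _ (by rw [card_maskSet, h])

/-- The classes of even sets have representatives. -/
theorem exists_rep {v : G} (hv : v ∈ Z.V) : ∃ i < 2048, Z.sv (app repCols i) = v := by
  classical
  letI := Fintype.ofFinite ↥Z.V
  let f : Fin 2048 → ↥Z.V := fun i => ⟨Z.sv (app repCols i), Z.sv_mem _⟩
  have hf : Function.Injective f := fun i j e => by
    obtain ⟨ei, li, -⟩ := rep_spec i i.2
    obtain ⟨ej, lj, -⟩ := rep_spec j j.2
    have hij : (i : ℕ) ^^^ j < 2048 := Nat.xor_lt_two_pow (n := 11) i.2 j.2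
    obtain ⟨e2, l2, hz⟩ := rep_spec _ hij
    refine Fin.ext (Nat.xor_eq_zero_iff.1 (hz ((Z.sv_eq_one l2 e2).1 ?_)))
    rw [app_xor, Z.sv_xor li lj ei ej, show Z.sv (app repCols i) = Z.sv (app repCols j) from congrArg Subtype.val e,
      Z.sv_sq]
  obtain ⟨i, hi⟩ := ((Fintype.bijective_iff_injective_and_card f).2 ⟨hf, by
    rw [Fintype.card_fin, ← Nat.card_eq_fintype_card, Z.D.card]⟩).2 ⟨v, hv⟩
  exact ⟨i, i.2, congrArg Subtype.val hi⟩

theorem c_sv {w : ℕ} (hl : eLab w = 0) : Z.c w = Z.sv (uMask w) := by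
  rw [c, hl, evM_zero, map_one, mul_one]

theorem centralizer_A : centralizer (Z.A : Set G) = Z.A := by
  classical
  refine le_antisymm (fun g hg => ?_) ?_
  swap
  · rintro _ ⟨a, ha, rfl⟩
    refine mem_centralizer_iff.2 ?_
    rintro _ ⟨b, hb, rfl⟩
    exact Z.c_comm hb ha
  rw [mem_centralizer_iff] at hg
  obtain ⟨h1, h2, h3, h4, h5, h6, h7, h8⟩ := pick_spec
  have hfix : ∀ w < 1024, eLab w = 0 → g * Z.sv (uMask w) = Z.sv (uMask w) * g := fun w hw hl => by
    rw [← Z.c_sv hl]; exact (hg _ ⟨w, hw, rfl⟩).symm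
  have hz : IsConj z (Z.sv (uMask (wp 1 2))) := Z.sv_conj_z h4
  have h3e : Z.sv 3 = Z.sv (uMask 180) :=
    Z.sv_congr (by norm_num) (uMask_ok h6).1 (by rw [h5]) (uMask_ok h6).2 h8
  have hnz : ¬ IsConj z (Z.sv 3) := Z.sv_not_conj h5
  have ht1 : Z.sv 3 ≠ 1 := fun e => by
    have := (Z.sv_eq_one (by norm_num) (by rw [h5])).1 e
    revert this; decide +kernel
  have hN : g ∈ normalizer (Z.V : Set G) := Z.D.cent_pair _ (Z.sv_mem _) _ (Z.sv_mem _) hz ht1 hnz (mem_inf.2
    ⟨mem_centralizer_singleton_iff.2 (hfix _ h1 h2), mem_centralizer_singleton_iff.2 (by rw [h3e]; exact hfix _ h6 h7)⟩)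
  set σ := Z.D.phi ⟨g, hN⟩ with hσ
  -- the image fixes every pair of the octad
  have hpair : ∀ p q : GolayPt, p ≠ q → p ∈ maskSet 5279 → q ∈ maskSet 5279 →
      ({p, q} : Finset GolayPt).image ⇑(σ : Equiv.Perm GolayPt) = {p, q} := by
    intro p q hpq hp hq
    obtain ⟨w, hw, hl, hc⟩ := pair_spec (idx p) (idx_lt p) (idx q) (idx_lt q) (fun e => hpq (idx_injective e))
      (mem_maskSet.1 hp) (mem_maskSet.1 hq)
    have hw' : w < 1024 := lt_trans hw (by norm_num)
    set m := 1 <<< idx p ||| 1 <<< idx q with hm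
    have hset : maskSet m = {p, q} := by
      ext r
      simp only [mem_maskSet, hm, Nat.testBit_or, Nat.one_shiftLeft, Nat.testBit_two_pow, Bool.or_eq_true,
        decide_eq_true_eq, Finset.mem_insert, Finset.mem_singleton]
      exact ⟨fun h => h.imp (fun e => idx_injective e.symm) (fun e => idx_injective e.symm),
        fun h => h.imp (fun e => by rw [e]) (fun e => by rw [e])⟩
    have hml : m < 2 ^ 24 := Nat.or_lt_two_pow (n := 24)
      (by rw [Nat.one_shiftLeft]; exact Nat.pow_lt_pow_right (by norm_num) (idx_lt p))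
      (by rw [Nat.one_shiftLeft]; exact Nat.pow_lt_pow_right (by norm_num) (idx_lt q))
    have hmc : popCount m 24 = 2 := by rw [← card_maskSet, hset, Finset.card_pair hpq]
    have hsv : Z.D.eS {p, q} = Z.sv (uMask w) := by
      rw [← hset]
      exact Z.sv_congr hml (uMask_ok hw').1 (by rw [hmc]) (uMask_ok hw').2 hc
    have heq := Z.D.eS_equiv ⟨g, hN⟩ {p, q} (by rw [Finset.card_pair hpq]; exact even_two)
    rw [hsv, hfix w hw' hl, mul_inv_cancel_right, ← hsv] at heq
    set T := ({p, q} : Finset GolayPt).image ⇑(σ : Equiv.Perm GolayPt) with hT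
    have hTc : T.card = 2 := by
      rw [hT, Finset.card_image_of_injective _ (Equiv.injective _), Finset.card_pair hpq]
    have h1' : Z.D.eS (T ∆ {p, q}) = 1 := by
      rw [Z.D.eS_symmDiff _ _ (by rw [hTc]; exact even_two) (by rw [Finset.card_pair hpq]; exact even_two), ← heq,
        Z.D.sq _ (Z.D.eS_mem _)]
    have hsup := (Z.D.eS_eq_one _ (by
      rw [Nat.even_iff, LargeFischer.Big.card_symmDiff_mod, hTc, Finset.card_pair hpq])).1 h1'
    obtain ⟨k, hk, ek⟩ := mem_supports.1 hsup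
    have hle : (T ∆ {p, q}).card ≤ 4 := by
      refine le_trans (Finset.card_le_card (fun x hx => ?_)) (le_trans (Finset.card_union_le T {p, q}) ?_)
      · rcases Finset.mem_symmDiff.1 hx with ⟨h, -⟩ | ⟨h, -⟩
        · exact Finset.mem_union_left _ h
        · exact Finset.mem_union_right _ h
      · rw [hTc, Finset.card_pair hpq]
    rw [← ek, card_maskSet] at hle
    have hk0 : popCount k 24 = 0 := by
      rcases weight_cases hk with h | h | h | h | h <;> omega
    have hemp : T ∆ {p, q} = ∅ := by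
      rw [← ek]; exact Finset.card_eq_zero.1 (by rw [card_maskSet, hk0])
    exact symmDiff_eq_bot.1 hemp
  have hoct : maskSet 5279 ∈ octads := mem_octads.2 ⟨5279, octad_ref, rfl⟩
  have hpt : ∀ p ∈ maskSet 5279, (σ : Equiv.Perm GolayPt) p = p := by
    intro p hp
    have h8' : (maskSet 5279).card = 8 := card_octad hoct
    obtain ⟨q, hq⟩ : ((maskSet 5279).erase p).Nonempty := Finset.card_pos.1 (by rw [Finset.card_erase_of_mem hp, h8']; norm_num)
    obtain ⟨r, hr⟩ : (((maskSet 5279).erase p).erase q).Nonempty := Finset.card_pos.1 (by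
      rw [Finset.card_erase_of_mem hq, Finset.card_erase_of_mem hp, h8']; norm_num)
    simp only [Finset.mem_erase] at hq hr
    have hqi := (hpair p q (Ne.symm hq.1) hp hq.2).le (Finset.mem_image_of_mem _ (Finset.mem_insert_self _ _))
    have hri := (hpair p r (Ne.symm hr.2.1) hp hr.2.2).le (Finset.mem_image_of_mem _ (Finset.mem_insert_self _ _))
    simp only [Finset.mem_insert, Finset.mem_singleton] at hqi hri
    rcases hqi with e | e
    · exact e
    rcases hri with e' | e'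
    · exact e'
    exact absurd (e'.symm.trans e) hr.1
  obtain ⟨x, hx, hσx⟩ : ∃ x < 16, σ = evM x := by
    have hmem : ∀ x : Fin 16, (evM x : Equiv.Perm GolayPt) ∈ fixOct (maskSet 5279) := fun x => by
      refine mem_fixOct.2 ⟨(evM x).2, fun p hp => idx_injective ?_⟩
      rw [evM, idx_toM (evElt_ok x x.2).1]
      exact evElt_fix x x.2 _ (idx_lt p) (mem_maskSet.1 hp)
    let f : Fin 16 → ↥(fixOct (maskSet 5279)) := fun x => ⟨_, hmem x⟩
    have hf : Function.Bijective f := (Nat.bijective_iff_injective_and_card f).2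
      ⟨fun a b e => Fin.ext (evM_inj a.2 b.2 (Subtype.ext (congrArg (fun u : ↥(fixOct (maskSet 5279)) =>
        (u : Equiv.Perm GolayPt)) e))), by rw [Nat.card_fin, card_fixOct hoct]⟩
    obtain ⟨x, e⟩ := hf.2 ⟨σ, mem_fixOct.2 ⟨σ.2, hpt⟩⟩
    exact ⟨x, x.2, Subtype.ext (congrArg (fun u : ↥(fixOct (maskSet 5279)) => (u : Equiv.Perm GolayPt)) e).symm⟩
  -- the part in the large subgroup is fixed by the translations
  have hv : g * (Z.psi (evM x))⁻¹ ∈ Z.V := by
    have hm : (⟨g, hN⟩ : ↥(normalizer (Z.V : Set G))) * (⟨_, Z.psi_mem (evM x)⟩)⁻¹ ∈ Z.D.phi.ker := by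
      rw [MonoidHom.mem_ker, map_mul, map_inv, Z.phi_psi, ← hσ, hσx, mul_inv_cancel]
    rw [Z.D.phi_ker, mem_subgroupOf] at hm
    exact hm
  obtain ⟨i, hi, hiv⟩ := Z.exists_rep hv
  have hg' : g = Z.sv (app repCols i) * Z.psi (evM x) := by rw [hiv, inv_mul_cancel_right]
  have hcomm : ∀ k < 4, Z.psi (evM (2 ^ k)) * Z.sv (app repCols i) * (Z.psi (evM (2 ^ k)))⁻¹ = Z.sv (app repCols i) := by
    intro k hk
    have hk' : 2 ^ k < 16 := Nat.pow_lt_pow_right (by norm_num) hk
    have h := hg _ ⟨eW (2 ^ k), (eW_spec _ hk').1, rfl⟩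
    rw [Z.c_eW hk', hg'] at h
    have hab : Z.psi (evM x) * Z.psi (evM (2 ^ k)) = Z.psi (evM (2 ^ k)) * Z.psi (evM x) := by
      rw [← map_mul, ← map_mul, evM_mul hx hk', evM_mul hk' hx, Nat.xor_comm]
    rw [mul_inv_eq_iff_eq_mul]
    have h' : Z.psi (evM (2 ^ k)) * Z.sv (app repCols i) * Z.psi (evM x) =
        Z.sv (app repCols i) * Z.psi (evM (2 ^ k)) * Z.psi (evM x) := by
      rw [mul_assoc, h, mul_assoc, mul_assoc, hab]
    exact mul_right_cancel h'
  have hok := rep_fixed i hi (List.all_eq_true.2 fun k hk => by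
    have hk' : k < 4 := List.mem_range.1 hk
    have hk16 : 2 ^ k < 16 := Nat.pow_lt_pow_right (by norm_num) hk'
    obtain ⟨ei, li, -⟩ := rep_spec i hi
    obtain ⟨l', e'⟩ := imgMask_ok (evElt_ok _ hk16).1 ei
    have h := hcomm k hk'
    rw [evM, Z.psi_sv (evElt_ok _ hk16).1 ei] at h
    refine (Z.sv_eq_one (Nat.xor_lt_two_pow (n := 24) l' li) ?_).1 ?_
    · rw [← card_maskSet, maskSet_xor l' li, LargeFischer.Big.card_symmDiff_mod, card_maskSet, card_maskSet]
      omega
    · rw [Z.sv_xor l' li e' ei, h, Z.sv_sq])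
  obtain ⟨w, hw, hl, hc⟩ := hok
  obtain ⟨ei, li, -⟩ := rep_spec i hi
  have hw' : w < 1024 := lt_trans hw (by norm_num)
  rw [hg', Z.sv_congr li (uMask_ok hw').1 ei (uMask_ok hw').2 hc, ← Z.c_sv hl, ← Z.c_eW hx]
  exact mul_mem (show Z.c w ∈ Z.A from ⟨w, hw', rfl⟩) ⟨eW x, (eW_spec x hx).1, rfl⟩

section Classes

variable {z₀ : G} {P : Subgroup G} {M : Model z₀ P} (L : M.TLift) (hz₀ : IsConj z z₀)
  (hL : ∀ n < 1024, (IsConj z₀ (L.el n) ↔ Ten.tDec.testBit n = true))

include hz₀ hL in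
open Classical in
/-- The number of conjugates of the involution in the subgroup. -/
theorem class_count : ((Finset.range 1024).filter fun w => IsConj z (Z.c w)).card = 155 := by
  obtain ⟨g, hg⟩ := M.conjugate_tG Z.A Z.A_elem Z.card_A Z.centralizer_A
  have hz : ∀ x, IsConj z x ↔ IsConj z₀ x := fun x => ⟨fun h => hz₀.symm.trans h, fun h => hz₀.trans h⟩
  have hex : ∀ w, ∃ n, w < 1024 → n < 1024 ∧ g * L.el n * g⁻¹ = Z.c w := fun w => by
    by_cases hw : w < 1024
    · obtain ⟨a, ha, e⟩ := (hg ▸ (show Z.c w ∈ Z.A from ⟨w, hw, rfl⟩) : Z.c w ∈ M.tG.map (MulAut.conj g).toMonoidHom)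
      obtain ⟨n, hn, rfl⟩ := L.el_surj ha
      exact ⟨n, fun _ => ⟨hn, e⟩⟩
    · exact ⟨0, fun h => absurd h hw⟩
  choose f hf using hex
  rw [← Ten.dec_size, ← List.toFinset_card_of_nodup (List.nodup_range.filter _)]
  refine Finset.card_bij (fun w _ => f w) (fun w hw => ?_) (fun a ha b hb e => ?_) (fun n hn => ?_)
  · obtain ⟨hw, hc⟩ := Finset.mem_filter.1 hw
    obtain ⟨h1, h2⟩ := hf w (Finset.mem_range.1 hw)
    rw [List.mem_toFinset, List.mem_filter, List.mem_range]
    refine ⟨h1, (hL _ h1).1 ?_⟩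
    rw [← h2, hz] at hc
    exact hc.trans (isConj_iff.2 ⟨g⁻¹, by group⟩)
  · obtain ⟨ha, -⟩ := Finset.mem_filter.1 ha
    obtain ⟨hb, -⟩ := Finset.mem_filter.1 hb
    refine Z.c_inj (Finset.mem_range.1 ha) (Finset.mem_range.1 hb) ?_
    rw [← (hf a (Finset.mem_range.1 ha)).2, e, (hf b (Finset.mem_range.1 hb)).2]
  · rw [List.mem_toFinset, List.mem_filter, List.mem_range] at hn
    have hmem : g * L.el n * g⁻¹ ∈ Z.A := by rw [hg]; exact ⟨_, L.el_mem n, rfl⟩
    obtain ⟨w, hw, e⟩ := hmem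
    refine ⟨w, Finset.mem_filter.2 ⟨Finset.mem_range.2 hw, ?_⟩, ?_⟩
    · rw [e, hz]
      exact ((hL n hn.1).2 hn.2).trans (isConj_iff.2 ⟨g, rfl⟩)
    · obtain ⟨h1, h2⟩ := hf w hw
      refine L.el_inj h1 hn.1 ?_
      rw [← h2] at e
      exact mul_left_cancel (mul_right_cancel e)

include hz₀ hL in
/-- The conjugates of the involution are the decomposable vectors. -/
theorem class_iff : ∀ w < 1024, (IsConj z (Z.c w) ↔ wdec w = true) := by
  classical
  have hcount := Z.class_count L hz₀ hL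
  have hconj : ∀ (g : G) (w v : ℕ), g * Z.c w * g⁻¹ = Z.c v → IsConj z (Z.c w) → IsConj z (Z.c v) :=
    fun g w v e h => h.trans (isConj_iff.2 ⟨g, e⟩)
  -- the fixed translation
  have h72 : IsConj z (Z.c 72) := by
    by_contra hno
    set T := {w : Fin 1024 // IsConj z (Z.c w)}
    have hp7 : permOK elSeven.1 = true ∧ colsOK elSeven.1 elSeven.2.2.2 = true := by
      have h := List.all_eq_true.1 allData_ok elSeven (by simp [allData])
      simp only [dataOK, Bool.and_eq_true] at h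
      exact ⟨h.1.1.1.1.1, h.1.1.1.2⟩
    set C := elSeven.2.2.2
    have hlt : ∀ w < 1024, app C w < 1024 := fun w hw => (Z.psi_acts hp7.1 hp7.2 w hw).1
    let σ : T → T := fun w => ⟨⟨app C w.1, hlt _ w.1.2⟩,
      hconj _ _ _ (Z.psi_acts hp7.1 hp7.2 _ w.1.2).2 w.2⟩
    have hpow : ∀ w < 1024, (app C)^[7] w = w := J4Module.of_chunks 16 (by decide +kernel)
    have hit : ∀ (n : ℕ) (w : T), ((σ^[n] w).1 : ℕ) = (app C)^[n] w.1 := by
      intro n w
      induction n with
      | zero => rfl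
      | succ n ih => rw [Function.iterate_succ_apply', Function.iterate_succ_apply', ← ih]
    have h7 : ∀ w : T, σ^[7] w = w := fun w => Subtype.ext (Fin.ext ((hit 7 w).trans (hpow _ w.1.2)))
    let e : Equiv.Perm T := ⟨σ, σ^[6], fun w => (Function.iterate_succ_apply σ 6 w).symm.trans (h7 w),
      fun w => (Function.iterate_succ_apply' σ 6 w).symm.trans (h7 w)⟩
    have hc : Fintype.card T = 155 := by
      rw [← hcount, Fintype.card_subtype]
      refine Finset.card_bij (fun w _ => (w : ℕ)) (fun w hw => Finset.mem_filter.2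
        ⟨Finset.mem_range.2 w.2, (Finset.mem_filter.1 hw).2⟩) (fun a _ b _ h => Fin.ext h) (fun n hn => ?_)
      obtain ⟨h1, h2⟩ := Finset.mem_filter.1 hn
      exact ⟨⟨n, Finset.mem_range.1 h1⟩, Finset.mem_filter.2 ⟨Finset.mem_univ _, h2⟩, rfl⟩
    haveI : Fact (Nat.Prime 7) := ⟨by norm_num⟩
    obtain ⟨w, hw⟩ := Equiv.Perm.exists_fixed_point_of_prime (p := 7) (n := 1) (by rw [hc]; norm_num)
      (σ := e) (Equiv.ext fun w => by rw [pow_one, Equiv.Perm.coe_pow]; exact h7 w)
    have hfix : app C w.1 = w.1 := congrArg (fun u : T => (u.1 : ℕ)) hw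
    rcases (seven_fix _ w.1.2).1 hfix with h | h
    · have := w.2
      rw [h, Z.c_zero] at this
      obtain ⟨h1, -, h3, h4, -⟩ := pick_spec
      have hc4 : Z.sv (uMask (wp 1 2)) = 1 := isConj_one_left.1 ((Z.sv_conj_z h4).symm.trans this)
      have := (Z.sv_eq_one h3 (by rw [h4])).1 hc4
      revert this; decide +kernel
    · exact hno (h ▸ w.2)
  have htrans : ∀ x < 16, x ≠ 0 → IsConj z (Z.c (eW x)) := fun x hx hx0 => by
    obtain ⟨-, h⟩ := orb_spec x hx hx0
    exact h ▸ hconj _ _ _ (Z.gWord_acts _ 72 (by norm_num)).2 h72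
  have hsub : ∀ w < 1024, wdec w = true → IsConj z (Z.c w) := by
    intro w hw hd
    have hc := wdec_cases w hw hd
    simp only [casesB, List.any_eq_true, List.mem_range, Bool.and_eq_true, Bool.or_eq_true, decide_eq_true_eq,
      Nat.beq_eq] at hc
    obtain ⟨x, hx, y, hy, hx0, hcase⟩ := hc
    rcases hcase with ⟨⟨hy0, hxy⟩, e | e⟩ | e
    · obtain ⟨-, -, -, h4, -⟩ := plane_spec x hx y hy hx0 hy0 hxy
      rw [← e, Z.c_plane hx hy hx0 hy0 hxy (plane_lt x hx y hy)]
      exact Z.sv_conj_z h4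
    · obtain ⟨ml, me, mc⟩ := mixed_spec x hx y hy hx0 hy0 hxy
      obtain ⟨h0, h1, -, -, -⟩ := plane_spec x hx y hy hx0 hy0 hxy
      set m := 1 <<< ptL 0 ||| 1 <<< ptL y
      refine (htrans x hx hx0).trans (isConj_iff.2 ⟨Z.sv m, ?_⟩)
      have hev := (evElt_ok x hx).1
      obtain ⟨il, ie⟩ := imgMask_ok hev me
      have hprod : Z.sv m * Z.sv (imgMask (evElt x) m) = Z.sv (uMask (wp x y)) := by
        rw [← Z.sv_xor ml il me ie]
        refine Z.sv_congr (Nat.xor_lt_two_pow (n := 24) ml il) (uMask_ok h0).1 ?_ (uMask_ok h0).2 mc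
        rw [← card_maskSet, maskSet_xor ml il, LargeFischer.Big.card_symmDiff_mod, card_maskSet, card_maskSet]
        omega
      rw [← e, Z.c_xor (eW_spec x hx).1 h0, Z.c_sv h1, ← hprod, Z.c_eW hx, evM, ← Z.psi_sv hev me,
        inv_eq_of_mul_eq_one_right (Z.sv_sq m)]
      have hc2 : Z.psi (toM (evElt x)) * (Z.sv m * (Z.psi (toM (evElt x)) * Z.sv m * (Z.psi (toM (evElt x)))⁻¹)) =
          (Z.sv m * (Z.psi (toM (evElt x)) * Z.sv m * (Z.psi (toM (evElt x)))⁻¹)) * Z.psi (toM (evElt x)) := by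
        rw [Z.psi_sv hev me, hprod]
        exact Z.ev_sv_comm hx h0
      rw [hc2]
      group
    · exact e ▸ htrans x hx hx0
  have heq : ((Finset.range 1024).filter fun w => wdec w = true) = (Finset.range 1024).filter fun w => IsConj z (Z.c w) := by
    refine Finset.eq_of_subset_of_card_le (fun w hw => ?_) (le_of_eq ?_)
    · obtain ⟨h1, h2⟩ := Finset.mem_filter.1 hw
      exact Finset.mem_filter.2 ⟨h1, hsub w (Finset.mem_range.1 h1) h2⟩
    · rw [hcount, ← wdec_count, ← List.toFinset_card_of_nodup (List.nodup_range.filter _)]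
      congr 1
  intro w hw
  refine ⟨fun h => ?_, hsub w hw⟩
  have := heq.ge (Finset.mem_filter.2 ⟨Finset.mem_range.2 hw, h⟩)
  exact (Finset.mem_filter.1 this).2

end Classes

end Sect

end Cfsg.Agent.JankoFour.Recog
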