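import Cfsg.Agent.Lib.JankoFour.Recog.Relations
import Cfsg.Agent.Lib.JankoFour.LargePrimes
import Cfsg.Agent.Lib.JankoFour.LargeMain

/-!
The copy of the Mathieu group and the third generator generate a simple group of Janko-four type: the subgroup they
generate contains the normaliser of the large abelian subgroup, and the Sylow congruences for the large primes leave
only the full order.
-/

set_option autoImplicit false
set_option linter.unusedSectionVars false
set_option maxRecDepth 100000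

namespace Cfsg.Agent.JankoFour.Recog

open Subgroup
open Cfsg (GolayPt M24)
open Cfsg.Agent.Golay Cfsg.Agent.PermCert
open Cfsg.Agent.J4Module (app)
open scoped Pointwise

/-- An element of order eleven carrying the product of the first two generators to its square. -/
def permN : Elt := (279593066265999747005632660041436736, 926072243893855108655541991534308960)

theorem permN_ok : permOK permN = true ∧ (eltPow permN 11).1 = idCode 5 24 ∧
    (eltPow (eltWord [permX, permY]) 23).1 = idCode 5 24 ∧ permOK (eltWord [permX, permY]) = true ∧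
    (eltWord [permN, eltWord [permX, permY]]).1 =
      (eltWord [eltWord [permX, permY], eltWord [permX, permY], permN]).1 ∧
    (∃ i : Fin 24, PermCert.get 5 permN.1 i ≠ i) ∧ ∃ i : Fin 24, PermCert.get 5 (eltWord [permX, permY]).1 i ≠ i := by
  decide +kernel

/-- The primes with the index of their centraliser in the normaliser and a known divisor of the local index. -/
def primeData : List (ℕ × ℕ × ℕ) := [(23, 22, 11), (29, 28, 1), (31, 10, 1), (37, 12, 1), (43, 14, 1)]

/-- The order is excluded by the congruence at a prime. -/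
def excluded (h : ℕ) : Bool :=
  primeData.any fun q => (h % q.1 == 0) && (List.range (q.2.1 + 1)).all fun x =>
    !((q.2.1 % x == 0) && (x % q.2.2 == 0) && ((h / q.1) % x == 0) && ((h / q.1 / x) % q.1 == 1))

theorem order_cases : ∀ d ∈ Large.subProds [11, 11, 29, 31, 37, 43],
    d = 1 ∨ d = 173067389 ∨ excluded (501397585920 * d) = true := by decide +kernel

theorem prime_spec : ∀ q ∈ primeData, q.1 ∈ [23, 29, 31, 37, 43] ∧ q.1.Prime ∧ Large.idx q.1 1 = q.2.1 ∧
    86775571046077562880 % (q.1 * q.1) ≠ 0 ∧ (q.2.2 = 1 ∨ q.1 = 23 ∧ q.2.2 = 11) := by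
  simp only [primeData, List.forall_mem_cons]
  obtain ⟨h1, h2, h3, h4, h5, -⟩ := Large.idx_spec
  norm_num [h1, h2, h3, h4, h5]

namespace Framed

variable {G : Type*} [Group G] [Finite G] {z : G} (F : Framed z)

section Members

variable {H : Subgroup G} (hψ : F.X.Z.psi.range ≤ H) (ht : F.tP ∈ H)
include hψ ht

theorem psi_mem' (σ : ↥M24) : F.X.Z.psi σ ∈ H := hψ ⟨σ, rfl⟩

theorem tr_mem' : F.X.tr 8 ∈ H ∧ F.X.tr 13 ∈ H := by
  have h8 : F.X.tr 8 ∈ H := by
    have e : F.X.tr 8 = (F.X.Z.psi (toM permH))⁻¹ * F.tP * F.X.Z.psi (toM permH) := by rw [tP]; group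
    rw [e]
    exact mul_mem (mul_mem (inv_mem (F.psi_mem' hψ ht _)) ht) (F.psi_mem' hψ ht _)
  obtain ⟨-, -, -, -, -, -, -, cu, -⟩ := relation_conj
  refine ⟨h8, ?_⟩
  rw [← F.X.conj_tr (relation_mem elDu (by simp)) (l := 8) (l' := 13) (by norm_num) (by norm_num) cu]
  exact mul_mem (mul_mem (F.psi_mem' hψ ht _) h8) (inv_mem (F.psi_mem' hψ ht _))

/-- A sextet vector lies in the subgroup. -/
theorem sx_mem' : F.X.sx 4 ∈ H := by
  obtain ⟨h8, -⟩ := F.tr_mem' hψ ht
  have hγ : F.X.gam ∈ H := F.psi_mem' hψ ht _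
  have hg : F.tg 8 ∈ H := mul_mem (mul_mem hγ h8) (inv_mem hγ)
  have hh : F.th 8 ∈ H := mul_mem (mul_mem hγ hg) (inv_mem hγ)
  obtain ⟨-, hv, -⟩ := yLab_ok.1 4 (by norm_num) 8 (by norm_num)
  have hE : F.X.tE (yLab 4 8) ∈ H := by rw [F.X.tE_eq hv]; exact F.psi_mem' hψ ht _
  set γ := F.X.gam with hγdef
  set y := F.X.sx 4
  set t := F.X.tr 1
  set q := y * F.X.tr 8 with hqdef
  have hyg : γ * y * γ⁻¹ = y := by rw [hγdef, F.X.sx_gam (by norm_num), mul_inv_cancel_right]
  set q' := γ * q * γ⁻¹ with hq'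
  set q'' := γ * q' * γ⁻¹ with hq''
  have e' : q' = y * F.tg 8 := by
    calc q' = (γ * y * γ⁻¹) * (γ * F.X.tr 8 * γ⁻¹) := by rw [hq', hqdef]; group
      _ = _ := by rw [hyg]; rfl
  have e'' : q'' = y * F.th 8 := by
    calc q'' = (γ * y * γ⁻¹) * (γ * F.tg 8 * γ⁻¹) := by rw [hq'', e']; group
      _ = _ := by rw [hyg]; rfl
  have hqQ : q ∈ F.K.Q := F.pair_mem (a := 8) (by simp)
  have hq'Q : q' ∈ F.K.Q := F.K.normal _ F.gam_t _ hqQ
  have hq''Q : q'' ∈ F.K.Q := F.K.normal _ F.gam_t _ hq'Q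
  have hrot : γ * q'' * γ⁻¹ = q := by
    calc γ * q'' * γ⁻¹ = (γ * γ * γ) * q * (γ * γ * γ)⁻¹ := by rw [hq'', hq']; group
      _ = q := by rw [F.X.gam_cube]; group
  set u := q * q' * q'' with hu
  have huQ : u ∈ F.K.Q := mul_mem (mul_mem hqQ hq'Q) hq''Q
  have hgu : γ * u * γ⁻¹ = u ∨ γ * u * γ⁻¹ = u * t := by
    have e : γ * u * γ⁻¹ = q' * q'' * q := by
      calc γ * u * γ⁻¹ = (γ * q * γ⁻¹) * (γ * q' * γ⁻¹) * (γ * q'' * γ⁻¹) := by rw [hu]; group
        _ = _ := by rw [hrot]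
    rcases F.K.comm _ (mul_mem hq'Q hq''Q) _ hqQ with h | h
    · left
      rw [e, hu, mul_assoc q q' q'']
      exact mul_inv_eq_one.1 (show q' * q'' * q * (q * (q' * q''))⁻¹ = 1 by rw [← h]; group)
    · right
      rw [e, hu, F.K.mem_cent _ (mul_mem (mul_mem hqQ hq'Q) hq''Q)]
      calc q' * q'' * q = q' * q'' * q * (q' * q'')⁻¹ * q⁻¹ * (q * (q' * q'')) := by group
        _ = t * (q * q' * q'') := by rw [h]; simp only [mul_assoc]; rfl
  have hu1 : u = 1 ∨ u = t := by
    refine F.K.fixed u huQ ?_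
    rcases hgu with h | h
    · exact (mul_inv_eq_iff_eq_mul.1 h).symm
    · exfalso
      refine F.t_ne_one ?_
      have ht' : γ * t * γ⁻¹ = t := by rw [hγdef, F.gam_t, mul_inv_cancel_right]
      have e : u = u * t * t * t := by
        calc u = γ * γ * γ * u * (γ * γ * γ)⁻¹ := by rw [F.X.gam_cube]; group
          _ = γ * (γ * (γ * u * γ⁻¹) * γ⁻¹) * γ⁻¹ := by group
          _ = γ * (γ * (u * t) * γ⁻¹) * γ⁻¹ := by rw [h]
          _ = γ * ((γ * u * γ⁻¹) * (γ * t * γ⁻¹)) * γ⁻¹ := by group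
          _ = γ * (u * t * t) * γ⁻¹ := by rw [h, ht']
          _ = (γ * u * γ⁻¹) * (γ * t * γ⁻¹) * (γ * t * γ⁻¹) := by group
          _ = _ := by rw [h, ht']
      rwa [mul_assoc (u * t), F.X.tr_sq (by norm_num), mul_one, left_eq_mul] at e
  have hu' : u ∈ H := by
    rcases hu1 with h | h
    · rw [h]; exact one_mem H
    · rw [h, show t = F.X.tr 1 from rfl]
      obtain ⟨h8', h13'⟩ := F.tr_mem' hψ ht
      have e1 : F.X.tr 1 = F.X.tr 13 * F.X.tr 12 :=
        (F.X.tr_xor (l := 13) (l' := 12) (by norm_num) (by norm_num)).symm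
      rw [e1]
      refine mul_mem h13' ?_
      obtain ⟨-, -, -, -, -, -, -, -, cn2, -⟩ := relation_conj
      rw [← F.X.conj_tr (relation_mem elN2 (by simp)) (l := 13) (l' := 12) (by norm_num) (by norm_num) cn2]
      exact mul_mem (mul_mem (F.psi_mem' hψ ht _) h13') (inv_mem (F.psi_mem' hψ ht _))
  have hswap : F.X.tr 8 * y = y * F.X.tE (yLab 4 8) * F.X.tr 8 := by
    rw [← F.X.tr_sx (show 4 < 8 by norm_num) (show 8 < 16 by norm_num), mul_assoc _ (F.X.tr 8) (F.X.tr 8),
      F.X.tr_sq (by norm_num), mul_one]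
  have hy2 : y * y = 1 := F.X.sx_sq (by norm_num)
  have huy : u = F.X.tE (yLab 4 8) * F.X.tr 8 * F.tg 8 * y * F.th 8 := by
    calc u = y * (F.X.tr 8 * y) * F.tg 8 * (y * F.th 8) := by rw [hu, e'', e', hqdef]; group
      _ = (y * y) * F.X.tE (yLab 4 8) * F.X.tr 8 * F.tg 8 * y * F.th 8 := by rw [hswap]; group
      _ = _ := by rw [hy2, one_mul]
  have hy : y = (F.X.tE (yLab 4 8) * F.X.tr 8 * F.tg 8)⁻¹ * u * (F.th 8)⁻¹ := by rw [huy]; group
  rw [hy]
  exact mul_mem (mul_mem (inv_mem (mul_mem (mul_mem hE h8) hg)) hu') (inv_mem hh)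

/-- The large abelian subgroup lies in the subgroup. -/
theorem V_le' : F.X.Z.V ≤ H := by
  classical
  set D := F.X.Z.D
  have hN : F.X.sx 4 ∈ F.X.Z.V := by
    rw [Rig.sx, F.X.Z.c_sv (yW_ok 4 (by norm_num)).2.1]; exact F.X.Z.sv_mem _
  have hne : F.X.sx 4 ≠ 1 := fun e => 
    absurd ((yW_ok 4 (by norm_num)).2.2.1 (F.X.Z.c_eq_one (yW_ok 4 (by norm_num)).1 e)) (by norm_num)
  obtain ⟨S, hS, hS4, hSe⟩ := D.eS_surj _ hN
  have hSH : D.eS S ∈ H := hSe ▸ F.sx_mem' hψ ht
  have move : ∀ s r : Finset GolayPt, Even s.card → s.card ≤ 5 → r.card = s.card → D.eS s ∈ H → D.eS r ∈ H := by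
    intro s r hs h5 hr hm
    obtain ⟨g, hg⟩ := TwoCent.exists_map_finset (s := s) (t := r) hr.symm h5
    have h := D.eS_equiv ⟨F.X.Z.psi g, F.X.Z.psi_mem g⟩ s hs
    rw [F.X.Z.phi_psi] at h
    rw [show r = s.image ⇑(g : Equiv.Perm GolayPt) from hg.symm, ← h]
    exact mul_mem (mul_mem (F.psi_mem' hψ ht g) hm) (inv_mem (F.psi_mem' hψ ht g))
  have duads : ∀ r : Finset GolayPt, r.card = 2 → D.eS r ∈ H := by
    rw [Nat.even_iff] at hS
    rcases (show S.card = 0 ∨ S.card = 2 ∨ S.card = 4 by omega) with h | h | h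
    · refine absurd ?_ hne
      rw [← hSe, Finset.card_eq_zero.1 h]
      exact D.cocode.kap_empty
    · exact fun r hr => move S r (by rw [h]; decide) (by omega) (by omega) hSH
    · intro r hr
      obtain ⟨a, b, hab, rfl⟩ := Finset.card_eq_two.1 hr
      obtain ⟨T, hT, hTc⟩ := Finset.exists_subset_card_eq (s := (({a, b} : Finset GolayPt))ᶜ) (n := 3) (by
        rw [Finset.card_compl, Finset.card_pair hab]
        decide +kernel)
      have haT : a ∉ T := fun hm => by simpa using Finset.mem_compl.1 (hT hm)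
      have hbT : b ∉ T := fun hm => by simpa using Finset.mem_compl.1 (hT hm)
      have ca : (insert a T).card = 4 := by rw [Finset.card_insert_of_notMem haT, hTc]
      have cb : (insert b T).card = 4 := by rw [Finset.card_insert_of_notMem hbT, hTc]
      have e : ({a, b} : Finset GolayPt) = symmDiff (insert a T) (insert b T) := by
        ext x
        simp only [Finset.mem_insert, Finset.mem_singleton, Finset.mem_symmDiff]
        constructor
        · rintro (rfl | rfl)
          · exact Or.inl ⟨Or.inl rfl, by tauto⟩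
          · exact Or.inr ⟨Or.inl rfl, by tauto⟩
        · tauto
      rw [e, D.eS_symmDiff _ _ (by rw [ca]; decide) (by rw [cb]; decide)]
      exact mul_mem (move S _ (by rw [h]; decide) (by omega) (by omega) hSH)
        (move S _ (by rw [h]; decide) (by omega) (by omega) hSH)
  intro v hv
  obtain ⟨s, hs, hs4, rfl⟩ := D.eS_surj v hv
  rw [Nat.even_iff] at hs
  rcases (show s.card = 0 ∨ s.card = 2 ∨ s.card = 4 by omega) with h | h | h
  · rw [Finset.card_eq_zero.1 h, show D.eS ∅ = 1 from D.cocode.kap_empty]; exact one_mem H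
  · exact duads s h
  · obtain ⟨T, hT, hTc⟩ := Finset.exists_subset_card_eq (s := s) (n := 2) (by omega)
    have hc : (s \ T).card = 2 := by rw [Finset.card_sdiff_of_subset hT, h, hTc]
    have e : s = symmDiff T (s \ T) := by
      ext x
      simp only [Finset.mem_symmDiff, Finset.mem_sdiff]
      constructor
      · intro hx; tauto
      · rintro (⟨hx, -⟩ | ⟨⟨hx, -⟩, -⟩)
        exacts [hT hx, hx]
    rw [e, D.eS_symmDiff _ _ (by rw [hTc]; decide) (by rw [hc]; decide)]
    exact mul_mem (duads T hTc) (duads _ hc)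

theorem normalizer_le' : normalizer (F.X.Z.V : Set G) ≤ H := fun n hn => by
  set σ := F.X.Z.D.phi ⟨n, hn⟩
  have h : (⟨n, hn⟩ : ↥(normalizer (F.X.Z.V : Set G))) * (⟨F.X.Z.psi σ, F.X.Z.psi_mem σ⟩)⁻¹ ∈ F.X.Z.D.phi.ker := by
    rw [MonoidHom.mem_ker, map_mul, map_inv, F.X.Z.phi_psi, mul_inv_cancel]
  rw [F.X.Z.D.phi_ker, mem_subgroupOf] at h
  have := mul_mem (F.V_le' hψ ht h) (F.psi_mem' hψ ht σ)
  simpa using this

end Members

theorem card_normalizer : Nat.card ↥(normalizer (F.X.Z.V : Set G)) = 501397585920 := by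
  rw [Subgroup.card_eq_card_quotient_mul_card_subgroup F.X.Z.D.phi.ker,
    Nat.card_congr (QuotientGroup.quotientKerEquivOfSurjective _ F.X.Z.D.phi_surj).toEquiv, F.X.Z.D.phi_ker,
    Nat.card_congr (Subgroup.subgroupOfEquivOfLe (le_normalizer)).toEquiv, F.X.Z.D.card, card_M24]

/-- The transvection of the standard trio does not normalise the large abelian subgroup. -/
theorem tr_not_normal : F.X.tr 13 ∉ normalizer (F.X.Z.V : Set G) := fun h => by
  have hy : F.X.sx 4 ∈ F.X.Z.V := by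
    rw [Rig.sx, F.X.Z.c_sv (yW_ok 4 (by norm_num)).2.1]; exact F.X.Z.sv_mem _
  have h1 := (mem_normalizer_iff.1 h _).1 hy
  rw [F.X.tr_inv (by norm_num), F.X.tr_sx (by norm_num) (by norm_num), yLab_ok.2.1,
    Subgroup.mul_mem_cancel_left _ hy, F.X.tE_eq (by norm_num)] at h1
  have h2 : F.X.Z.D.phi ⟨_, F.X.Z.psi_mem (evM 2)⟩ = 1 := by
    rw [← MonoidHom.mem_ker, F.X.Z.D.phi_ker, mem_subgroupOf]; exact h1
  rw [F.X.Z.phi_psi, ← evM_zero] at h2
  exact absurd (evM_inj (by norm_num) (by norm_num) h2) (by norm_num)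

/-- Some element of the Mathieu group of order eleven normalises an element of order twenty-three. -/
theorem exists_frobenius : ∃ a b : ↥M24, orderOf a = 23 ∧ orderOf b = 11 ∧ b * a * b⁻¹ = a * a := by
  obtain ⟨hb, hb11, ha23, ha, hrel, hbne, hane⟩ := permN_ok
  refine ⟨toM (eltWord [permX, permY]), toM permN, ?_, ?_, ?_⟩
  · have : Fact (Nat.Prime 23) := ⟨by norm_num⟩
    refine orderOf_eq_prime (toM_pow_one ha ha23) fun e => ?_
    obtain ⟨i, hi⟩ := hane
    refine hi ?_
    have h := idx_toM ha (pt i)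
    rw [e, idx_pt] at h
    exact h.symm.trans (idx_pt _)
  · have : Fact (Nat.Prime 11) := ⟨by norm_num⟩
    refine orderOf_eq_prime (toM_pow_one hb hb11) fun e => ?_
    obtain ⟨i, hi⟩ := hbne
    refine hi ?_
    have h := idx_toM hb (pt i)
    rw [e, idx_pt] at h
    exact h.symm.trans (idx_pt _)
  · rw [mul_inv_eq_iff_eq_mul]
    have := mList_eq (L := [permN, eltWord [permX, permY]]) (L' := [eltWord [permX, permY], eltWord [permX, permY], permN])
      (by simp [hb, ha]) (by simp [hb, ha]) hrel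
    simpa [mList, mul_assoc] using this

/-- The Sylow congruence at a large prime for a subgroup containing the copy of the Mathieu group. -/
theorem not_excluded [IsSimpleGroup G] (hG : ¬ IsMulCommutative G) {P : Subgroup G}
    (hJ : Cfsg.IsOfJankoFourTypeWith z P) (hord : Nat.card G = 86775571046077562880) {H : Subgroup G}
    (hψ : F.X.Z.psi.range ≤ H) : excluded (Nat.card ↥H) = false := by
  obtain ⟨M, ⟨L⟩⟩ := exists_large_setup hG hJ hord
  rw [Bool.eq_false_iff]
  intro hex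
  simp only [excluded, List.any_eq_true, Bool.and_eq_true, beq_iff_eq, List.all_eq_true, List.mem_range,
    Bool.not_eq_true', Bool.and_eq_false_iff, beq_eq_false_iff_ne] at hex
  obtain ⟨⟨p, i, k⟩, hq, hp0, hall⟩ := hex
  obtain ⟨hmem, hp, hidx, hsq, hk⟩ := prime_spec _ hq
  dsimp only at hp0 hall hmem hp hidx hsq hk
  haveI : Fact p.Prime := ⟨hp⟩
  obtain ⟨m, hm⟩ : p ∣ Nat.card ↥H := Nat.dvd_of_mod_eq_zero hp0
  have hpm : ¬ p ∣ m := fun h => hsq (Nat.mod_eq_zero_of_dvd (hord ▸ ((mul_dvd_mul_left p h).trans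
    (hm ▸ Subgroup.card_subgroup_dvd_card H))))
  obtain ⟨w, hwH, hw, hw11⟩ : ∃ w ∈ H, orderOf w = p ∧
      (k = 1 ∨ ∃ b ∈ normalizer (zpowers w : Set G) ⊓ H, orderOf b = 11) := by
    rcases hk with hk | ⟨hp23, hk11⟩
    · obtain ⟨w, hw⟩ := exists_prime_orderOf_dvd_card' (G := ↥H) p ⟨m, hm⟩
      exact ⟨w, w.2, by rw [Subgroup.orderOf_coe, hw], Or.inl hk⟩
    · obtain ⟨a, b, ha, hb, hab⟩ := exists_frobenius
      have inj := Sect.psi_injective F.X.Z
      refine ⟨F.X.Z.psi a, hψ ⟨a, rfl⟩, ?_, Or.inr ⟨F.X.Z.psi b, ⟨mem_normalizer_fintype ?_, hψ ⟨b, rfl⟩⟩, ?_⟩⟩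
      · rw [orderOf_injective _ inj, ha]; exact hp23.symm
      · rintro _ ⟨j, rfl⟩
        show F.X.Z.psi b * F.X.Z.psi a ^ j * (F.X.Z.psi b)⁻¹ ∈ _
        rw [← conj_zpow, ← map_inv, ← map_mul, ← map_mul, hab, map_mul]
        exact zpow_mem (mul_mem (mem_zpowers _) (mem_zpowers _)) j
      · rw [orderOf_injective _ inj, hb]
  obtain ⟨n, hn, hn1, hcount⟩ := exists_count hp hwH hw hm hpm
  obtain ⟨-, hN⟩ := L.large_orders hord p hmem w hw
  rw [hidx] at hN
  set K := normalizer (zpowers w : Set G) ⊓ H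
  have hwK : w ∈ K := ⟨le_normalizer (mem_zpowers w), hwH⟩
  obtain ⟨x, hx⟩ : p ∣ Nat.card ↥K := hw ▸ Subgroup.orderOf_dvd_natCard _ hwK
  have hKN : Nat.card ↥K ∣ p * i := hN ▸ Subgroup.card_dvd_of_le inf_le_left
  have hxi : x ∣ i := Nat.dvd_of_mul_dvd_mul_left hp.pos (hx ▸ hKN)
  have hi0 : 0 < i := by
    rcases Nat.eq_zero_or_pos i with h | h
    · rw [h, mul_zero] at hN; exact absurd hN Nat.card_pos.ne'
    · exact h
  rw [hx, hm, mul_assoc] at hcount
  have hxn : x * n = m := Nat.eq_of_mul_eq_mul_left hp.pos hcount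
  have hx0 : 0 < x := Nat.pos_of_dvd_of_pos hxi hi0
  have hkx : x % k = 0 := by
    rcases hw11 with rfl | ⟨b, hb, hb11⟩
    · exact Nat.mod_one x
    · rcases hk with hk | ⟨hp23, hk11⟩
      · rw [hk]; exact Nat.mod_one x
      · subst hp23 hk11
        have hd : 11 ∣ 23 * x := by rw [← hx, ← hb11]; exact Subgroup.orderOf_dvd_natCard _ hb
        exact Nat.mod_eq_zero_of_dvd (((Nat.Prime.dvd_mul (by norm_num)).1 hd).resolve_left (by norm_num))
  have hmp : Nat.card ↥H / p = m := by rw [hm, Nat.mul_div_cancel_left _ hp.pos]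
  rcases hall x (Nat.lt_succ_of_le (Nat.le_of_dvd hi0 hxi)) with ((h | h) | h) | h
  · exact h (Nat.mod_eq_zero_of_dvd hxi)
  · exact h hkx
  · exact h (by rw [hmp, ← hxn, Nat.mul_mod_right])
  · exact h (by rw [hmp, ← hxn, Nat.mul_div_cancel_left _ hx0, hn1])

/-- **The copy of the Mathieu group and the third generator generate the group.** -/
theorem eq_top [IsSimpleGroup G] (hG : ¬ IsMulCommutative G) {P : Subgroup G}
    (hJ : Cfsg.IsOfJankoFourTypeWith z P) (hord : Nat.card G = 86775571046077562880) {H : Subgroup G}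
    (hψ : F.X.Z.psi.range ≤ H) (ht : F.tP ∈ H) : H = ⊤ := by
  obtain ⟨d, hd⟩ := F.card_normalizer ▸ Subgroup.card_dvd_of_le (F.normalizer_le' hψ ht)
  have hdD : d ∣ [11, 11, 29, 31, 37, 43].prod := by
    refine Nat.dvd_of_mul_dvd_mul_left (show 0 < 501397585920 by norm_num) ?_
    rw [← hd]
    exact (Subgroup.card_subgroup_dvd_card H).trans (dvd_of_eq (by rw [hord]; norm_num))
  have hmem := Large.mem_subProds _ (by norm_num) d hdD
  rcases order_cases d hmem with rfl | rfl | h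
  · exfalso
    have e : normalizer (F.X.Z.V : Set G) = H :=
      Subgroup.eq_of_le_of_card_ge (F.normalizer_le' hψ ht) (by rw [hd, F.card_normalizer, mul_one])
    exact F.tr_not_normal (e.symm ▸ (F.tr_mem' hψ ht).2)
  · exact Subgroup.eq_top_of_card_eq H (by rw [hd, hord])
  · rw [← hd, F.not_excluded hG hJ hord hψ] at h
    exact absurd h Bool.false_ne_true

end Framed

end Cfsg.Agent.JankoFour.Recog
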