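import Cfsg.Agent.Lib.JankoFour.Recog.Tau

/-!
The transvection fixed by the element cycling the trio commutes with it.
-/

set_option autoImplicit false
set_option linter.unusedSectionVars false
set_option maxRecDepth 100000

namespace Cfsg.Agent.JankoFour.Recog

open Subgroup
open Cfsg (GolayPt M24)
open Cfsg.Agent.Golay Cfsg.Agent.PermCert

/-- The centraliser of an element of order seven maps to the symmetric group of degree five. -/
structure SevenFrame {G : Type*} [Group G] (s : G) where
  theta : ↥(centralizer ({s} : Set G)) →* Equiv.Perm (Fin 5)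
  ker_le : ∀ g, theta g = 1 → (g : G) ∈ zpowers s

/-- The local structure at seven. -/
def SevenHyp {G : Type*} [Group G] (z : G) : Prop :=
  ∀ x s : G, IsConj z x → orderOf s = 7 → s * x = x * s →
    Nonempty (SevenFrame s) ∧ ∃ u : G, u * u * u = 1 ∧ u ≠ 1 ∧ u * x = x * u ∧ u * s = s * u

namespace SevenFrame

variable {G : Type*} [Group G] {s : G} (Θ : SevenFrame s)

theorem pow_seven (hord : orderOf s = 7) {g : ↥(centralizer ({s} : Set G))} (h : Θ.theta g = 1) :
    (g : G) ^ 7 = 1 := by
  obtain ⟨i, hi⟩ := mem_zpowers_iff.1 (Θ.ker_le g h)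
  rw [← hi, ← zpow_natCast, ← zpow_mul, mul_comm, zpow_mul, zpow_natCast, ← hord, pow_orderOf_eq_one, one_zpow]

theorem kill (hord : orderOf s = 7) {g : ↥(centralizer ({s} : Set G))} (h : Θ.theta g = 1)
    (h2 : (g : G) * g = 1) : g = 1 := by
  have h7 := Θ.pow_seven hord h
  have e : (g : G) ^ 7 = g * g * (g * g) * (g * g) * g := by simp only [pow_succ, pow_zero, one_mul, mul_assoc]
  rw [h2, one_mul, one_mul, one_mul, h7] at e
  exact Subtype.ext e.symm

theorem kill_three (hord : orderOf s = 7) {g : ↥(centralizer ({s} : Set G))} (h : Θ.theta g = 1)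
    (h3 : (g : G) * g * g = 1) : g = 1 := by
  have h7 := Θ.pow_seven hord h
  have e : (g : G) ^ 7 = g * g * g * (g * g * g) * g := by simp only [pow_succ, pow_zero, one_mul, mul_assoc]
  rw [h3, one_mul, one_mul, h7] at e
  exact Subtype.ext e.symm

theorem central {g : ↥(centralizer ({s} : Set G))} (h : Θ.theta g = 1) (x : ↥(centralizer ({s} : Set G))) :
    g * x = x * g := by
  obtain ⟨i, hi⟩ := mem_zpowers_iff.1 (Θ.ker_le g h)
  apply Subtype.ext
  show (g : G) * x = x * g
  rw [← hi]
  exact ((show Commute s x from (mem_centralizer_singleton_iff.1 x.2).symm).zpow_left i).eq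

end SevenFrame

variable {G : Type*} [Group G] {z : G}

set_option maxHeartbeats 400000 in
/-- The abstract argument: three elements cycled by an element of order three force it to commute. -/
theorem comm_of_seven (hS : SevenHyp z) {s e t c : G} {f : Fin 3 → G} (hord : orderOf s = 7)
    (hse : s * e = e * s) (hst : s * t = t * s) (hsc : s * c = c * s) (hez : IsConj z e) (htz : IsConj z t)
    (he1 : e ≠ 1) (ht1 : t ≠ 1) (he2 : e * e = 1) (ht2 : t * t = 1) (het : e * t = t * e) (hne : e ≠ t)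
    (hc3 : c * c * c = 1) (hece : e * c * e = c * c) (hcf : ∀ k, c * f k = f (k + 1) * c)
    (hft : ∀ k, f k * t = t * f k) (hfe : f 0 * e ≠ e * f 0) : c * t = t * c := by
  classical
  obtain ⟨⟨Θ⟩, ut, ut3, ut1, utt, uts⟩ := hS t s htz hord hst
  obtain ⟨-, ue, ue3, ue1, uee, ues⟩ := hS e s hez hord hse
  have mem : ∀ g : G, s * g = g * s → g ∈ centralizer ({s} : Set G) := fun g h =>
    mem_centralizer_singleton_iff.2 h.symm
  have T5of : ∀ g : ↥(centralizer ({s} : Set G)), (g : G) * g = 1 → (g : G) ≠ 1 →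
      (∃ u : G, u * u * u = 1 ∧ u ≠ 1 ∧ u * g = g * u ∧ u * s = s * u) → T5 (Θ.theta g) := by
    rintro g h2 h1 ⟨u, u3, u1, ug, us⟩
    set U : ↥(centralizer ({s} : Set G)) := ⟨u, mem u us.symm⟩
    have hg2 : g * g = 1 := Subtype.ext h2
    have hU3 : U * U * U = 1 := Subtype.ext u3
    refine ⟨by rw [← map_mul, hg2, map_one], fun h => h1 ?_, Θ.theta U, by rw [← map_mul, ← map_mul, hU3, map_one],
      fun h => u1 ?_, ?_⟩
    · exact congrArg Subtype.val (Θ.kill hord h h2)
    · exact congrArg Subtype.val (Θ.kill_three hord h u3)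
    · rw [← map_mul, ← map_mul]
      exact congrArg _ (Subtype.ext ug)
  set E : ↥(centralizer ({s} : Set G)) := ⟨e, mem e hse⟩
  set T : ↥(centralizer ({s} : Set G)) := ⟨t, mem t hst⟩
  set C : ↥(centralizer ({s} : Set G)) := ⟨c, mem c hsc⟩
  have hE2 : E * E = 1 := Subtype.ext he2
  have hT2 : T * T = 1 := Subtype.ext ht2
  by_contra hct
  have hth : Θ.theta C * Θ.theta T ≠ Θ.theta T * Θ.theta C := by
    intro h
    refine hct ?_
    set K := C * T * (T * C)⁻¹ with hK
    have hk1 : Θ.theta K = 1 := by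
      rw [hK, map_mul, map_inv, map_mul, map_mul, h, mul_inv_cancel]
    have hinv : T * K * T = K⁻¹ := by
      rw [hK]
      calc T * (C * T * (T * C)⁻¹) * T = T * C * T * C⁻¹ * (T⁻¹ * T) := by group
        _ = T * C * (T⁻¹ * C⁻¹) := by rw [inv_mul_cancel, mul_one, inv_eq_of_mul_eq_one_right hT2]; group
        _ = _ := by group
    rw [← Θ.central hk1 T, mul_assoc, hT2, mul_one] at hinv
    have hK2 : (K : G) * K = 1 := by
      have h := mul_inv_cancel K
      rw [← hinv] at h
      exact congrArg Subtype.val h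
    have h1 := Θ.kill hord hk1 hK2
    rw [hK, mul_inv_eq_one] at h1
    exact congrArg Subtype.val h1
  obtain ⟨i, j, hij⟩ := perm5_key _ (T5of E he2 he1 ⟨ue, ue3, ue1, uee, ues⟩) _
    (T5of T ht2 ht1 ⟨ut, ut3, ut1, utt, uts⟩)
    (fun h => hne (by
      have h1 : Θ.theta (E * T) = 1 := by rw [map_mul, h, ← map_mul, hT2, map_one]
      have h2 : e * t * (e * t) = 1 := by
        rw [mul_assoc, ← mul_assoc t, ← het, mul_assoc, ht2, mul_one, he2]
      have h3 : e * t = 1 := congrArg Subtype.val (Θ.kill hord h1 h2)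
      rw [mul_eq_one_iff_eq_inv, inv_eq_of_mul_eq_one_right ht2] at h3
      exact h3))
    (by rw [← map_mul, ← map_mul]; exact congrArg _ (Subtype.ext het))
    (Θ.theta C)
    (by rw [← map_mul, ← map_mul, show C * C * C = 1 from Subtype.ext hc3, map_one])
    (by rw [← map_mul, ← map_mul, ← map_mul]; exact congrArg _ (Subtype.ext hece))
    hth
  set Ti : ℕ → ↥(centralizer ({s} : Set G)) := fun n => C ^ n * T * (C ^ n)⁻¹ with hTi
  have hTi2 : ∀ n, Ti n * Ti n = 1 := fun n => by
    calc Ti n * Ti n = C ^ n * (T * T) * (C ^ n)⁻¹ := by rw [hTi]; group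
      _ = 1 := by rw [hT2, mul_one, mul_inv_cancel]
  set P := Ti i * Ti j * Ti i with hP
  have hP2 : P * P = 1 := by
    calc P * P = Ti i * (Ti j * (Ti i * Ti i) * Ti j) * Ti i := by rw [hP]; group
      _ = 1 := by rw [hTi2, mul_one, hTi2, mul_one, hTi2]
  have hEP : E = P := by
    have hk1 : Θ.theta (E * P) = 1 := by
      have hTh : Θ.theta P = Θ.theta E := by
        rw [hP, hTi]
        simp only [map_mul, map_pow, map_inv]
        exact hij.symm
      rw [map_mul, hTh, ← map_mul, hE2, map_one]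
    have h2 : E * P * (E * P) = 1 := by
      rw [mul_assoc E P (E * P), ← Θ.central hk1 P, mul_assoc E P P, hP2, mul_one, hE2]
    have h1 := Θ.kill hord hk1 (congrArg Subtype.val h2)
    rwa [mul_eq_one_iff_eq_inv, inv_eq_of_mul_eq_one_right hP2] at h1
  have hall : ∀ (n : ℕ) (k : Fin 3), f k * (Ti n : G) = (Ti n : G) * f k := by
    intro n
    induction n with
    | zero => intro k; simpa [hTi, T] using hft k
    | succ n ih =>
      intro k
      have e1 : (Ti (n + 1) : G) = c * (Ti n : G) * c⁻¹ := by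
        rw [hTi]
        simp only [Subgroup.coe_mul, Subgroup.coe_inv, SubmonoidClass.coe_pow, pow_succ', C]
        group
      have hfk : f k = c * f (k - 1) * c⁻¹ := by rw [hcf, sub_add_cancel, mul_inv_cancel_right]
      rw [e1, hfk]
      calc c * f (k - 1) * c⁻¹ * (c * (Ti n : G) * c⁻¹) = c * (f (k - 1) * (Ti n : G)) * c⁻¹ := by group
        _ = _ := by rw [ih]; group
  refine hfe ?_
  have hep : e = (Ti i : G) * (Ti j : G) * (Ti i : G) := congrArg Subtype.val hEP
  have ci := hall i 0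
  have cj := hall j 0
  rw [hep]
  calc f 0 * ((Ti i : G) * (Ti j : G) * (Ti i : G)) = (f 0 * (Ti i : G)) * (Ti j : G) * (Ti i : G) := by group
    _ = (Ti i : G) * (f 0 * (Ti j : G)) * (Ti i : G) := by rw [ci]; group
    _ = (Ti i : G) * (Ti j : G) * (f 0 * (Ti i : G)) := by rw [cj]; group
    _ = _ := by rw [ci]; group

/-- Two coded products with the same code give the same permutation. -/
theorem toM_mul_three {a b c d : Elt} (ha : permOK a = true) (hb : permOK b = true) (hc : permOK c = true)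
    (hd : permOK d = true) (h : (mul 5 24 a (mul 5 24 b c)).1 = d.1) : toM a * (toM b * toM c) = toM d := by
  apply Subtype.ext
  simp only [Subgroup.coe_mul, toM_val ha, toM_val hb, toM_val hc, toM_val hd, permOf, ← map_mul]
  exact congrArg _ (rep_eq_code (rep_mul (rep_toPerm (permOK_iff.1 ha).1)
    (validElt_mul (permOK_iff.1 hb).1 (permOK_iff.1 hc).1)) (rep_toPerm (permOK_iff.1 hd).1) h)

/-- The powers of a code. -/
def eltPow (a : Elt) : ℕ → Elt
  | 0 => one 5 24
  | n + 1 => mul 5 24 a (eltPow a n)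

theorem rep_pow {a : Elt} (ha : validElt 5 24 a = true) : ∀ n, Rep 5 (eltPow a n) (toPerm 5 24 a ^ n)
  | 0 => rep_one (by norm_num)
  | n + 1 => by rw [pow_succ']; exact rep_mul (rep_toPerm ha) (rep_pow ha n)

theorem toM_pow_one {a : Elt} (ha : permOK a = true) {n : ℕ} (h : (eltPow a n).1 = idCode 5 24) : toM a ^ n = 1 := by
  apply Subtype.ext
  rw [SubmonoidClass.coe_pow, toM_val ha, permOf, ← map_pow,
    rep_eq_code (rep_pow (permOK_iff.1 ha).1 n) (rep_one (w := 5) (n := 24) (by norm_num)) h, map_one]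
  rfl

theorem pow_checks : (eltPow elS.1 7).1 = idCode 5 24 ∧ (eltPow permGam 3).1 = idCode 5 24 ∧
    permOK (mul 5 24 permGam permGam) = true := by decide +kernel

namespace Sect

variable [Finite G] (Z : Sect z)

theorem psi_injective : Function.Injective Z.psi := fun σ τ e => by
  rw [← Z.phi_psi σ, ← Z.phi_psi τ]
  exact congrArg Z.D.phi (Subtype.ext e)

theorem psi_ne_one {a : Elt} (ha : permOK a = true) (h : ∃ i : Fin 24, PermCert.get 5 a.1 i ≠ i) :
    Z.psi (toM a) ≠ 1 := by
  rw [← map_one Z.psi]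
  intro e
  have hv := congrArg Subtype.val (Z.psi_injective e)
  rw [toM_val ha, permOf, Subgroup.coe_one] at hv
  have hi : toPerm 5 24 a = 1 := phi.injective (hv.trans (map_one _).symm)
  obtain ⟨i, hi'⟩ := h
  exact hi' (by rw [(rep_toPerm (permOK_iff.1 ha).1 i).1, hi]; rfl)

end Sect

namespace Rig

variable [Finite G] (X : Rig z)

/-- The element cycling the trio. -/
noncomputable def gam : G := X.Z.psi (toM permGam)

theorem permGam_ok : permOK permGam = true := List.all_eq_true.1 perms_ok _ (by simp)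

theorem data_ok {d : SData} (h : d ∈ allData) : permOK d.1 = true := (toM_data (data_of_mem h)).1

theorem gam_cube : X.gam * X.gam * X.gam = 1 := by
  rw [gam, mul_assoc, ← pow_two, ← pow_succ', ← map_pow, toM_pow_one permGam_ok pow_checks.2.1, map_one]

theorem gam_tr_comm (hS : SevenHyp z) : X.gam * X.tr 1 = X.tr 1 * X.gam := by
  obtain ⟨⟨psg, pse⟩, -, hinv, hsne, hfe⟩ := perm_seven_three
  obtain ⟨cy0, cy2, cy1⟩ := fw_cycle
  have okS := data_ok (part_b_mem elS (by simp))
  have okE := data_ok (part_b_mem elE0 (by simp))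
  have ok0 := data_ok (part_b_mem elFw0 (by simp))
  have ok1 := data_ok (part_b_mem elFw1 (by simp))
  have ok2 := data_ok (part_b_mem elFw2 (by simp))
  have hord : orderOf (X.Z.psi (toM elS.1)) = 7 := by
    have : Fact (Nat.Prime 7) := ⟨by norm_num⟩
    exact orderOf_eq_prime (by rw [← map_pow, toM_pow_one okS pow_checks.1, map_one]) (X.Z.psi_ne_one okS hsne)
  have hec : X.Z.psi (toM elE0.1) = X.Z.c (eW 13) := by
    obtain ⟨-, -, -, -, h5⟩ := X.data (data_of_mem (part_b_mem elE0 (by simp)))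
    rw [h5, show elE0.2.2.1 = [] from rfl, show X.Z.gWord [] = 1 from rfl, mul_one, show elE0.2.1 = 13 from rfl]
  have hlt : eW 13 < 1024 := (eW_spec 13 (by norm_num)).1
  have comm : ∀ a b : Elt, permOK a = true → permOK b = true → (mul 5 24 a b).1 = (mul 5 24 b a).1 →
      X.Z.psi (toM a) * X.Z.psi (toM b) = X.Z.psi (toM b) * X.Z.psi (toM a) := fun a b ha hb h => by
    rw [← map_mul, ← map_mul, toM_mul_eq_mul ha hb hb ha h]
  have hez : IsConj z (X.Z.psi (toM elE0.1)) :=
    hec ▸ (X.class_iff _ hlt).2 (wdec_spec.2 13 (by norm_num) (by norm_num))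
  have htz := X.tr_one_conj
  have ht1 : X.tr 1 ≠ 1 := fun h => X.z_ne_one (isConj_one_left.1 (h ▸ htz))
  have hft : ∀ d ∈ [elS, elFw0, elFw1, elFw2],
      X.Z.psi (toM d.1) * X.tr 1 = X.tr 1 * X.Z.psi (toM d.1) := fun d hd =>
    mul_inv_eq_iff_eq_mul.1 (X.conj_tr (part_b_mem d (by simp at hd ⊢; tauto)) (l := 1) (l' := 1) (by norm_num)
      (by norm_num) (part_b_conj d hd))
  refine comm_of_seven hS (f := ![X.Z.psi (toM elFw0.1), X.Z.psi (toM elFw2.1), X.Z.psi (toM elFw1.1)]) hord
    (comm _ _ okS okE pse) (hft elS (by simp)) (comm _ _ okS permGam_ok psg) hez htz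
    (fun h => X.z_ne_one (isConj_one_left.1 (h ▸ hez))) ht1 ?_ (X.tr_sq (by norm_num))
    (by rw [hec, X.tr_eW (by norm_num) (by norm_num)]) ?_ X.gam_cube ?_ ?_ ?_ ?_
  · rw [hec]; exact X.Z.c_sq hlt
  · intro h
    have h1 : X.tr 1 ∈ X.R ⊓ X.Z.A := mem_inf.2 ⟨X.tr_mem (by norm_num), ⟨eW 13, hlt, (hec.symm.trans h)⟩⟩
    rw [X.R_inf, mem_bot] at h1
    exact ht1 h1
  · rw [gam, mul_assoc, ← map_mul, ← map_mul, ← map_mul,
      toM_mul_three okE permGam_ok okE pow_checks.2.2 hinv,
      toM_mul (a := permGam) (b := permGam) (c := mul 5 24 permGam permGam) permGam_ok permGam_ok pow_checks.2.2 rfl]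
  · intro k
    have e0 : X.gam * X.Z.psi (toM elFw0.1) = X.Z.psi (toM elFw2.1) * X.gam := by
      rw [gam, ← map_mul, ← map_mul, toM_mul_eq_mul permGam_ok ok0 ok2 permGam_ok cy0]
    have e2 : X.gam * X.Z.psi (toM elFw2.1) = X.Z.psi (toM elFw1.1) * X.gam := by
      rw [gam, ← map_mul, ← map_mul, toM_mul_eq_mul permGam_ok ok2 ok1 permGam_ok cy2]
    have e1 : X.gam * X.Z.psi (toM elFw1.1) = X.Z.psi (toM elFw0.1) * X.gam := by
      rw [gam, ← map_mul, ← map_mul, toM_mul_eq_mul permGam_ok ok1 ok0 permGam_ok cy1]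
    fin_cases k
    exacts [e0, e2, e1]
  · intro k
    fin_cases k
    exacts [hft elFw0 (by simp), hft elFw2 (by simp), hft elFw1 (by simp)]
  · intro h
    have hv := congrArg Subtype.val (X.Z.psi_injective (((map_mul _ _ _).trans h).trans (map_mul _ _ _).symm))
    have hvF := (permOK_iff.1 ok0).1
    have hvE := (permOK_iff.1 okE).1
    simp only [Subgroup.coe_mul, toM_val ok0, toM_val okE, permOf, ← map_mul] at hv
    obtain ⟨k, hk⟩ := hfe
    exact hk (by rw [(validElt_mul hvF hvE k).1, (validElt_mul hvE hvF k).1, phi.injective hv])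

end Rig

end Cfsg.Agent.JankoFour.Recog
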