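import Cfsg.Agent.Lib.JankoFour.Recog.Sextets

/-!
The transvections at the octad are independent modulo the largest normal 2-subgroup of the centraliser of the
standard transvection: otherwise the product of the three conjugates of one of them would be central, and the three
would be linearly related, which the stabilisers of two of them contradict.
-/

set_option autoImplicit false
set_option linter.unusedSectionVars false
set_option maxRecDepth 100000

namespace Cfsg.Agent.JankoFour.Recog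

open Subgroup
open Cfsg (GolayPt M24)
open Cfsg.Agent.Golay Cfsg.Agent.PermCert
open Cfsg.Agent.J4Module (app)

variable {G : Type*} [Group G] [Finite G] {z : G}

namespace Rig

variable (X : Rig z)

theorem psi_word : ∀ L : List Elt, X.Z.psi (mList L) = (L.map fun a => X.Z.psi (toM a)).prod
  | [] => map_one _
  | a :: L => by
    rw [show mList (a :: L) = toM a * mList L from List.prod_cons, map_mul, psi_word L, List.map_cons, List.prod_cons]

/-- The element cycling the trio of the second functional. -/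
noncomputable def gamTwo : G := X.Z.psi (toM elK2.1) * X.gam * (X.Z.psi (toM elK2.1))⁻¹

theorem wordK2_psi : X.Z.psi (mList wordK2) = X.gamTwo := by
  have hk := Rig.data_ok (comm_mem elK2 (by simp))
  have h := mList_eq (L := [elK2.1, elK2.1, elK2.1]) (L' := []) (by simp [hk]) (by simp) split_perms.1
  have h' : (X.Z.psi (toM elK2.1)) * (X.Z.psi (toM elK2.1) * X.Z.psi (toM elK2.1)) = 1 := by
    have := congrArg X.Z.psi h
    simpa [mList, map_mul] using this
  rw [gamTwo, inv_eq_of_mul_eq_one_right h', X.psi_word]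
  simp [wordK2, gam, mul_assoc]

end Rig

namespace Framed

variable (F : Framed z)

/-- The transvection of the second octad. -/
noncomputable def tg (l : ℕ) : G := F.X.gam * F.X.tr l * F.X.gam⁻¹

/-- The transvection of the third octad. -/
noncomputable def th (l : ℕ) : G := F.X.gam * F.tg l * F.X.gam⁻¹

theorem gam_th (l : ℕ) : F.X.gam * F.th l * F.X.gam⁻¹ = F.X.tr l := by
  have h := F.X.gam_cube
  have hi : F.X.gam⁻¹ * F.X.gam⁻¹ * F.X.gam⁻¹ = 1 := by
    rw [← _root_.mul_inv_rev, ← _root_.mul_inv_rev, ← mul_assoc, h, inv_one]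
  calc F.X.gam * F.th l * F.X.gam⁻¹
      = F.X.gam * F.X.gam * F.X.gam * F.X.tr l * (F.X.gam⁻¹ * F.X.gam⁻¹ * F.X.gam⁻¹) := by
        rw [th, tg]; simp only [mul_assoc]
    _ = _ := by rw [h, hi, one_mul, mul_one]

theorem tg_xor {a b : ℕ} (ha : a < 16) (hb : b < 16) : F.tg (a ^^^ b) = F.tg a * F.tg b := by
  rw [tg, tg, tg, ← F.X.tr_xor ha hb]; group

theorem th_xor {a b : ℕ} (ha : a < 16) (hb : b < 16) : F.th (a ^^^ b) = F.th a * F.th b := by
  rw [th, th, th, F.tg_xor ha hb]; group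

theorem tg_one : F.tg 1 = F.X.tr 1 := by
  rw [tg, F.gam_t, mul_inv_cancel_right]

theorem tg_sq {l : ℕ} (hl : l < 16) : F.tg l * F.tg l = 1 := by
  rw [← F.tg_xor hl hl, Nat.xor_self, tg, F.X.tr_zero, mul_one, mul_inv_cancel]

theorem tg_cent {l : ℕ} (hl : l < 16) : F.tg l * F.X.tr 1 = F.X.tr 1 * F.tg l := by
  rw [← F.tg_one, ← F.tg_xor hl (by norm_num), ← F.tg_xor (by norm_num) hl, Nat.xor_comm]

/-- An element commuting with the cycling element carries the conjugates along. -/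
theorem conj_tg {m : G} (hm : F.X.gam * m = m * F.X.gam) {a b : ℕ} (h : m * F.X.tr a * m⁻¹ = F.X.tr b) :
    m * F.tg a * m⁻¹ = F.tg b := by
  have hc : Commute F.X.gam m := hm
  rw [tg, tg, ← h]
  calc m * (F.X.gam * F.X.tr a * F.X.gam⁻¹) * m⁻¹ = (m * F.X.gam) * F.X.tr a * (m * F.X.gam)⁻¹ := by group
    _ = (F.X.gam * m) * F.X.tr a * (F.X.gam * m)⁻¹ := by rw [hm]
    _ = _ := by group

theorem conj_th {m : G} (hm : F.X.gam * m = m * F.X.gam) {a b : ℕ} (h : m * F.X.tr a * m⁻¹ = F.X.tr b) :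
    m * F.th a * m⁻¹ = F.th b := by
  rw [th, th, ← F.conj_tg hm h]
  calc m * (F.X.gam * F.tg a * F.X.gam⁻¹) * m⁻¹ = (m * F.X.gam) * F.tg a * (m * F.X.gam)⁻¹ := by group
    _ = (F.X.gam * m) * F.tg a * (F.X.gam * m)⁻¹ := by rw [hm]
    _ = _ := by group

/-- The three transvections of the second functional are not linearly related. -/
theorem no_line : F.X.tr 2 * F.tg 2 * F.th 2 ≠ 1 := by
  intro h
  set γ := F.X.gam with hγ
  set k := F.X.Z.psi (toM elK2.1)
  set g2 := F.X.gamTwo with hg2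
  have hk := Rig.data_ok (comm_mem elK2 (by simp))
  have hk12 : k * F.X.tr 1 * k⁻¹ = F.X.tr 2 :=
    F.X.conj_tr (comm_mem elK2 (by simp)) (by norm_num) (by norm_num) comm_conj.1
  have hg : g2 * F.X.tr 2 * g2⁻¹ = F.X.tr 2 := by
    rw [← hk12, hg2, Rig.gamTwo]
    calc k * F.X.gam * k⁻¹ * (k * F.X.tr 1 * k⁻¹) * (k * F.X.gam * k⁻¹)⁻¹ = k * (F.X.gam * F.X.tr 1 * F.X.gam⁻¹) * k⁻¹ := by group
      _ = _ := by rw [F.gam_t, mul_inv_cancel_right]
  have fix2 : ∀ d ∈ [elD200, elD201, elD210, elD211, elD2S],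
      F.X.Z.psi (toM d.1) * F.X.tr 2 * (F.X.Z.psi (toM d.1))⁻¹ = F.X.tr 2 := fun d hd =>
    F.X.conj_tr (comm_mem d (by simp at hd ⊢; tauto)) (by norm_num) (by norm_num) (split_conj.1 d hd)
  have hth : F.th 2 = (F.X.tr 2 * F.tg 2)⁻¹ := eq_inv_of_mul_eq_one_right h
  have okD : ∀ d ∈ [elD200, elD201, elD210, elD211, elD2S, elD2K], permOK d.1 = true := fun d hd =>
    Rig.data_ok (comm_mem d (by simp at hd ⊢; tauto))
  have okW : ∀ a ∈ wordK2, permOK a = true := by simp [wordK2, hk, Rig.permGam_ok]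
  obtain ⟨-, e0, e1, ek⟩ := split_perms
  -- an element fixing two of the three fixes the third
  have fixes : ∀ a b : Elt, permOK a = true → permOK b = true →
      (eltWord ([a] ++ wordK2 ++ wordK2 ++ [permGam])).1 = (eltWord ([permGam, b] ++ wordK2)).1 →
      F.X.Z.psi (toM a) * F.X.tr 2 * (F.X.Z.psi (toM a))⁻¹ = F.X.tr 2 →
      F.X.Z.psi (toM b) * F.X.tr 2 * (F.X.Z.psi (toM b))⁻¹ = F.X.tr 2 →
      (F.X.Z.psi (toM a) * g2 * g2) * F.th 2 * (F.X.Z.psi (toM a) * g2 * g2)⁻¹ = F.th 2 := by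
    intro a b ha hb e fa fb
    have h1 := congrArg F.X.Z.psi (mList_eq (L := [a] ++ wordK2 ++ wordK2 ++ [permGam]) (L' := [permGam, b] ++ wordK2)
      (by simp [ha, hk, Rig.permGam_ok, wordK2]) (by simp [hb, hk, Rig.permGam_ok, wordK2]) e)
    simp only [F.X.psi_word, List.map_append, List.prod_append, List.map_cons, List.map_nil, List.prod_cons,
      List.prod_nil, mul_one] at h1
    rw [show (wordK2.map fun a => F.X.Z.psi (toM a)).prod = g2 by rw [← F.X.psi_word]; exact F.X.wordK2_psi] at h1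
    set n := F.X.Z.psi (toM a) * g2 * g2 with hn
    have f1 : n * F.X.tr 2 * n⁻¹ = F.X.tr 2 := by
      calc n * F.X.tr 2 * n⁻¹ = F.X.Z.psi (toM a) * (g2 * (g2 * F.X.tr 2 * g2⁻¹) * g2⁻¹) * (F.X.Z.psi (toM a))⁻¹ := by
            rw [hn]; group
        _ = _ := by rw [hg, hg, fa]
    have f2 : n * F.tg 2 * n⁻¹ = F.tg 2 := by
      calc n * F.tg 2 * n⁻¹ = (n * γ) * F.X.tr 2 * (n * γ)⁻¹ := by rw [tg, ← hγ]; group
        _ = (γ * F.X.Z.psi (toM b) * g2) * F.X.tr 2 * (γ * F.X.Z.psi (toM b) * g2)⁻¹ := by rw [show n * γ = γ * F.X.Z.psi (toM b) * g2 from h1]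
        _ = γ * (F.X.Z.psi (toM b) * (g2 * F.X.tr 2 * g2⁻¹) * (F.X.Z.psi (toM b))⁻¹) * γ⁻¹ := by group
        _ = _ := by rw [hg, fb]; rfl
    rw [hth]
    calc n * (F.X.tr 2 * F.tg 2)⁻¹ * n⁻¹ = ((n * F.X.tr 2 * n⁻¹) * (n * F.tg 2 * n⁻¹))⁻¹ := by group
      _ = _ := by rw [f1, f2]
  have hn0 := fixes _ _ (okD _ (by simp)) (okD _ (by simp)) e0 (fix2 _ (by simp)) (fix2 _ (by simp))
  have hn1 := fixes _ _ (okD _ (by simp)) (okD _ (by simp)) e1 (fix2 elD210 (by simp)) (fix2 elD211 (by simp))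
  set n0 := F.X.Z.psi (toM elD200.1) * g2 * g2 with hn0d
  set n1 := F.X.Z.psi (toM elD210.1) * g2 * g2 with hn1d
  set s := F.X.Z.psi (toM elD2S.1)
  set K := F.X.Z.psi (toM elD2K.1)
  have hK : γ * γ * K = n0 * (γ * γ * s * γ) * n1 * (γ * γ) := by
    have h1 := congrArg F.X.Z.psi (mList_eq (L := [permGam, permGam, elD2K.1])
      (L' := [elD200.1] ++ wordK2 ++ wordK2 ++ [permGam, permGam, elD2S.1, permGam] ++ [elD210.1] ++ wordK2 ++ wordK2 ++
        [permGam, permGam])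
      (by simp [okD elD2K (by simp), Rig.permGam_ok])
      (by simp [okD elD200 (by simp), okD elD2S (by simp), okD elD210 (by simp), hk, Rig.permGam_ok, wordK2]) ek)
    simp only [F.X.psi_word, List.map_append, List.prod_append, List.map_cons, List.map_nil, List.prod_cons,
      List.prod_nil, mul_one] at h1
    rw [show (wordK2.map fun a => F.X.Z.psi (toM a)).prod = g2 by rw [← F.X.psi_word]; exact F.X.wordK2_psi] at h1
    simp only [hn0d, hn1d, mul_assoc] at h1 ⊢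
    exact h1
  have hγ3 : γ * γ * γ = 1 := F.X.gam_cube
  have hγi : γ⁻¹ = γ * γ := inv_eq_of_mul_eq_one_right (by rw [← mul_assoc, hγ3])
  have hths : F.th 2 = γ * γ * F.X.tr 2 * (γ * γ)⁻¹ := by rw [th, tg, ← hγ]; group
  have hmid : (γ * γ * s * γ) * F.th 2 * (γ * γ * s * γ)⁻¹ = F.th 2 := by
    calc (γ * γ * s * γ) * F.th 2 * (γ * γ * s * γ)⁻¹ = γ * γ * (s * (γ * F.th 2 * γ⁻¹) * s⁻¹) * (γ * γ)⁻¹ := by group
      _ = _ := by rw [F.gam_th, fix2 elD2S (by simp), hths]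
  have hbad : γ * γ * (K * F.X.tr 2 * K⁻¹) * (γ * γ)⁻¹ = γ * γ * F.X.tr 2 * (γ * γ)⁻¹ := by
    calc γ * γ * (K * F.X.tr 2 * K⁻¹) * (γ * γ)⁻¹ = (γ * γ * K) * F.X.tr 2 * (γ * γ * K)⁻¹ := by group
      _ = n0 * ((γ * γ * s * γ) * (n1 * (γ * γ * F.X.tr 2 * (γ * γ)⁻¹) * n1⁻¹) * (γ * γ * s * γ)⁻¹) * n0⁻¹ := by
          rw [hK]; group
      _ = _ := by rw [← hths, hn1, hmid, hn0]
  have hK2 : K * F.X.tr 2 * K⁻¹ = F.X.tr 1 :=
    F.X.conj_tr (comm_mem elD2K (by simp)) (by norm_num) (by norm_num) split_conj.2.1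
  have h21 : F.X.tr 1 = F.X.tr 2 := by
    rw [← hK2]
    exact mul_left_cancel (mul_right_cancel hbad)
  refine F.X.tr_ne_one (l := 3) (by norm_num) (by norm_num) ?_
  rw [show (3 : ℕ) = 1 ^^^ 2 from rfl, ← F.X.tr_xor (by norm_num) (by norm_num), h21, F.X.tr_sq (by norm_num)]

/-- No functional off the standard one lies in the normal 2-subgroup. -/
theorem tr_not_mem {a : ℕ} (ha : a < 16) (ha2 : a % 2 = 0) (ha0 : a ≠ 0) : F.X.tr a ∉ F.K.Q := by
  intro hmem
  have hQe : ∀ l < 16, l % 2 = 0 → F.X.tr l ∈ F.K.Q := fun l hl hl2 => by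
    rcases eq_or_ne l 0 with rfl | h0
    · rw [F.X.tr_zero]; exact one_mem _
    · exact F.tr_all ha hl ha2 hl2 ha0 h0 hmem
  have hQ : ∀ l < 16, F.X.tr l ∈ F.K.Q := fun l hl => by
    rcases Nat.mod_two_eq_zero_or_one l with h | h
    · exact hQe l hl h
    · have hl' : l ^^^ 1 < 16 := Nat.xor_lt_two_pow (n := 4) hl (by norm_num)
      have h2 : (l ^^^ 1) % 2 = 0 := by
        have : ∀ m < 16, m % 2 = 1 → (m ^^^ 1) % 2 = 0 := by decide
        exact this l hl h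
      have := mul_mem (hQe _ hl' h2) F.K.t_mem
      rwa [F.X.tr_xor hl' (by norm_num), Nat.xor_assoc, Nat.xor_self, Nat.xor_zero] at this
  have hgQ : ∀ l < 16, F.tg l ∈ F.K.Q := fun l hl => F.K.normal _ F.gam_t _ (hQ l hl)
  have hhQ : ∀ l < 16, F.th l ∈ F.K.Q := fun l hl => F.K.normal _ F.gam_t _ (hgQ l hl)
  have ht1 : (F.X.tr 1) ≠ 1 := F.t_ne_one
  have htt : (F.X.tr 1) * (F.X.tr 1) = 1 := F.X.tr_sq (by norm_num)
  have two : ∀ p ∈ F.K.Q, ∀ q ∈ F.K.Q, p * q = q * p ∨ p * q = q * p * (F.X.tr 1) := fun p hp q hq => by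
    rcases F.K.comm p hp q hq with e | e
    · left
      exact mul_inv_eq_one.1 (show p * q * (q * p)⁻¹ = 1 by rw [← e]; group)
    · right
      rw [F.K.mem_cent (q * p) (mul_mem hq hp), ← e]
      group
  -- commutation between the first two octads
  set C : ℕ → ℕ → Prop := fun a b => F.X.tr a * F.tg b = F.tg b * F.X.tr a with hC
  have tran : ∀ (d : SData), d ∈ allData → (mul 5 24 permGam d.1).1 = (mul 5 24 d.1 permGam).1 →
      ∀ a b a' b', a < 16 → b < 16 → a' < 16 → b' < 16 → conjB d.2.2.2 a a' = true → conjB d.2.2.2 b b' = true →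
        (C a b ↔ C a' b') := by
    intro d hd hcomm a b a' b' la lb la' lb' ca cb
    have hm := F.X.psi_gam (Rig.data_ok hd) hcomm
    have e1 := F.X.conj_tr hd la la' ca
    have e2 := F.conj_tg hm (F.X.conj_tr hd lb lb' cb)
    show (F.X.tr a * F.tg b = F.tg b * F.X.tr a) ↔ (F.X.tr a' * F.tg b' = F.tg b' * F.X.tr a')
    rw [← e1, ← e2]
    constructor <;> intro e
    · calc _ = F.X.Z.psi (toM d.1) * (F.X.tr a * F.tg b) * (F.X.Z.psi (toM d.1))⁻¹ := by group
        _ = _ := by rw [e]; group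
    · refine mul_left_cancel (a := F.X.Z.psi (toM d.1)) (mul_right_cancel (b := (F.X.Z.psi (toM d.1))⁻¹) ?_)
      calc F.X.Z.psi (toM d.1) * (F.X.tr a * F.tg b) * (F.X.Z.psi (toM d.1))⁻¹ = _ := by group
        _ = _ := e
        _ = _ := by group
  obtain ⟨-, hg10, hg6, -, -, -⟩ := comm_perms
  obtain ⟨-, he1, he810, m108, m1013, -, m68, m613, -, -⟩ := comm_conj
  obtain ⟨hswm, hswg, hsw10, hsw8⟩ := swap_ok
  have c10 : C 8 13 ↔ C 8 10 := tran _ (comm_mem elM10 (by simp)) hg10 8 13 8 10 (by norm_num) (by norm_num)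
    (by norm_num) (by norm_num) m108 m1013
  have c6 : C 8 13 ↔ C 8 6 := tran _ (comm_mem elM6 (by simp)) hg6 8 13 8 6 (by norm_num) (by norm_num)
    (by norm_num) (by norm_num) m68 m613
  have csw : C 10 8 ↔ C 8 6 := tran _ hswm hswg 10 8 8 6 (by norm_num) (by norm_num) (by norm_num) (by norm_num)
    hsw10 hsw8
  have e13 : F.tg 13 = F.tg 10 * F.tg 6 * (F.X.tr 1) := by
    rw [← F.tg_one, ← F.tg_xor (a := 10) (b := 6) (by norm_num) (by norm_num),
      ← F.tg_xor (a := 10 ^^^ 6) (b := 1) (by decide) (by norm_num)]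
    rfl
  have h810 : C 8 10 := by
    by_contra hn
    have hn6 : ¬ C 8 6 := fun h => hn (c10.1 (c6.2 h))
    have a10 := (two _ (hQ 8 (by norm_num)) _ (hgQ 10 (by norm_num))).resolve_left hn
    have a6 := (two _ (hQ 8 (by norm_num)) _ (hgQ 6 (by norm_num))).resolve_left hn6
    refine hn (c10.1 ?_)
    show F.X.tr 8 * F.tg 13 = F.tg 13 * F.X.tr 8
    have hz6 : (F.X.tr 1) * F.tg 6 = F.tg 6 * (F.X.tr 1) := (F.tg_cent (by norm_num)).symm
    have hz8 : F.X.tr 8 * (F.X.tr 1) = (F.X.tr 1) * F.X.tr 8 := F.tr_cent (by norm_num)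
    rw [e13]
    calc F.X.tr 8 * (F.tg 10 * F.tg 6 * (F.X.tr 1)) = (F.X.tr 8 * F.tg 10) * F.tg 6 * (F.X.tr 1) := by group
      _ = F.tg 10 * F.X.tr 8 * ((F.X.tr 1) * F.tg 6) * (F.X.tr 1) := by rw [a10]; group
      _ = F.tg 10 * (F.X.tr 8 * F.tg 6) * ((F.X.tr 1) * (F.X.tr 1)) := by rw [hz6]; group
      _ = F.tg 10 * F.tg 6 * (F.X.tr 8 * (F.X.tr 1)) := by rw [a6, htt, mul_one]; group
      _ = _ := by rw [hz8]; group
  have h86 : C 8 6 := c6.1 (c10.2 h810)
  have h108 : C 10 8 := csw.2 h86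
  -- the products of the three conjugates
  set dl : ℕ → G := fun l => F.X.tr l * F.tg l * F.th l with hdl
  have hd : ∀ l < 16, dl l = 1 ∨ dl l = (F.X.tr 1) := by
    intro l hl
    have hdQ : dl l ∈ F.K.Q := mul_mem (mul_mem (hQ l hl) (hgQ l hl)) (hhQ l hl)
    refine F.K.fixed _ hdQ ?_
    have hrot : F.X.gam * dl l * F.X.gam⁻¹ = F.tg l * F.th l * F.X.tr l := by
      calc F.X.gam * dl l * F.X.gam⁻¹ = F.tg l * F.th l * (F.X.gam * F.th l * F.X.gam⁻¹) := by simp only [hdl, th, tg]; group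
        _ = _ := by rw [F.gam_th]
    rcases two _ (hQ l hl) _ (mul_mem (hgQ l hl) (hhQ l hl)) with e | e
    · rw [eq_comm, ← mul_inv_eq_iff_eq_mul, hrot, ← e]
      simp only [hdl, mul_assoc]
    · exfalso
      have e' : F.X.gam * dl l * F.X.gam⁻¹ = dl l * (F.X.tr 1) := by
        rw [hrot, show dl l = F.X.tr l * (F.tg l * F.th l) from mul_assoc _ _ _, e, mul_assoc _ (F.X.tr 1) (F.X.tr 1), htt, mul_one]
      refine ht1 ?_
      have hgtg : F.X.gam * (F.X.tr 1) * F.X.gam⁻¹ = (F.X.tr 1) := by rw [F.gam_t, mul_inv_cancel_right]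
      have h3 : dl l = dl l * (F.X.tr 1) * (F.X.tr 1) * (F.X.tr 1) := by
        calc dl l = F.X.gam * F.X.gam * F.X.gam * dl l * (F.X.gam * F.X.gam * F.X.gam)⁻¹ := by rw [F.X.gam_cube]; group
          _ = F.X.gam * (F.X.gam * (F.X.gam * dl l * F.X.gam⁻¹) * F.X.gam⁻¹) * F.X.gam⁻¹ := by group
          _ = F.X.gam * (F.X.gam * (dl l * (F.X.tr 1)) * F.X.gam⁻¹) * F.X.gam⁻¹ := by rw [e']
          _ = F.X.gam * ((F.X.gam * dl l * F.X.gam⁻¹) * (F.X.gam * (F.X.tr 1) * F.X.gam⁻¹)) * F.X.gam⁻¹ := by group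
          _ = F.X.gam * (dl l * (F.X.tr 1) * (F.X.tr 1)) * F.X.gam⁻¹ := by rw [e', hgtg]
          _ = (F.X.gam * dl l * F.X.gam⁻¹) * (F.X.gam * (F.X.tr 1) * F.X.gam⁻¹) * (F.X.gam * (F.X.tr 1) * F.X.gam⁻¹) := by group
          _ = _ := by rw [e', hgtg]
      rwa [mul_assoc (dl l * (F.X.tr 1)), htt, mul_one, left_eq_mul] at h3
  have he : dl 10 = dl 8 := by
    have hm := F.X.psi_gam (Rig.data_ok (comm_mem elE810 (by simp))) comm_perms.1
    have c8 := F.X.conj_tr (comm_mem elE810 (by simp)) (l := 8) (l' := 10) (by norm_num) (by norm_num) he810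
    have c1 := F.X.conj_tr (comm_mem elE810 (by simp)) (l := 1) (l' := 1) (by norm_num) (by norm_num) he1
    have h : F.X.Z.psi (toM elE810.1) * dl 8 * (F.X.Z.psi (toM elE810.1))⁻¹ = dl 10 := by
      simp only [hdl]
      rw [← c8, ← F.conj_tg hm c8, ← F.conj_th hm c8]
      group
    rcases hd 8 (by norm_num) with e | e
    · rw [e, mul_one, mul_inv_cancel] at h; rw [e, ← h]
    · rw [e, c1] at h; rw [e, ← h]
  have h10g8 : F.X.tr 10 * F.th 8 = F.th 8 * F.X.tr 10 := by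
    refine mul_left_cancel (a := F.X.gam) (mul_right_cancel (b := F.X.gam⁻¹) ?_)
    calc F.X.gam * (F.X.tr 10 * F.th 8) * F.X.gam⁻¹ = F.tg 10 * (F.X.gam * F.th 8 * F.X.gam⁻¹) := by simp only [tg]; group
      _ = (F.X.gam * F.th 8 * F.X.gam⁻¹) * F.tg 10 := by rw [F.gam_th]; exact h810.symm
      _ = _ := by simp only [tg]; group
  have hg10h8 : F.tg 10 * F.th 8 = F.th 8 * F.tg 10 := by
    calc F.tg 10 * F.th 8 = F.X.gam * (F.X.tr 10 * F.tg 8) * F.X.gam⁻¹ := by simp only [th, tg]; group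
      _ = F.X.gam * (F.tg 8 * F.X.tr 10) * F.X.gam⁻¹ := by rw [h108]
      _ = _ := by simp only [th, tg]; group
  refine F.no_line ?_
  show dl 2 = 1
  have h2 : dl 2 = dl 8 * dl 10 := by
    show F.X.tr 2 * F.tg 2 * F.th 2 = F.X.tr 8 * F.tg 8 * F.th 8 * (F.X.tr 10 * F.tg 10 * F.th 10)
    rw [show (2 : ℕ) = 8 ^^^ 10 from rfl, ← F.X.tr_xor (by norm_num) (by norm_num), F.tg_xor (by norm_num) (by norm_num),
      F.th_xor (by norm_num) (by norm_num)]
    calc F.X.tr 8 * F.X.tr 10 * (F.tg 8 * F.tg 10) * (F.th 8 * F.th 10)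
        = F.X.tr 8 * (F.X.tr 10 * F.tg 8) * (F.tg 10 * F.th 8) * F.th 10 := by group
      _ = F.X.tr 8 * F.tg 8 * (F.X.tr 10 * F.th 8) * F.tg 10 * F.th 10 := by rw [h108, hg10h8]; group
      _ = _ := by rw [h10g8]; group
  rw [h2, he]
  rcases hd 8 (by norm_num) with e | e <;> rw [e]
  · exact one_mul 1
  · exact htt

end Framed

end Cfsg.Agent.JankoFour.Recog
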