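import Cfsg.Agent.Lib.JankoFour.Recog.Full

/-!
Decidable facts for the automorphisms of a group of Janko-four type: the cocode has no equivariant maps but the
identity, its derivations are inner or the twist, and only the trivial twist extends to the transvection.
-/

set_option autoImplicit false
set_option maxRecDepth 100000

namespace Cfsg.Agent.JankoFour.Recog

open Cfsg.Agent.Golay Cfsg.Agent.PermCert
open Cfsg.Agent.J4Module (app of_chunks)

/-- The product of the first two generators. -/
def permP : Elt := eltWord [permX, permY]

/-- Permutations fixing the class of the pair of the first two points. -/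
def fixThree : List Elt := (allData.map fun d => d.1).filter fun e => inCode (imgMask e 3 ^^^ 3)

theorem fix_three : ∀ i < 2048, (fixThree.all fun e => inCode (imgMask e (app repCols i) ^^^ app repCols i)) = true →
    i = 0 ∨ inCode (app repCols i ^^^ 3) = true :=
  of_chunks 32 (by decide +kernel)

theorem fixThree_spec : ∀ e ∈ fixThree, permOK e = true ∧ inCode (imgMask e 3 ^^^ 3) = true := by decide +kernel

theorem no_fix : ∀ i < 2048, inCode (app repCols i ^^^ imgMask permP (app repCols i)) = true → i = 0 :=
  of_chunks 32 (by decide +kernel)

/-- The value of a derivation on a word. -/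
def derEval (mx my : ℕ) : List ℕ → ℕ
  | [] => 0
  | k :: w => if k = 0 then mx ^^^ imgMask permX (derEval mx my w) else my ^^^ imgMask permY (derEval mx my w)

theorem rel_codes : (eltWord [permX, permX]).1 = idCode 5 24 ∧
    (eltWord [permY, permY, permY]).1 = idCode 5 24 ∧
    (eltWord [permX, permP]).1 = permY.1 ∧ permOK permY = true ∧ permOK permX = true ∧ permOK permP = true := by
  decide +kernel

theorem deriv_cases : ∀ i < 2048,
    inCode (derEval (app repCols i) (imgMask permX (app repCols i)) [0, 0]) = true →
    inCode (derEval (app repCols i) (imgMask permX (app repCols i)) [1, 1, 1]) = true → i = 0 ∨ i = 636 :=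
  of_chunks 32 (by decide +kernel)

/-- The mask of the twist at an element. -/
def twMask (e : Elt) : ℕ := (1 <<< pIn) ^^^ (1 <<< PermCert.get 5 e.1 pIn)

theorem shift_spec : inCode (app repCols 636 ^^^ app repCols 1763 ^^^ imgMask permX (app repCols 1763) ^^^ twMask permX) = true ∧
    inCode (imgMask permX (app repCols 636) ^^^ app repCols 1763 ^^^ imgMask permY (app repCols 1763) ^^^ twMask permY)
      = true := by decide +kernel

theorem twist_none : conjB elFw0.2.2.2 8 8 = true ∧ elFw0 ∈ allData ∧ colsOK elFw0.1 elFw0.2.2.2 = true ∧
    eLab 161 = 0 ∧ inCode (twMask elFw0.1 ^^^ uMask 161) = true := by decide +kernel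

theorem twist_moves : ∀ n < 1024, (161 ^^^ app elFw0.2.2.2 n ^^^ app (tauC 8) 161 == n) = false :=
  of_chunks 16 (by decide +kernel)

/-- Data fixing the eighth functional. -/
def fixEight : List SData := allData.filter fun d => conjB d.2.2.2 8 8

theorem fix_eight : ∀ n < 1024, app (tauC 8) n = n →
    (fixEight.all fun d => app d.2.2.2 n == n) = true → n = 0 :=
  of_chunks 16 (by decide +kernel)

theorem fixEight_cols : ∀ d ∈ fixEight, colsOK d.1 d.2.2.2 = true ∧ d ∈ allData := by decide +kernel

end Cfsg.Agent.JankoFour.Recog
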