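import Cfsg.Agent.Lib.JankoFour.TenSelf
import Cfsg.Agent.Lib.JankoFour.BigBuild

/-!
The quotient of the centraliser of the involution by the largest normal 2-subgroup has no elementary abelian
subgroup of order 2^6, and some further facts about that subgroup.
-/

set_option autoImplicit false
set_option linter.unusedSectionVars false
set_option linter.style.haveILetI false

namespace Cfsg.Agent.JankoFour.Recog

open Subgroup
open Cfsg.Agent.LargeFischer (QG)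
open Cfsg.Agent.J4Module (app oneC compC ElemBase)
open Cfsg.Agent.J4Module.Data

variable {G : Type*} [Group G] [Finite G] {z : G} {P : Subgroup G} (M : Model z P)

/-- Commutators inside the largest normal 2-subgroup. -/
theorem comm_QG {a b : G} (ha : a ∈ QG M.Q) (hb : b ∈ QG M.Q) :
    a * b * a⁻¹ * b⁻¹ = 1 ∨ a * b * a⁻¹ * b⁻¹ = z := by
  have h := M.vec_eq_zero.1 (show M.vec (⟨a, ha⟩ * ⟨b, hb⟩ * ⟨a, ha⟩⁻¹ * ⟨b, hb⟩⁻¹ : ↥(QG M.Q)) = 0 by
    rw [M.vec_mul, M.vec_mul, M.vec_mul, M.vec_inv, M.vec_inv, Nat.xor_assoc (M.vec ⟨a, ha⟩) (M.vec ⟨b, hb⟩),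
      Nat.xor_comm (M.vec ⟨b, hb⟩) (M.vec ⟨a, ha⟩), ← Nat.xor_assoc, Nat.xor_self, Nat.zero_xor, Nat.xor_self])
  exact h

theorem pow_four_QG {a : G} (ha : a ∈ QG M.Q) : a * a * (a * a) = 1 := by
  have h := M.vec_eq_zero.1 (show M.vec (⟨a, ha⟩ * ⟨a, ha⟩ : ↥(QG M.Q)) = 0 by rw [M.vec_mul, Nat.xor_self])
  rcases h with e | e
  · rw [show a * a = 1 from e, one_mul]
  · rw [show a * a = z from e, M.z_sq]

/-- Sixty-four elements of a two-group commuting modulo the subgroup are not independent modulo it. -/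
theorem rank_bound (f : ℕ → ↥(centralizer ({z} : Set G)))
    (hf : ∀ m < 64, ∀ n < 64, (f (m ^^^ n))⁻¹ * (f m * f n) ∈ M.Q) : ∃ n < 64, n ≠ 0 ∧ f n ∈ M.Q := by
  classical
  haveI := M.normal
  by_contra hcon
  simp only [not_exists, not_and] at hcon
  set π := QuotientGroup.mk' M.Q
  have hπ : ∀ c, π c = 1 ↔ c ∈ M.Q := fun c => QuotientGroup.eq_one_iff c
  have hmul : ∀ m < 64, ∀ n < 64, π (f (m ^^^ n)) = π (f m) * π (f n) := fun m hm n hn => by
    rw [← map_mul, ← inv_mul_eq_one, ← map_inv, ← map_mul, hπ]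
    exact hf m hm n hn
  have h0 : π (f 0) = 1 := by
    have h := hmul 0 (by norm_num) 0 (by norm_num)
    rw [Nat.xor_self] at h
    exact left_eq_mul.1 h
  have hsq : ∀ n < 64, π (f n) * π (f n) = 1 := fun n hn => by rw [← hmul n hn n hn, Nat.xor_self, h0]
  -- the subgroup over the quotient group
  let S : Subgroup ↥(centralizer ({z} : Set G)) :=
  { carrier := {c | ∃ n < 64, π c = π (f n)}
    one_mem' := ⟨0, by norm_num, by rw [map_one, h0]⟩
    mul_mem' := by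
      rintro a b ⟨m, hm, ea⟩ ⟨n, hn, eb⟩
      exact ⟨m ^^^ n, Nat.xor_lt_two_pow (n := 6) hm hn, by rw [map_mul, ea, eb, hmul m hm n hn]⟩
    inv_mem' := by
      rintro a ⟨m, hm, ea⟩
      exact ⟨m, hm, by rw [map_inv, ea, inv_eq_of_mul_eq_one_right (hsq m hm)]⟩ }
  have hS2 : ∀ a ∈ S, a * a ∈ M.Q := by
    rintro a ⟨m, hm, ea⟩
    rw [← hπ, map_mul, ea, hsq m hm]
  have hp : IsPGroup 2 ↥S := fun a => ⟨3, by
    obtain ⟨q, hq⟩ : ∃ q : ↥(QG M.Q), M.toH q = (a : ↥(centralizer ({z} : Set G))) * a := M.toH_surj (hS2 _ a.2)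
    have h := pow_four_QG M q.2
    have hq4 : M.toH q * M.toH q * (M.toH q * M.toH q) = 1 := Subtype.ext h
    rw [hq] at hq4
    apply Subtype.ext
    rw [SubmonoidClass.coe_pow, OneMemClass.coe_one, show (2 : ℕ) ^ 3 = 8 from rfl]
    calc (a : ↥(centralizer ({z} : Set G))) ^ 8 = (a : ↥(centralizer ({z} : Set G))) * a * (a * a) * (a * a * (a * a)) := by
          simp only [pow_succ, pow_zero, one_mul, mul_assoc]
      _ = 1 := hq4⟩
  obtain ⟨h, hh⟩ := M.exists_conj_sylow hp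
  set g : ℕ → ↥(centralizer ({z} : Set G)) := fun n => h * f n * h⁻¹
  have hcol : ∀ n : Fin 64, ∃ C ∈ sylow, M.Acts (g n) C := fun n => by
    obtain ⟨C, hC, -, hCa⟩ := hh (f n) ⟨n, n.2, rfl⟩
    exact ⟨C, hC, hCa⟩
  choose col hcolS hcolA using hcol
  have hlen : ∀ n, (col n).length = 12 := fun n => Big.sylow_shape.2.2 _ (hcolS n)
  have hgmul : ∀ m n : Fin 64, (g ((m : ℕ) ^^^ n))⁻¹ * (g m * g n) ∈ M.Q := fun m n => by
    have e : (g ((m : ℕ) ^^^ n))⁻¹ * (g m * g n) = h * ((f ((m : ℕ) ^^^ n))⁻¹ * (f m * f n)) * h⁻¹ := by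
      simp only [g]; group
    rw [e]
    exact M.normal.conj_mem _ (hf m m.2 n n.2) h
  have hprod : ∀ m n : Fin 64, compC (col m) (col n) = col ⟨(m : ℕ) ^^^ n, Nat.xor_lt_two_pow (n := 6) m.2 n.2⟩ :=
    fun m n => M.acts_unique (Big.sylow_shape.2.2 _ (Big.sylow_mul (hcolS m) (hcolS n))) (hlen _)
      (M.acts_mul (hcolA m) (hcolA n))
      (M.acts_mul_Q (hcolA ⟨(m : ℕ) ^^^ n, _⟩) (hgmul m n) (hlen _))
  have hzero : col ⟨0, by norm_num⟩ = oneC := M.acts_unique (hlen _) rfl (hcolA _) (M.acts_of_mem_Q (by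
    refine M.normal.conj_mem _ ?_ h
    rw [← hπ]; exact h0))
  have hbase : ElemBase (Set.range col) := by
    refine ⟨?_, ⟨_, hzero⟩, ?_, ?_, ?_⟩
    · rintro _ ⟨m, rfl⟩; exact hcolS m
    · rintro _ ⟨m, rfl⟩ _ ⟨n, rfl⟩; exact ⟨_, (hprod m n).symm⟩
    · rintro _ ⟨m, rfl⟩
      rw [hprod, ← hzero]
      exact congrArg col (Fin.ext (Nat.xor_self _))
    · rintro _ ⟨m, rfl⟩ _ ⟨n, rfl⟩
      rw [hprod, hprod]
      exact congrArg col (Fin.ext (Nat.xor_comm _ _))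
  have hinj : Function.Injective col := by
    intro m n e
    by_contra hne
    have hx : (m : ℕ) ^^^ n < 64 := Nat.xor_lt_two_pow (n := 6) m.2 n.2
    refine hcon _ hx (fun h => hne (Fin.ext (Nat.xor_eq_zero_iff.1 h))) ?_
    have h1 : (g m)⁻¹ * g n ∈ M.Q := M.inv_mul_mem (hcolA m) (e ▸ hcolA n)
    rw [show (g m)⁻¹ * g n = h * ((f m)⁻¹ * f n) * h⁻¹ by simp only [g]; group] at h1
    have h2 : (f m)⁻¹ * f n ∈ M.Q := by
      have := M.normal.conj_mem _ h1 h⁻¹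
      rwa [inv_inv, show h⁻¹ * (h * ((f m)⁻¹ * f n) * h⁻¹) * h = (f m)⁻¹ * f n by group] at this
    rw [← hπ, hmul m m.2 n n.2]
    rw [← hπ, map_mul, map_inv, inv_eq_of_mul_eq_one_right (hsq m m.2)] at h2
    exact h2
  have h32 := hbase.card_le
  rw [← Set.image_univ, Set.ncard_image_of_injective _ hinj, Set.ncard_univ, Nat.card_fin] at h32
  omega

end Cfsg.Agent.JankoFour.Recog
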