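import Cfsg.Agent.Lib.JankoFour.Recog.Frame
import Cfsg.Agent.Lib.JankoFour.TenMain

/-!
Every linear map of the coordinates preserving the decomposable vectors is induced by exactly one element of a fixed
complement to the subgroup of order 1024 in its normaliser.
-/

set_option autoImplicit false
set_option linter.unusedSectionVars false
set_option maxRecDepth 100000

namespace Cfsg.Agent.JankoFour.Recog

open Subgroup
open Cfsg.Agent.J4Module (app)

namespace Sect

variable {G : Type*} [Group G] [Finite G] {z : G} (Z : Sect z)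

/-- An element acts on the coordinates by the given columns. -/
def Acts (r : G) (C : List ℕ) : Prop := ∀ w < 1024, app C w < 1024 ∧ r * Z.c w * r⁻¹ = Z.c (app C w)

theorem acts_mul {r r' : G} {C C' : List ℕ} (h : Z.Acts r C) (h' : Z.Acts r' C') :
    Z.Acts (r * r') (mulC C C') := fun w hw => by
  obtain ⟨h1, e1⟩ := h' w hw
  obtain ⟨h2, e2⟩ := h _ h1
  rw [app_mulC]
  refine ⟨h2, ?_⟩
  rw [← e2, ← e1]
  group

theorem acts_congr {r : G} {C C' : List ℕ} (h : Z.Acts r C) (e : ∀ w < 1024, app C w = app C' w) :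
    Z.Acts r C' := fun w hw => by rw [← e w hw]; exact h w hw

theorem acts_one : Z.Acts 1 unitW := fun w hw => by
  rw [unitW_app w hw]
  exact ⟨hw, by group⟩

theorem acts_unique {R : Subgroup G} (hR : R ⊓ Z.A = ⊥) {r r' : G} (hr : r ∈ R) (hr' : r' ∈ R) {C C' : List ℕ}
    (h : Z.Acts r C) (h' : Z.Acts r' C') (e : ∀ w < 1024, app C w = app C' w) : r = r' := by
  have hm : r'⁻¹ * r ∈ R ⊓ Z.A := by
    refine mem_inf.2 ⟨mul_mem (inv_mem hr') hr, Z.centralizer_A.le (mem_centralizer_iff.2 ?_)⟩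
    rintro _ ⟨w, hw, rfl⟩
    have e1 : r * Z.c w * r⁻¹ = r' * Z.c w * r'⁻¹ := by rw [(h w hw).2, (h' w hw).2, e w hw]
    calc Z.c w * (r'⁻¹ * r) = r'⁻¹ * (r' * Z.c w * r'⁻¹) * r := by group
      _ = r'⁻¹ * (r * Z.c w * r⁻¹) * r := by rw [e1]
      _ = r'⁻¹ * r * Z.c w := by group
  rw [hR, mem_bot, inv_mul_eq_one] at hm
  exact hm.symm

theorem acts_mem_A {a : G} (ha : a ∈ Z.A) : Z.Acts a unitW := fun w hw => by
  obtain ⟨v, hv, rfl⟩ := ha
  rw [unitW_app w hw, Z.c_comm hv hw, mul_inv_cancel_right]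
  exact ⟨hw, rfl⟩

end Sect

/-- A section together with the coordinates of the second abelian subgroup of the model. -/
structure Setup {G : Type*} [Group G] [Finite G] (z : G) where
  Z : Sect z
  z₀ : G
  P : Subgroup G
  M : Model z₀ P
  L : M.TLift
  E : M.Gens
  hs : E.s * E.s = 1
  hL : ∀ n < 1024, (IsConj z₀ (L.el n) ↔ Ten.tDec.testBit n = true)
  conj : IsConj z z₀

namespace Setup

variable {G : Type*} [Group G] [Finite G] {z : G} (S : Setup z)

/-- The class of the involution in the subgroup. -/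
theorem class_iff : ∀ w < 1024, (IsConj z (S.Z.c w) ↔ wdec w = true) := S.Z.class_iff S.L S.conj S.hL

theorem exists_compl : ∃ R : Subgroup G, R ≤ normalizer (S.Z.A : Set G) ∧ R ⊓ S.Z.A = ⊥ ∧
    R ⊔ S.Z.A = normalizer (S.Z.A : Set G) :=
  (Model.ten_split S.L S.hL S.E S.hs S.Z.A_elem S.Z.card_A S.Z.centralizer_A).1.imp
    fun _ h => ⟨h.1, h.2.1, h.2.2.1⟩

/-- A complement in the normaliser. -/
noncomputable def R : Subgroup G := S.exists_compl.choose

theorem R_le : S.R ≤ normalizer (S.Z.A : Set G) := S.exists_compl.choose_spec.1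

theorem R_inf : S.R ⊓ S.Z.A = ⊥ := S.exists_compl.choose_spec.2.1

theorem R_sup : S.R ⊔ S.Z.A = normalizer (S.Z.A : Set G) := S.exists_compl.choose_spec.2.2

/-- Every frame map is induced by an element of the complement. -/
theorem exists_acts {C D : List ℕ} (h : frameOK C D = true) : ∃ r ∈ S.R, S.Z.Acts r C := by
  classical
  simp only [frameOK, Bool.and_eq_true, List.all_eq_true, Nat.blt_eq, Nat.beq_eq, List.mem_range,
    beq_iff_eq] at h
  obtain ⟨⟨hC, hD⟩, hall⟩ := h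
  have lC : ∀ w, app C w < 2 ^ 10 := fun w => Coord.app_lt C hC w
  have lD : ∀ w, app D w < 2 ^ 10 := fun w => Coord.app_lt D hD w
  obtain ⟨g, hg⟩ := S.M.conjugate_tG S.Z.A S.Z.A_elem S.Z.card_A S.Z.centralizer_A
  have hex : ∀ w, ∃ n, n < 1024 ∧ (w < 1024 → g * S.L.el n * g⁻¹ = S.Z.c w) := fun w => by
    by_cases hw : w < 1024
    · obtain ⟨a, ha, e⟩ : S.Z.c w ∈ S.M.tG.map (MulAut.conj g).toMonoidHom := hg ▸ ⟨w, hw, rfl⟩
      obtain ⟨n, hn, rfl⟩ := S.L.el_surj ha
      exact ⟨n, hn, fun _ => e⟩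
    · exact ⟨0, by norm_num, fun h => absurd h hw⟩
  choose f hf using hex
  have hex' : ∀ n, ∃ w, w < 1024 ∧ g * S.L.el n * g⁻¹ = S.Z.c w := fun n => by
    have hmem : g * S.L.el n * g⁻¹ ∈ S.Z.A := by rw [hg]; exact ⟨_, S.L.el_mem n, rfl⟩
    obtain ⟨w, hw, e⟩ := hmem
    exact ⟨w, hw, e.symm⟩
  choose k hk using hex'
  have fl : ∀ w, f w < 1024 := fun w => (hf w).1
  have fe : ∀ w < 1024, g * S.L.el (f w) * g⁻¹ = S.Z.c w := fun w hw => (hf w).2 hw
  have fk : ∀ n < 1024, f (k n) = n := fun n hn => S.L.el_inj (fl _) hn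
    (mul_left_cancel (mul_right_cancel ((fe _ (hk n).1).trans (hk n).2.symm)))
  have kf : ∀ w < 1024, k (f w) = w := fun w hw => S.Z.c_inj (hk _).1 hw ((hk _).2.symm.trans (fe w hw))
  have fadd : ∀ a < 1024, ∀ b < 1024, f (a ^^^ b) = f a ^^^ f b := fun a ha b hb => by
    refine S.L.el_inj (fl _) (Nat.xor_lt_two_pow (n := 10) (fl a) (fl b)) ?_
    have e := fe _ (Nat.xor_lt_two_pow (n := 10) ha hb)
    rw [S.Z.c_xor ha hb, ← fe a ha, ← fe b hb] at e
    rw [S.L.el_xor]
    refine mul_left_cancel (a := g) (mul_right_cancel (b := g⁻¹) (e.trans ?_))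
    group
  have kadd : ∀ a < 1024, ∀ b < 1024, k (a ^^^ b) = k a ^^^ k b := fun a ha b hb => by
    conv_lhs => rw [← fk a ha, ← fk b hb, ← fadd _ (hk a).1 _ (hk b).1]
    exact kf _ (Nat.xor_lt_two_pow (n := 10) (hk a).1 (hk b).1)
  have fdec : ∀ w < 1024, Ten.tDec.testBit (f w) = wdec w := fun w hw => by
    rw [Bool.eq_iff_iff, ← S.hL _ (fl w), ← S.class_iff w hw, ← fe w hw]
    exact ⟨fun h => S.conj.trans (h.trans (isConj_iff.2 ⟨g, rfl⟩)),
      fun h => S.conj.symm.trans (h.trans (isConj_iff.2 ⟨g⁻¹, by group⟩))⟩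
  have hround : ∀ w < 1024, app D (app C w) = w := fun w hw => (hall w hw).2
  have hround' : ∀ w < 1024, app C (app D w) = w := by
    have hinj : Function.Injective fun w : Fin 1024 => (⟨app C w, lC w⟩ : Fin 1024) := fun a b e =>
      Fin.ext (by rw [← hround a a.2, ← hround b b.2, show app C a = app C b from congrArg Fin.val e])
    intro w hw
    obtain ⟨v, hv⟩ := (Finite.injective_iff_surjective.1 hinj) ⟨w, hw⟩
    have e : app C v = w := congrArg Fin.val hv
    rw [← e, hround v v.2]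
  have auto : ∀ B : List ℕ, (∀ w, app B w < 2 ^ 10) → (∀ a < 1024, ∀ b < 1024, app B a = app B b → a = b) →
      (∀ w < 1024, wdec (app B w) = wdec w) → Ten.IsAuto fun n => f (app B (k n)) := fun B lB iB dB => by
    refine ⟨fun x _ => fl _, fun x hx y hy => ?_, fun x hx y hy e => ?_, fun x hx => ?_⟩
    · simp only [kadd x hx y hy, J4Module.app_xor, fadd _ (lB _) _ (lB _)]
    · have e' : app B (k x) = app B (k y) := by rw [← kf _ (lB (k x)), ← kf _ (lB (k y))]; exact congrArg k e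
      rw [← fk x hx, ← fk y hy, iB _ (hk x).1 _ (hk y).1 e']
    · simp only [fdec _ (lB _), dB _ (hk x).1]
      rw [← fdec _ (hk x).1, fk x hx]
  have autC := auto C lC (fun a ha b hb e => by rw [← hround a ha, ← hround b hb, e]) fun w hw => (hall w hw).1
  have autD := auto D lD (fun a ha b hb e => by rw [← hround' a ha, ← hround' b hb, e]) fun w hw => by
    have h := (hall _ (lD w)).1
    rw [hround' w hw] at h
    exact h.symm
  have hcomp : ∀ a < 32, autD.pt (autC.pt a) = a := fun a ha => by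
    rw [← Ten.pt_comp autD autC Ten.isAuto_id (fun x hx => ?_) ha, Ten.pt_id ha]
    show x = f (app D (k (f (app C (k x)))))
    rw [kf _ (lC _), hround _ (hk x).1, fk x hx]
  have hdet : (Ten.matOf autC.pt).det = 1 := by
    refine Ten.det_eq_one_of_mul (B := Ten.matOf autD.pt) ?_
    rw [mul_eq_one_comm, ← Ten.matOf_comp (fun a ha => autD.pt_lt ha) (fun a ha b hb => autD.pt_add ha hb)
      (fun a ha => autC.pt_lt ha) (r := id) (fun a ha => (hcomp a ha).symm)]
    exact Ten.matOf_id fun a _ => rfl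
  obtain ⟨n0, hn0⟩ := S.L.hom_surjective S.hL S.E S.hs ⟨_, hdet⟩
  have hm : Ten.matOf (S.L.isAuto S.hL n0).pt = Ten.matOf autC.pt := congrArg Subtype.val hn0
  have hpt : ∀ i : Fin 5, (S.L.isAuto S.hL n0).pt (2 ^ i.1) = autC.pt (2 ^ i.1) := fun i =>
    Ten.toV_inj _ ((S.L.isAuto S.hL n0).pt_lt (Nat.pow_lt_pow_right (by norm_num) i.2)) _
      (autC.pt_lt (Nat.pow_lt_pow_right (by norm_num) i.2)) (funext fun r => congrFun (congrFun hm r) i)
  have hsig : ∀ x < 1024, S.L.sig n0 x = f (app C (k x)) := fun x hx => by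
    rw [(S.L.isAuto S.hL n0).eq_app x hx, autC.eq_app x hx]
    have h1 := hpt 0
    have h2 := hpt 1
    have h4 := hpt 2
    have h8 := hpt 3
    have h16 := hpt 4
    norm_num at h1 h2 h4 h8 h16
    rw [h1, h2, h4, h8, h16]
  set n : G := g * (n0 : G) * g⁻¹ with hn
  have hact : S.Z.Acts n C := fun w hw => by
    refine ⟨lC w, ?_⟩
    have e := (S.L.sig_spec n0 (fl w)).2
    rw [hsig _ (fl w), kf w hw] at e
    rw [← fe _ (lC w), e, ← fe w hw, hn]
    group
  have hnN : n ∈ normalizer (S.Z.A : Set G) := by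
    rw [hg, Model.mem_normalizer_conj, hn, show g⁻¹ * (g * (n0 : G) * g⁻¹) * g = (n0 : G) by group]
    exact n0.2
  rw [← S.R_sup, ← SetLike.mem_coe, Subgroup.coe_mul_of_left_le_normalizer_right _ _ S.R_le] at hnN
  obtain ⟨r, hr, a, ha, e⟩ := Set.mem_mul.1 hnN
  refine ⟨r, hr, fun w hw => ?_⟩
  obtain ⟨h1, h2⟩ := hact w hw
  refine ⟨h1, ?_⟩
  have ea := (S.Z.acts_mem_A ha w hw).2
  rw [Sect.unitW_app w hw] at ea
  rw [← h2, ← e]
  calc r * S.Z.c w * r⁻¹ = r * (a * S.Z.c w * a⁻¹) * r⁻¹ := by rw [ea]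
    _ = _ := by group

end Setup

end Cfsg.Agent.JankoFour.Recog
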