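import Cfsg.Agent.Lib.JankoFour.Recog.Square
import Cfsg.Agent.Lib.J4Pres.Bound.Rels
import Cfsg.Agent.Lib.J4Pres.Bound.TrioStab

/-!
The relations of the presented fourth Janko group in a simple group of Janko-four type: the copy of the Mathieu
group, transported to the generators of the presentation, and the transvection of its first trio.
-/

set_option autoImplicit false
set_option linter.unusedSectionVars false
set_option maxRecDepth 100000
set_option synthInstance.maxSize 4000

namespace Cfsg.Agent.JankoFour.Recog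

open Subgroup
open Cfsg (GolayPt M24)
open Cfsg.Agent.Golay Cfsg.Agent.PermCert
open Cfsg.Agent.J4Pres
open scoped Pointwise

/-- The permutation carrying the generators of the presentation to the ones of the data. -/
def permC : Elt := (50046350069213891703542381943102578, 847827024985571999381413792379345641)

theorem permC_ok : permOK permC = true := by decide +kernel

theorem words_conj : permOf permC * px = permOf permX * permOf permC ∧
    permOf permC * py = permOf permY * permOf permC ∧ permOf permC * pS = permOf permW * permOf permC ∧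
    permOf permC * pLine = permOf permW1 * permOf permC ∧ permOf permC * pFour = permOf permG * permOf permC ∧
    permOf permC * pLast = permOf permU * permOf permC := by decide +kernel

/-- The element cycling the trio of the eighth functional, as a word. -/
def wordK8 : List Elt := [elK8.1, permGam, elK8.1]

theorem relation_perms :
    (eltWord [elK8.1, elK8.1]).1 = idCode 5 24 ∧
    (eltWord ([permX, permH] ++ wordK8)).1 = (eltWord [permH, elDX.1]).1 ∧
    (eltWord [permW, permH]).1 = (eltWord [permH, elDW.1]).1 ∧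
    (eltWord [permG, permH]).1 = (eltWord [permH, elDG.1]).1 ∧
    (eltWord [permW1, elR0.1]).1 = (eltWord ([permH] ++ wordK8)).1 ∧
    (eltWord [permY, elR0.1]).1 = (eltWord [elR1.1]).1 ∧
    (eltWord [permY, elR1.1]).1 = (eltWord [elR2.1]).1 ∧
    (eltWord [permU, permH, permGam, elDu.1]).1 = (eltWord ([permH] ++ wordK8 ++ wordK8)).1 ∧
    (eltWord [permG, permH, permGam]).1 = (eltWord [permH, permGam, elN2.1]).1 ∧
    (eltWord [permG, permG, permH, permGam]).1 = (eltWord [permH, permGam, elN3.1]).1 ∧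
    (eltWord [permG, permG, permH, permGam, permGam]).1 = (eltWord [permH, permGam, permGam, evElt 2]).1 := by
  decide +kernel

theorem relation_conj : conjB elK8.2.2.2 1 8 = true ∧ conjB elDX.2.2.2 8 8 = true ∧ conjB elDW.2.2.2 8 8 = true ∧
    conjB elDG.2.2.2 8 8 = true ∧ conjB elR0.2.2.2 8 2 = true ∧ conjB elR1.2.2.2 8 9 = true ∧
    conjB elR2.2.2.2 8 11 = true ∧ conjB elDu.2.2.2 8 13 = true ∧ conjB elN2.2.2.2 13 12 = true ∧
    conjB elN3.2.2.2 13 13 = true := by decide +kernel

theorem relation_mem : ∀ d ∈ [elK8, elDX, elDW, elDG, elR0, elR1, elR2, elDu, elN2, elN3], d ∈ allData := by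
  decide +kernel

theorem perms_mem : ∀ e ∈ [permX, permY, permGam, permH, permG, permW, permW1, permU], permOK e = true := fun e he =>
  List.all_eq_true.1 perms_ok e (by simp only [List.mem_cons, List.not_mem_nil, or_false] at he ⊢; tauto)

namespace Framed

variable {G : Type*} [Group G] [Finite G] {z : G} (F : Framed z)

/-- The image of the Mathieu group on the generators of the presentation. -/
noncomputable def psiP : ↥M24 →* G := F.X.Z.psi.comp (MulAut.conj (toM permC)).toMonoidHom

/-- The third generator. -/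
noncomputable def tP : G :=
  F.X.Z.psi (toM permH) * F.X.tr 8 * (F.X.Z.psi (toM permH))⁻¹

theorem psiP_eq {g : ↥M24} {e : Elt} (he : permOK e = true)
    (h : permOf permC * (g : Equiv.Perm GolayPt) = permOf e * permOf permC) : F.psiP g = F.X.Z.psi (toM e) := by
  refine congrArg F.X.Z.psi ?_
  show toM permC * g * (toM permC)⁻¹ = toM e
  rw [mul_inv_eq_iff_eq_mul]
  apply Subtype.ext
  rw [Subgroup.coe_mul, Subgroup.coe_mul, toM_val permC_ok, toM_val he]
  exact h

theorem psiP_gens : F.psiP gx = F.X.Z.psi (toM permX) ∧ F.psiP gy = F.X.Z.psi (toM permY) ∧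
    F.psiP TrioSystem.gS = F.X.Z.psi (toM permW) ∧ F.psiP TrioSystem.gLine = F.X.Z.psi (toM permW1) ∧
    F.psiP TrioSystem.gFour = F.X.Z.psi (toM permG) ∧ F.psiP TrioSystem.gLast = F.X.Z.psi (toM permU) := by
  obtain ⟨h1, h2, h3, h4, h5, h6⟩ := words_conj
  exact ⟨F.psiP_eq (perms_mem _ (by simp)) h1, F.psiP_eq (perms_mem _ (by simp)) h2,
    F.psiP_eq (perms_mem _ (by simp)) h3, F.psiP_eq (perms_mem _ (by simp)) h4,
    F.psiP_eq (perms_mem _ (by simp)) h5, F.psiP_eq (perms_mem _ (by simp)) h6⟩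

theorem tP_sq : F.tP * F.tP = 1 := by
  calc F.tP * F.tP = F.X.Z.psi (toM permH) * (F.X.tr 8 * F.X.tr 8) * (F.X.Z.psi (toM permH))⁻¹ := by
        rw [tP]; group
    _ = 1 := by rw [F.X.tr_sq (by norm_num), mul_one, mul_inv_cancel]

/-- The cycling element of the eighth functional fixes it. -/
theorem wordK8_fix : (wordK8.map fun a => F.X.Z.psi (toM a)).prod * F.X.tr 8 *
    ((wordK8.map fun a => F.X.Z.psi (toM a)).prod)⁻¹ = F.X.tr 8 := by
  have hk := Rig.data_ok (relation_mem elK8 (by simp))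
  have h := congrArg F.X.Z.psi (mList_eq (L := [elK8.1, elK8.1]) (L' := []) (by simp [hk]) (by simp) relation_perms.1)
  simp only [mList, List.map_cons, List.map_nil, List.prod_cons, List.prod_nil, mul_one, map_mul, map_one] at h
  simp only [wordK8, List.map_cons, List.map_nil, List.prod_cons, List.prod_nil, mul_one]
  have e := F.X.conj_tr (relation_mem elK8 (by simp)) (l := 1) (l' := 8) (by norm_num) (by norm_num) relation_conj.1
  set k := F.X.Z.psi (toM elK8.1)
  have ki : k⁻¹ = k := inv_eq_of_mul_eq_one_right h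
  rw [ki] at e
  rw [← e]
  calc k * (F.X.Z.psi (toM permGam) * k) * (k * F.X.tr 1 * k) * (k * (F.X.Z.psi (toM permGam) * k))⁻¹
      = k * F.X.Z.psi (toM permGam) * (k * k) * F.X.tr 1 * (k * k⁻¹) * (F.X.Z.psi (toM permGam))⁻¹ * k⁻¹ := by group
    _ = k * (F.X.gam * F.X.tr 1 * F.X.gam⁻¹) * k := by rw [h, mul_inv_cancel, mul_one, mul_one, ki, Rig.gam]; group
    _ = _ := by rw [F.gam_t, mul_inv_cancel_right]

theorem word_eq {L L' : List Elt} (h : ∀ a ∈ L ++ L', permOK a = true) (e : (eltWord L).1 = (eltWord L').1) :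
    (L.map fun a => F.X.Z.psi (toM a)).prod = (L'.map fun a => F.X.Z.psi (toM a)).prod := by
  rw [← F.X.psi_word, ← F.X.psi_word, mList_eq (fun a ha => h a (List.mem_append_left _ ha))
    (fun a ha => h a (List.mem_append_right _ ha)) e]

theorem wordK8_ok : ∀ a ∈ wordK8, permOK a = true := by
  have hk := Rig.data_ok (relation_mem elK8 (by simp))
  simp [wordK8, hk, Rig.permGam_ok]

/-- The stabiliser of the first trio centralises the third generator. -/
theorem tP_comm (g : ↥M24) (hg : (g : Equiv.Perm GolayPt) • trioW = trioW) : F.psiP g * F.tP = F.tP * F.psiP g := by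
  have okk := Rig.data_ok (relation_mem elK8 (by simp))
  have okh := perms_mem permH (by simp)
  obtain ⟨-, ex, ew, -⟩ := relation_perms
  obtain ⟨-, cx, cw, -⟩ := relation_conj
  obtain ⟨gx', -, gS', -⟩ := F.psiP_gens
  have gen : ∀ (e : Elt) (d : SData) (W : List Elt), d ∈ allData → permOK e = true → (∀ a ∈ W, permOK a = true) →
      conjB d.2.2.2 8 8 = true → (eltWord ([e, permH] ++ W)).1 = (eltWord [permH, d.1]).1 →
      (W.map fun a => F.X.Z.psi (toM a)).prod * F.X.tr 8 * ((W.map fun a => F.X.Z.psi (toM a)).prod)⁻¹ = F.X.tr 8 →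
      F.X.Z.psi (toM e) * F.tP = F.tP * F.X.Z.psi (toM e) := by
    intro e d W hd he hW hc hcode hfix
    have h := F.word_eq (L := [e, permH] ++ W) (L' := [permH, d.1]) (by
      intro a ha
      simp only [List.mem_append, List.mem_cons, List.not_mem_nil, or_false] at ha
      rcases ha with ((rfl | rfl) | ha) | (rfl | rfl)
      exacts [he, okh, hW a ha, okh, Rig.data_ok hd]) hcode
    simp only [List.map_append, List.prod_append, List.map_cons, List.map_nil, List.prod_cons, List.prod_nil,
      mul_one] at h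
    set w := (W.map fun a => F.X.Z.psi (toM a)).prod
    set H := F.X.Z.psi (toM permH)
    have e8 := F.X.conj_tr hd (l := 8) (l' := 8) (by norm_num) (by norm_num) hc
    refine mul_inv_eq_iff_eq_mul.1 ?_
    rw [tP]
    calc F.X.Z.psi (toM e) * (H * F.X.tr 8 * H⁻¹) * (F.X.Z.psi (toM e))⁻¹
        = (F.X.Z.psi (toM e) * H) * F.X.tr 8 * (F.X.Z.psi (toM e) * H)⁻¹ := by group
      _ = (F.X.Z.psi (toM e) * H) * (w * F.X.tr 8 * w⁻¹) * (F.X.Z.psi (toM e) * H)⁻¹ := by rw [hfix]
      _ = (H * F.X.Z.psi (toM d.1)) * F.X.tr 8 * (H * F.X.Z.psi (toM d.1))⁻¹ := by rw [← h]; group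
      _ = H * (F.X.Z.psi (toM d.1) * F.X.tr 8 * (F.X.Z.psi (toM d.1))⁻¹) * H⁻¹ := by group
      _ = _ := by rw [e8]
  have h := J4Bound.TrioStab.mem_closure_of_fix hg
  clear hg
  induction h using Subgroup.closure_induction with
  | mem a ha =>
    rcases ha with rfl | rfl
    · rw [gx']
      exact gen permX elDX wordK8 (relation_mem _ (by simp)) (perms_mem _ (by simp)) wordK8_ok cx ex F.wordK8_fix
    · rw [gS']
      exact gen permW elDW [] (relation_mem _ (by simp)) (perms_mem _ (by simp)) (by simp) cw ew (by simp)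
  | one => simp
  | mul a b _ _ iha ihb => rw [map_mul, mul_assoc, ihb, ← mul_assoc, iha, mul_assoc]
  | inv a _ iha =>
    rw [map_inv, eq_comm, eq_inv_mul_iff_mul_eq, ← mul_assoc, iha, mul_assoc, mul_inv_cancel, mul_one]

/-- The relator of the line. -/
theorem rel_line : (F.psiP gy * ((F.psiP TrioSystem.gLine)⁻¹ * F.tP * F.psiP TrioSystem.gLine)) ^ 3 = 1 := by
  obtain ⟨-, gy', -, gL', -⟩ := F.psiP_gens
  obtain ⟨-, -, -, -, e0, e1, e2, -⟩ := relation_perms
  obtain ⟨-, -, -, -, c0, c1, c2, -⟩ := relation_conj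
  rw [gy', gL']
  have ok : ∀ e ∈ [permX, permY, permGam, permH, permG, permW, permW1, permU], permOK e = true := perms_mem
  have okd : ∀ d ∈ [elK8, elDX, elDW, elDG, elR0, elR1, elR2, elDu, elN2, elN3], permOK d.1 = true := fun d hd =>
    Rig.data_ok (relation_mem d hd)
  have h0 := F.word_eq (L := [permW1, elR0.1]) (L' := [permH] ++ wordK8) (by
    intro a ha
    simp only [List.mem_append, List.mem_cons, List.not_mem_nil, or_false] at ha
    rcases ha with (rfl | rfl) | (rfl | ha)
    exacts [ok _ (by simp), okd _ (by simp), ok _ (by simp), wordK8_ok a ha]) e0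
  have h1 := F.word_eq (L := [permY, elR0.1]) (L' := [elR1.1]) (by
    simp only [List.cons_append, List.nil_append, List.forall_mem_cons]
    exact ⟨ok _ (by simp), okd _ (by simp), okd _ (by simp), by simp⟩) e1
  have h2 := F.word_eq (L := [permY, elR1.1]) (L' := [elR2.1]) (by
    simp only [List.cons_append, List.nil_append, List.forall_mem_cons]
    exact ⟨ok _ (by simp), okd _ (by simp), okd _ (by simp), by simp⟩) e2
  simp only [List.map_append, List.prod_append, List.map_cons, List.map_nil, List.prod_cons, List.prod_nil,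
    mul_one] at h0 h1 h2
  have f0 := F.X.conj_tr (relation_mem elR0 (by simp)) (l := 8) (l' := 2) (by norm_num) (by norm_num) c0
  have f1 := F.X.conj_tr (relation_mem elR1 (by simp)) (l := 8) (l' := 9) (by norm_num) (by norm_num) c1
  have f2 := F.X.conj_tr (relation_mem elR2 (by simp)) (l := 8) (l' := 11) (by norm_num) (by norm_num) c2
  have hfix := F.wordK8_fix
  set w := (wordK8.map fun a => F.X.Z.psi (toM a)).prod
  set W := F.X.Z.psi (toM permW1)
  set Y := F.X.Z.psi (toM permY) with hY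
  set H := F.X.Z.psi (toM permH) with hH
  have eT : W⁻¹ * F.tP * W = F.X.tr 2 := by
    calc W⁻¹ * F.tP * W = W⁻¹ * H * (w * F.X.tr 8 * w⁻¹) * H⁻¹ * W := by rw [hfix, tP, ← hH]; group
      _ = W⁻¹ * (H * w) * F.X.tr 8 * (W⁻¹ * (H * w))⁻¹ := by group
      _ = F.X.Z.psi (toM elR0.1) * F.X.tr 8 * (F.X.Z.psi (toM elR0.1))⁻¹ := by
          rw [← h0, inv_mul_cancel_left]
      _ = _ := f0
  have eY1 : Y * F.X.tr 2 * Y⁻¹ = F.X.tr 9 := by
    rw [← f0, ← f1, ← h1]; group
  have eY2 : Y ^ 2 * F.X.tr 2 * (Y ^ 2)⁻¹ = F.X.tr 11 := by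
    rw [pow_two]
    calc Y * Y * F.X.tr 2 * (Y * Y)⁻¹ = Y * (Y * F.X.tr 2 * Y⁻¹) * Y⁻¹ := by group
      _ = _ := by rw [eY1, ← f1, ← f2, ← h2]; group
  have hy3 : Y ^ 3 = 1 := by rw [← gy', ← map_pow, rel_cube, map_one]
  rw [eT, J4Pres.conj_cube hy3, eY1, eY2, F.X.tr_xor (by norm_num) (by norm_num),
    show (9 : ℕ) ^^^ 11 = 2 from rfl, F.X.tr_sq (by norm_num)]

/-- The relator of the commutator. -/
theorem rel_last :
    (F.psiP TrioSystem.gFour * F.tP * ((F.psiP TrioSystem.gLast)⁻¹ * F.tP * F.psiP TrioSystem.gLast)) ^ 2 = 1 := by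
  obtain ⟨-, -, -, -, gF', gU'⟩ := F.psiP_gens
  obtain ⟨-, -, -, eg, -, -, -, eu, en2, en3, ee⟩ := relation_perms
  obtain ⟨-, -, -, cg, -, -, -, cu, cn2, cn3⟩ := relation_conj
  rw [gF', gU']
  have ok : ∀ e ∈ [permX, permY, permGam, permH, permG, permW, permW1, permU], permOK e = true := perms_mem
  have okd : ∀ d ∈ [elK8, elDX, elDW, elDG, elR0, elR1, elR2, elDu, elN2, elN3], permOK d.1 = true := fun d hd =>
    Rig.data_ok (relation_mem d hd)
  have ha : ∀ a ∈ [permG, permH, permGam, permU, elDG.1, elDu.1, elN2.1, elN3.1, evElt 2] ++ wordK8, permOK a = true := by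
    intro a ha
    simp only [List.mem_append, List.mem_cons, List.not_mem_nil, or_false] at ha
    rcases ha with (rfl | rfl | rfl | rfl | rfl | rfl | rfl | rfl | rfl) | ha
    exacts [ok _ (by simp), ok _ (by simp), ok _ (by simp), ok _ (by simp), okd _ (by simp), okd _ (by simp),
      okd _ (by simp), okd _ (by simp), (evElt_ok 2 (by norm_num)).1, wordK8_ok a ha]
  have hg := F.word_eq (L := [permG, permH]) (L' := [permH, elDG.1])
    (fun a h => ha a (by simp at h ⊢; tauto)) eg
  have hu := F.word_eq (L := [permU, permH, permGam, elDu.1]) (L' := [permH] ++ wordK8 ++ wordK8)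
    (fun a h => ha a (by simp at h ⊢; tauto)) eu
  have hn2 := F.word_eq (L := [permG, permH, permGam]) (L' := [permH, permGam, elN2.1])
    (fun a h => ha a (by simp at h ⊢; tauto)) en2
  have hn3 := F.word_eq (L := [permG, permG, permH, permGam]) (L' := [permH, permGam, elN3.1])
    (fun a h => ha a (by simp at h ⊢; tauto)) en3
  have he := F.word_eq (L := [permG, permG, permH, permGam, permGam]) (L' := [permH, permGam, permGam, evElt 2])
    (fun a h => ha a (by simp at h ⊢; tauto)) ee
  simp only [List.map_append, List.prod_append, List.map_cons, List.map_nil, List.prod_cons, List.prod_nil,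
    mul_one] at hg hu hn2 hn3 he
  have f8 := F.X.conj_tr (relation_mem elDG (by simp)) (l := 8) (l' := 8) (by norm_num) (by norm_num) cg
  have fu := F.X.conj_tr (relation_mem elDu (by simp)) (l := 8) (l' := 13) (by norm_num) (by norm_num) cu
  have fn2 := F.X.conj_tr (relation_mem elN2 (by simp)) (l := 13) (l' := 12) (by norm_num) (by norm_num) cn2
  have fn3 := F.X.conj_tr (relation_mem elN3 (by simp)) (l := 13) (l' := 13) (by norm_num) (by norm_num) cn3
  have hfix := F.wordK8_fix
  have hsq := F.square_rel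
  have he2 := F.X.tE_eq (show 2 < 16 by norm_num)
  rw [evM] at he2
  simp only [Framed.tg, Rig.gam] at hsq
  rw [he2] at hsq
  set k := (wordK8.map fun a => F.X.Z.psi (toM a)).prod
  set a := F.X.Z.psi (toM permG) with hadef
  set U := F.X.Z.psi (toM permU)
  set H := F.X.Z.psi (toM permH) with hH
  set c := F.X.Z.psi (toM permGam) with hc
  set E := F.X.Z.psi (toM (evElt 2))
  have hct : c * F.X.tr 1 * c⁻¹ = F.X.tr 1 := by
    rw [hc, show F.X.Z.psi (toM permGam) = F.X.gam from rfl, F.gam_t, mul_inv_cancel_right]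
  set w := F.tP with hwdef
  set u := H * c * F.X.tr 13 * (H * c)⁻¹ with hudef
  set v := H * c * F.X.tr 12 * (H * c)⁻¹ with hvdef
  set z1 := H * F.X.tr 1 * H⁻¹ with hzdef
  have hw : w = H * F.X.tr 8 * H⁻¹ := rfl
  have eU : U⁻¹ * w * U = u := by
    calc U⁻¹ * w * U = U⁻¹ * H * (k * (k * F.X.tr 8 * k⁻¹) * k⁻¹) * H⁻¹ * U := by rw [hfix, hfix, hw]; group
      _ = U⁻¹ * (H * k * k) * F.X.tr 8 * (U⁻¹ * (H * k * k))⁻¹ := by group
      _ = U⁻¹ * (U * (H * (c * F.X.Z.psi (toM elDu.1)))) * F.X.tr 8 *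
            (U⁻¹ * (U * (H * (c * F.X.Z.psi (toM elDu.1)))))⁻¹ := by rw [← hu]
      _ = H * c * (F.X.Z.psi (toM elDu.1) * F.X.tr 8 * (F.X.Z.psi (toM elDu.1))⁻¹) * (H * c)⁻¹ := by group
      _ = u := by rw [fu]
  have haw : a * w = w * a := by
    refine mul_inv_eq_iff_eq_mul.1 ?_
    calc a * w * a⁻¹ = (a * H) * F.X.tr 8 * (a * H)⁻¹ := by rw [hw]; group
      _ = H * (F.X.Z.psi (toM elDG.1) * F.X.tr 8 * (F.X.Z.psi (toM elDG.1))⁻¹) * H⁻¹ := by rw [hg]; group
      _ = w := by rw [f8, hw]
  have hau : a * u = v * a := by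
    refine mul_inv_eq_iff_eq_mul.1 ?_
    calc a * u * a⁻¹ = (a * (H * c)) * F.X.tr 13 * (a * (H * c))⁻¹ := by rw [hudef]; group
      _ = H * c * (F.X.Z.psi (toM elN2.1) * F.X.tr 13 * (F.X.Z.psi (toM elN2.1))⁻¹) * (H * c)⁻¹ := by rw [hn2]; group
      _ = v := by rw [fn2]
  have haau : a * a * u = u * (a * a) := by
    refine mul_inv_eq_iff_eq_mul.1 ?_
    calc a * a * u * (a * a)⁻¹ = (a * (a * (H * c))) * F.X.tr 13 * (a * (a * (H * c)))⁻¹ := by rw [hudef]; group
      _ = H * c * (F.X.Z.psi (toM elN3.1) * F.X.tr 13 * (F.X.Z.psi (toM elN3.1))⁻¹) * (H * c)⁻¹ := by rw [hn3]; group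
      _ = u := by rw [fn3]
  have huu : u * u = 1 := by
    calc u * u = H * c * (F.X.tr 13 * F.X.tr 13) * (H * c)⁻¹ := by rw [hudef]; group
      _ = 1 := by rw [F.X.tr_sq (by norm_num), mul_one, mul_inv_cancel]
  have huv : u * v = z1 := by
    calc u * v = H * (c * (F.X.tr 13 * F.X.tr 12) * c⁻¹) * H⁻¹ := by rw [hudef, hvdef]; group
      _ = z1 := by rw [F.X.tr_xor (by norm_num) (by norm_num), show (13 : ℕ) ^^^ 12 = 1 from rfl, hct]
  have hzw : z1 * w = w * z1 := by
    calc z1 * w = H * (F.X.tr 1 * F.X.tr 8) * H⁻¹ := by rw [hzdef, hw]; group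
      _ = _ := by rw [F.X.tr_comm (by norm_num) (by norm_num), hzdef, hw]; group
  have hzu : z1 * u = u * z1 := by
    have h13 : c * F.X.tr 13 * c⁻¹ * F.X.tr 1 = F.X.tr 1 * (c * F.X.tr 13 * c⁻¹) := F.tg_cent (by norm_num)
    calc z1 * u = H * (F.X.tr 1 * (c * F.X.tr 13 * c⁻¹)) * H⁻¹ := by rw [hzdef, hudef]; group
      _ = _ := by rw [← h13, hzdef, hudef]; group
  have hzz : z1 * z1 = 1 := by
    calc z1 * z1 = H * (F.X.tr 1 * F.X.tr 1) * H⁻¹ := by rw [hzdef]; group
      _ = 1 := by rw [F.X.tr_sq (by norm_num), mul_one, mul_inv_cancel]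
  have hv : v = u * z1 := by rw [← huv, ← mul_assoc, huu, one_mul]
  have hlast : (w * u) * (w * u) = a * a * z1 := by
    calc (w * u) * (w * u) = H * (F.X.tr 8 * (c * F.X.tr 13 * c⁻¹) * (F.X.tr 8 * (c * F.X.tr 13 * c⁻¹))) * H⁻¹ := by
          rw [hw, hudef]; group
      _ = (H * (c * (c * E))) * (c * c)⁻¹ * F.X.tr 1 * H⁻¹ := by rw [hsq]; group
      _ = (a * (a * (H * (c * c)))) * (c * c)⁻¹ * F.X.tr 1 * H⁻¹ := by rw [he]
      _ = _ := by rw [hzdef]; group
  have haa : a * a * (a * a) = 1 := by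
    have hE2 : E * E = 1 := by
      rw [← he2]; exact F.X.tE_sq (by norm_num)
    have e1 : a * a = (H * c * c) * E * (H * c * c)⁻¹ := by
      calc a * a = (a * (a * (H * (c * c)))) * (H * c * c)⁻¹ := by group
        _ = _ := by rw [he]; group
    rw [e1]
    calc _ = (H * c * c) * (E * E) * (H * c * c)⁻¹ := by group
      _ = 1 := by rw [hE2, mul_one, mul_inv_cancel]
  have haaw : a * a * w = w * (a * a) := ((show Commute a w from haw).mul_left haw).eq
  rw [pow_two, eU]
  calc a * w * u * (a * w * u) = (a * w) * u * a * (w * u) := by simp only [mul_assoc]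
    _ = w * (a * u) * a * (w * u) := by rw [haw]; simp only [mul_assoc]
    _ = w * v * ((a * a) * (w * u)) := by rw [hau]; simp only [mul_assoc]
    _ = w * v * ((w * u) * (a * a)) := by
        rw [((show Commute (a * a) w from haaw).mul_right haau).eq]
    _ = (w * u) * (z1 * (w * u)) * (a * a) := by rw [hv]; simp only [mul_assoc]
    _ = (w * u) * (w * u) * z1 * (a * a) := by
        rw [((show Commute z1 w from hzw).mul_right hzu).eq]; simp only [mul_assoc]
    _ = a * a * (z1 * z1) * (a * a) := by rw [hlast]; simp only [mul_assoc]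
    _ = 1 := by rw [hzz, mul_one, haa]

/-- The relations of the presentation in the group. -/
noncomputable def rels : J4Bound.Rels G where
  ψ := F.psiP
  t := F.tP
  tt := F.tP_sq
  comm := F.tP_comm
  line := F.rel_line
  last := F.rel_last

end Framed

end Cfsg.Agent.JankoFour.Recog
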