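import Cfsg.Agent.Lib.JankoFour.Recog.Wedge
import Cfsg.Agent.Lib.JankoFour.BigPack
import Cfsg.Agent.Lib.JankoFour.CoordBits
import Cfsg.Agent.Lib.LargeFischer.BigPairs
import Cfsg.Agent.Lib.Golay.OctadStab
import Cfsg.Agent.Lib.JankoFour.BigSylow

/-!
A section of the normaliser of the large abelian subgroup, and the abelian subgroup of order 1024 of an octad.
-/

set_option autoImplicit false
set_option linter.unusedSectionVars false
set_option maxRecDepth 100000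

namespace Cfsg.Agent.JankoFour.Recog

open Subgroup
open Cfsg (GolayPt M24 supports golayCode)
open Cfsg.Agent.Golay Cfsg.Agent.PermCert
open Cfsg.Agent.J4Module (app)
open Cfsg.Agent.Golay.SB (permOf_mul_eq)
open scoped symmDiff Pointwise

/-! ### Coded permutations in the Mathieu group -/

theorem permOK_iff {e : Elt} : permOK e = true ↔ validElt 5 24 e = true ∧ isAutB e = true := by
  simp [permOK]

/-- The element of the Mathieu group of a coded permutation. -/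
noncomputable def toM (e : Elt) : ↥M24 :=
  if h : permOK e = true then ⟨permOf e, permOf_mem_M24 (permOK_iff.1 h).1 (permOK_iff.1 h).2⟩ else 1

theorem toM_val {e : Elt} (h : permOK e = true) : (toM e : Equiv.Perm GolayPt) = permOf e := by
  simp [toM, h]

theorem permOf_one : permOf (one 5 24) = 1 := by
  rw [permOf, rep_unique (rep_toPerm (by decide +kernel)) (rep_one (w := 5) (n := 24) (by norm_num)), map_one]

theorem validElt_mul {a b : Elt} (ha : validElt 5 24 a = true) (hb : validElt 5 24 b = true) :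
    Rep 5 (mul 5 24 a b) (toPerm 5 24 a * toPerm 5 24 b) := rep_mul (rep_toPerm ha) (rep_toPerm hb)

/-- Equal products of codes give equal permutations. -/
theorem toM_mul_eq_mul {a b c d : Elt} (ha : permOK a = true) (hb : permOK b = true) (hc : permOK c = true)
    (hd : permOK d = true) (h : (mul 5 24 a b).1 = (mul 5 24 c d).1) : toM a * toM b = toM c * toM d := by
  apply Subtype.ext
  simp only [Subgroup.coe_mul, toM_val ha, toM_val hb, toM_val hc, toM_val hd, permOf, ← map_mul]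
  exact congrArg _ (rep_eq_code (validElt_mul (permOK_iff.1 ha).1 (permOK_iff.1 hb).1)
    (validElt_mul (permOK_iff.1 hc).1 (permOK_iff.1 hd).1) h)

theorem toM_mul {a b c : Elt} (ha : permOK a = true) (hb : permOK b = true) (hc : permOK c = true)
    (h : (mul 5 24 a b).1 = c.1) : toM a * toM b = toM c := by
  apply Subtype.ext
  simp only [Subgroup.coe_mul, toM_val ha, toM_val hb, toM_val hc]
  exact permOf_mul_eq (permOK_iff.1 ha).1 (permOK_iff.1 hb).1 (permOK_iff.1 hc).1 h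

theorem toM_eq {a b : Elt} (ha : permOK a = true) (hb : permOK b = true) (h : a.1 = b.1) : toM a = toM b := by
  apply Subtype.ext
  rw [toM_val ha, toM_val hb, permOf, permOf,
    rep_eq_code (rep_toPerm (permOK_iff.1 ha).1) (rep_toPerm (permOK_iff.1 hb).1) h]

theorem toM_idCode {a : Elt} (ha : permOK a = true) (h : a.1 = idCode 5 24) : toM a = 1 := by
  apply Subtype.ext
  rw [toM_val ha, permOf, rep_eq_code (rep_toPerm (permOK_iff.1 ha).1) (rep_one (w := 5) (n := 24) (by norm_num)) h,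
    map_one]
  rfl

theorem idx_toM {e : Elt} (h : permOK e = true) (p : GolayPt) :
    idx ((toM e : Equiv.Perm GolayPt) p) = PermCert.get 5 e.1 (idx p) := by
  rw [toM_val h, idx_permOf (permOK_iff.1 h).1]

theorem permA_ok : permOK permA = true := List.all_eq_true.1 perms_ok _ (by simp)
theorem permB_ok : permOK permB = true := List.all_eq_true.1 perms_ok _ (by simp)

/-- The translation of a label. -/
noncomputable def evM (x : ℕ) : ↥M24 := toM (evElt x)

theorem evM_mul {x y : ℕ} (hx : x < 16) (hy : y < 16) : evM x * evM y = evM (x ^^^ y) :=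
  toM_mul (evElt_ok x hx).1 (evElt_ok y hy).1 (evElt_ok _ (Nat.xor_lt_two_pow (n := 4) hx hy)).1
    ((evElt_ok x hx).2.2 y hy)

theorem evM_zero : evM 0 = 1 := toM_idCode (evElt_ok 0 (by norm_num)).1 evElt_zero

theorem evElt_move : ∀ x < 16, PermCert.get 5 (evElt x).1 (ptL 0) = ptL x ∧ ptL x < 24 := by decide +kernel

theorem ptL_inj : ∀ x < 16, ∀ y < 16, ptL x = ptL y → x = y := by decide +kernel

theorem evM_move {x : ℕ} (hx : x < 16) :
    idx ((evM x : Equiv.Perm GolayPt) (pt ⟨ptL 0, (evElt_move 0 (by norm_num)).2⟩)) = ptL x := by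
  rw [evM, idx_toM (evElt_ok x hx).1, idx_pt]
  exact (evElt_move x hx).1

theorem evM_inj {x y : ℕ} (hx : x < 16) (hy : y < 16) (h : evM x = evM y) : x = y :=
  ptL_inj x hx y hy (by rw [← evM_move hx, ← evM_move hy, h])

/-! ### The section -/

variable {G : Type*} [Group G] [Finite G] {z : G}

/-- A large abelian subgroup with a section of its normaliser. -/
structure Sect (z : G) where
  V : Subgroup G
  D : BigPack z V
  psi : ↥M24 →* G
  psi_mem : ∀ σ, psi σ ∈ normalizer (V : Set G)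
  phi_psi : ∀ σ, D.phi ⟨psi σ, psi_mem σ⟩ = σ

/-- A complement gives a section. -/
theorem exists_sect {V : Subgroup G} (D : BigPack z V) (K : Subgroup G) (hK : K ≤ normalizer (V : Set G))
    (hinf : K ⊓ V = ⊥) (hsup : K ⊔ V = normalizer (V : Set G)) : Nonempty (Sect z) := by
  let f : ↥K →* ↥M24 := D.phi.comp (Subgroup.inclusion hK)
  have hker : ∀ n : ↥(normalizer (V : Set G)), D.phi n = 1 ↔ (n : G) ∈ V := fun n => by
    rw [← MonoidHom.mem_ker, D.phi_ker, mem_subgroupOf]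
  have hinj : Function.Injective f := by
    rw [injective_iff_map_eq_one]
    intro k hk
    have h : (k : G) ∈ K ⊓ V := mem_inf.2 ⟨k.2, (hker _).1 hk⟩
    rw [hinf, mem_bot] at h
    exact Subtype.ext h
  have hsurj : Function.Surjective f := by
    intro σ
    obtain ⟨n, rfl⟩ := D.phi_surj σ
    have hn : (n : G) ∈ K ⊔ V := by rw [hsup]; exact n.2
    rw [← SetLike.mem_coe, Subgroup.coe_mul_of_left_le_normalizer_right _ _ hK] at hn
    obtain ⟨k, hk, v, hv, e⟩ := Set.mem_mul.1 hn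
    refine ⟨⟨k, hk⟩, ?_⟩
    have hv' : v ∈ normalizer (V : Set G) := le_normalizer hv
    have he : n = (⟨k, hK hk⟩ : ↥(normalizer (V : Set G))) * ⟨v, hv'⟩ := Subtype.ext e.symm
    rw [he, map_mul, (hker ⟨v, hv'⟩).2 hv, mul_one]
    rfl
  let g : ↥M24 →* ↥K := (MulEquiv.ofBijective f ⟨hinj, hsurj⟩).symm.toMonoidHom
  refine ⟨⟨V, D, K.subtype.comp g, fun σ => hK (g σ).2, fun σ => ?_⟩⟩
  exact (MulEquiv.ofBijective f ⟨hinj, hsurj⟩).apply_symm_apply σ

namespace Sect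

variable (Z : Sect z)

/-- The element of an even mask. -/
def sv (m : ℕ) : G := Z.D.eS (maskSet m)

theorem sv_mem (m : ℕ) : Z.sv m ∈ Z.V := Z.D.eS_mem _

theorem maskSet_xor {a b : ℕ} (ha : a < 2 ^ 24) (hb : b < 2 ^ 24) : maskSet (a ^^^ b) = maskSet a ∆ maskSet b := by
  have h := LargeFischer.Big.toMask_symmDiff (maskSet a) (maskSet b)
  rw [toMask_maskSet ha, toMask_maskSet hb] at h
  rw [← h, maskSet_toMask]

theorem sv_xor {a b : ℕ} (ha : a < 2 ^ 24) (hb : b < 2 ^ 24) (ea : popCount a 24 % 2 = 0) (eb : popCount b 24 % 2 = 0) :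
    Z.sv (a ^^^ b) = Z.sv a * Z.sv b := by
  rw [sv, maskSet_xor ha hb]
  exact Z.D.eS_symmDiff _ _ (by rw [card_maskSet, Nat.even_iff, ea]) (by rw [card_maskSet, Nat.even_iff, eb])

theorem sv_sq (a : ℕ) : Z.sv a * Z.sv a = 1 := Z.D.sq _ (Z.sv_mem a)

theorem sv_comm (a b : ℕ) : Z.sv a * Z.sv b = Z.sv b * Z.sv a :=
  mem_centralizer_iff.1 (Z.D.cent.ge (Z.sv_mem b)) _ (Z.sv_mem a)

theorem sv_eq_one {a : ℕ} (ha : a < 2 ^ 24) (ea : popCount a 24 % 2 = 0) : Z.sv a = 1 ↔ inCode a = true := by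
  rw [sv, Z.D.eS_eq_one _ (by rw [card_maskSet, Nat.even_iff, ea])]
  refine ⟨fun h => ?_, fun h => mem_supports.2 ⟨a, inCode_iff.1 h, rfl⟩⟩
  obtain ⟨m, hm, e⟩ := mem_supports.1 h
  rw [← maskSet_inj (lt_of_mem_codeList hm) ha e]
  exact inCode_iff.2 hm

theorem sv_congr {a b : ℕ} (ha : a < 2 ^ 24) (hb : b < 2 ^ 24) (ea : popCount a 24 % 2 = 0)
    (eb : popCount b 24 % 2 = 0) (h : inCode (a ^^^ b) = true) : Z.sv a = Z.sv b := by
  have e : popCount (a ^^^ b) 24 % 2 = 0 := by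
    rw [← card_maskSet, maskSet_xor ha hb, LargeFischer.Big.card_symmDiff_mod, card_maskSet, card_maskSet]
    omega
  have h1 := (Z.sv_eq_one (Nat.xor_lt_two_pow (n := 24) ha hb) e).2 h
  rw [Z.sv_xor ha hb ea eb, mul_eq_one_iff_eq_inv] at h1
  rw [h1, inv_eq_of_mul_eq_one_right (Z.sv_sq b)]

theorem imgMask_ok {e : Elt} (he : permOK e = true) {m : ℕ} (em : popCount m 24 % 2 = 0) :
    imgMask e m < 2 ^ 24 ∧ popCount (imgMask e m) 24 % 2 = 0 := by
  refine ⟨mkMask_lt _ _, ?_⟩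
  rw [← card_maskSet, ← maskSet_imgMask (permOK_iff.1 he).1, Finset.card_smul_finset, card_maskSet, em]

theorem psi_sv {e : Elt} (he : permOK e = true) {m : ℕ} (em : popCount m 24 % 2 = 0) :
    Z.psi (toM e) * Z.sv m * (Z.psi (toM e))⁻¹ = Z.sv (imgMask e m) := by
  have h := Z.D.eS_equiv ⟨_, Z.psi_mem (toM e)⟩ (maskSet m) (by rw [card_maskSet, Nat.even_iff, em])
  rw [Z.phi_psi] at h
  rw [sv, h, sv]
  congr 1
  rw [toM_val he, ← maskSet_imgMask (permOK_iff.1 he).1]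
  rfl

/-! ### The coordinates of the subgroup of order 1024 -/

/-- The element of a vector. -/
noncomputable def c (w : ℕ) : G := Z.sv (uMask w) * Z.psi (evM (eLab w))

theorem uMask_ok {w : ℕ} (hw : w < 1024) : uMask w < 2 ^ 24 ∧ popCount (uMask w) 24 % 2 = 0 :=
  ⟨(uMask_even w hw).2.1, (uMask_even w hw).1⟩

theorem ev_sv {x w : ℕ} (hx : x < 16) (hw : w < 1024) :
    Z.psi (evM x) * Z.sv (uMask w) * (Z.psi (evM x))⁻¹ = Z.sv (uMask w) := by
  refine Coord.bits_induct (N := 10) (p := fun w => Z.psi (evM x) * Z.sv (uMask w) * (Z.psi (evM x))⁻¹ = Z.sv (uMask w))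
    ?_ (fun i hi m hm ih => ?_) hw
  · have h : Z.sv (uMask 0) = 1 := (Z.sv_eq_one (uMask_ok (by norm_num)).1 (uMask_ok (by norm_num)).2).2 (by decide +kernel)
    rw [h]; group
  · have hi' : (2 : ℕ) ^ i < 1024 := lt_of_lt_of_le (Nat.pow_lt_pow_right (by norm_num) hi) (by norm_num)
    obtain ⟨h1, h2⟩ := uMask_ok hi'
    obtain ⟨h3, h4⟩ := uMask_ok (show m < 1024 by simpa using hm)
    have hev := (evElt_ok x hx).1
    obtain ⟨h5, h6⟩ := imgMask_ok hev h2
    have hbase : Z.psi (evM x) * Z.sv (uMask (2 ^ i)) * (Z.psi (evM x))⁻¹ = Z.sv (uMask (2 ^ i)) :=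
      (Z.psi_sv hev h2).trans (Z.sv_congr h5 h1 h6 h2 (ev_fix_u x hx i hi))
    rw [show uMask (2 ^ i ^^^ m) = uMask (2 ^ i) ^^^ uMask m from app_xor _ _ _, Z.sv_xor h1 h3 h2 h4]
    calc Z.psi (evM x) * (Z.sv (uMask (2 ^ i)) * Z.sv (uMask m)) * (Z.psi (evM x))⁻¹
        = (Z.psi (evM x) * Z.sv (uMask (2 ^ i)) * (Z.psi (evM x))⁻¹) *
            (Z.psi (evM x) * Z.sv (uMask m) * (Z.psi (evM x))⁻¹) := by group
      _ = _ := by rw [hbase, ih]

theorem ev_sv_comm {x w : ℕ} (hx : x < 16) (hw : w < 1024) :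
    Z.psi (evM x) * Z.sv (uMask w) = Z.sv (uMask w) * Z.psi (evM x) :=
  mul_inv_eq_iff_eq_mul.1 (Z.ev_sv hx hw)

theorem c_xor {a b : ℕ} (ha : a < 1024) (hb : b < 1024) : Z.c (a ^^^ b) = Z.c a * Z.c b := by
  obtain ⟨h1, h2⟩ := uMask_ok ha
  obtain ⟨h3, h4⟩ := uMask_ok hb
  rw [c, c, c, show uMask (a ^^^ b) = uMask a ^^^ uMask b from app_xor _ _ _,
    show eLab (a ^^^ b) = eLab a ^^^ eLab b from app_xor _ _ _, Z.sv_xor h1 h3 h2 h4,
    ← evM_mul (uMask_even a ha).2.2 (uMask_even b hb).2.2, map_mul]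
  simp only [← mul_assoc]
  rw [mul_assoc (Z.sv (uMask a)) (Z.sv (uMask b)), ← Z.ev_sv_comm (uMask_even a ha).2.2 hb, ← mul_assoc]

theorem c_comm {a b : ℕ} (ha : a < 1024) (hb : b < 1024) : Z.c a * Z.c b = Z.c b * Z.c a := by
  rw [← Z.c_xor ha hb, ← Z.c_xor hb ha, Nat.xor_comm]

theorem c_zero : Z.c 0 = 1 := by
  have h := Z.c_xor (show (0 : ℕ) < 1024 by norm_num) (show (0 : ℕ) < 1024 by norm_num)
  rw [Nat.xor_self] at h
  exact left_eq_mul.1 h

theorem c_sq {a : ℕ} (ha : a < 1024) : Z.c a * Z.c a = 1 := by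
  rw [← Z.c_xor ha ha, Nat.xor_self, Z.c_zero]

theorem phi_c {a : ℕ} (h : Z.c a ∈ normalizer (Z.V : Set G)) : Z.D.phi ⟨Z.c a, h⟩ = evM (eLab a) := by
  have hv : Z.D.phi ⟨Z.sv (uMask a), le_normalizer (Z.sv_mem _)⟩ = 1 := by
    rw [← MonoidHom.mem_ker, Z.D.phi_ker, mem_subgroupOf]
    exact Z.sv_mem _
  rw [show (⟨Z.c a, h⟩ : ↥(normalizer (Z.V : Set G))) = ⟨_, le_normalizer (Z.sv_mem (uMask a))⟩ *
    ⟨_, Z.psi_mem (evM (eLab a))⟩ from Subtype.ext rfl, map_mul, hv, Z.phi_psi, one_mul]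

theorem c_mem_N (a : ℕ) : Z.c a ∈ normalizer (Z.V : Set G) :=
  mul_mem (le_normalizer (Z.sv_mem _)) (Z.psi_mem _)

theorem c_eq_one {a : ℕ} (ha : a < 1024) (h : Z.c a = 1) : a = 0 := by
  have he : evM (eLab a) = evM 0 := by
    rw [evM_zero, ← Z.phi_c (Z.c_mem_N a), show (⟨Z.c a, Z.c_mem_N a⟩ : ↥(normalizer (Z.V : Set G))) = 1 from
      Subtype.ext h, map_one]
  have hl := evM_inj (uMask_even a ha).2.2 (by norm_num) he
  refine coord_inj a ha hl ((Z.sv_eq_one (uMask_ok ha).1 (uMask_ok ha).2).1 ?_)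
  rwa [c, hl, evM_zero, map_one, mul_one] at h

theorem c_inj {a b : ℕ} (ha : a < 1024) (hb : b < 1024) (h : Z.c a = Z.c b) : a = b := by
  refine Nat.xor_eq_zero_iff.1 (Z.c_eq_one (Nat.xor_lt_two_pow (n := 10) ha hb) ?_)
  rw [Z.c_xor ha hb, h, Z.c_sq hb]

/-- The subgroup of order 1024. -/
noncomputable def A : Subgroup G where
  carrier := {g | ∃ w < 1024, Z.c w = g}
  one_mem' := ⟨0, by norm_num, Z.c_zero⟩
  mul_mem' := by
    rintro _ _ ⟨a, ha, rfl⟩ ⟨b, hb, rfl⟩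
    exact ⟨a ^^^ b, Nat.xor_lt_two_pow (n := 10) ha hb, Z.c_xor ha hb⟩
  inv_mem' := by
    rintro _ ⟨a, ha, rfl⟩
    exact ⟨a, ha, (inv_eq_of_mul_eq_one_right (Z.c_sq ha)).symm⟩

theorem mem_A {g : G} : g ∈ Z.A ↔ ∃ w < 1024, Z.c w = g := Iff.rfl

theorem card_A : Nat.card ↥Z.A = 1024 := by
  let f : Fin 1024 → ↥Z.A := fun w => ⟨Z.c w, w.1, w.2, rfl⟩
  have hf : Function.Bijective f := ⟨fun a b h => Fin.ext (Z.c_inj a.2 b.2 (congrArg Subtype.val h)),
    fun ⟨g, w, hw, e⟩ => ⟨⟨w, hw⟩, Subtype.ext e⟩⟩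
  rw [← Nat.card_congr (Equiv.ofBijective f hf), Nat.card_fin]

theorem A_elem : Cfsg.IsElementaryAbelian 2 Z.A := by
  refine ⟨⟨⟨fun a b => Subtype.ext ?_⟩⟩, fun g hg => ?_⟩
  · obtain ⟨x, hx, e⟩ := a.2
    obtain ⟨y, hy, e'⟩ := b.2
    show (a : G) * b = b * a
    rw [← e, ← e', Z.c_comm hx hy]
  · obtain ⟨w, hw, rfl⟩ := hg
    rw [pow_two, Z.c_sq hw]

theorem c_eW {x : ℕ} (hx : x < 16) : Z.c (eW x) = Z.psi (evM x) := by
  obtain ⟨-, h1, h2⟩ := eW_spec x hx
  rw [c, h1, h2, (Z.sv_eq_one (by norm_num) (by decide +kernel)).2 (by decide +kernel), one_mul]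

theorem c_plane {x y : ℕ} (hx : x < 16) (hy : y < 16) (hx0 : x ≠ 0) (hy0 : y ≠ 0) (hxy : x ≠ y)
    (hlt : planeM x y < 2 ^ 24) : Z.c (wp x y) = Z.sv (planeM x y) := by
  obtain ⟨h0, h1, h2, h3, -⟩ := plane_spec x hx y hy hx0 hy0 hxy
  rw [c, h1, evM_zero, map_one, mul_one]
  exact (Z.sv_congr hlt (uMask_ok h0).1 (by rw [h3]) (uMask_ok h0).2 h2).symm

/-- The action of an element of the stabiliser of the octad. -/
theorem psi_acts {e : Elt} (he : permOK e = true) {C : List ℕ} (hC : colsOK e C = true) :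
    ∀ w < 1024, app C w < 1024 ∧ Z.psi (toM e) * Z.c w * (Z.psi (toM e))⁻¹ = Z.c (app C w) := by
  have hcol : ∀ i < 10, C.getD i 0 < 1024 ∧ inCode (imgMask e (uMask (2 ^ i)) ^^^ uMask (C.getD i 0)) = true ∧
      (mul 5 24 e (evElt (eLab (2 ^ i)))).1 = (mul 5 24 (evElt (eLab (C.getD i 0))) e).1 := fun i hi => by
    have h := List.all_eq_true.1 hC i (List.mem_range.2 hi)
    simp only [Bool.and_eq_true, Nat.blt_eq, Nat.beq_eq] at h
    exact ⟨h.1.1, h.1.2, h.2⟩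
  intro w hw
  refine Coord.bits_induct (N := 10)
    (p := fun w => app C w < 1024 ∧ Z.psi (toM e) * Z.c w * (Z.psi (toM e))⁻¹ = Z.c (app C w)) ?_
    (fun i hi m hm ih => ?_) hw
  · rw [J4Module.app_zero, Z.c_zero]
    exact ⟨by norm_num, by group⟩
  · obtain ⟨h1, h2, h3⟩ := hcol i hi
    have hi' : (2 : ℕ) ^ i < 1024 := lt_of_lt_of_le (Nat.pow_lt_pow_right (by norm_num) hi) (by norm_num)
    have hm' : m < 1024 := by simpa using hm
    obtain ⟨u1, u2⟩ := uMask_ok hi'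
    obtain ⟨v1, v2⟩ := uMask_ok h1
    obtain ⟨w1, w2⟩ := imgMask_ok he u2
    have hbase : Z.psi (toM e) * Z.c (2 ^ i) * (Z.psi (toM e))⁻¹ = Z.c (C.getD i 0) := by
      have hE : Z.psi (toM e) * Z.psi (evM (eLab (2 ^ i))) = Z.psi (evM (eLab (C.getD i 0))) * Z.psi (toM e) := by
        rw [← map_mul, ← map_mul]
        exact congrArg _ (toM_mul_eq_mul he (evElt_ok _ (uMask_even _ hi').2.2).1
          (evElt_ok _ (uMask_even _ h1).2.2).1 he h3)
      calc Z.psi (toM e) * Z.c (2 ^ i) * (Z.psi (toM e))⁻¹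
          = (Z.psi (toM e) * Z.sv (uMask (2 ^ i)) * (Z.psi (toM e))⁻¹) *
              (Z.psi (toM e) * Z.psi (evM (eLab (2 ^ i))) * (Z.psi (toM e))⁻¹) := by rw [c]; group
        _ = Z.sv (uMask (C.getD i 0)) * Z.psi (evM (eLab (C.getD i 0))) := by
            rw [Z.psi_sv he u2, Z.sv_congr w1 v1 w2 v2 h2, hE]; group
        _ = _ := rfl
    rw [app_xor, app_one_bit]
    refine ⟨Nat.xor_lt_two_pow (n := 10) h1 ih.1, ?_⟩
    rw [Z.c_xor hi' hm', Z.c_xor h1 ih.1]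
    calc Z.psi (toM e) * (Z.c (2 ^ i) * Z.c m) * (Z.psi (toM e))⁻¹
        = (Z.psi (toM e) * Z.c (2 ^ i) * (Z.psi (toM e))⁻¹) * (Z.psi (toM e) * Z.c m * (Z.psi (toM e))⁻¹) := by group
      _ = _ := by rw [hbase, ih.2]

end Sect

end Cfsg.Agent.JankoFour.Recog
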