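import Cfsg.Agent.Lib.JankoFour.Recog.Core
import Cfsg.Agent.Lib.JankoFour.Recog.CommChecks

/-!
The seven vectors of the sextets refining the standard trio and the transvections at the octad, modulo the largest
normal 2-subgroup of the centraliser of the standard transvection.
-/

set_option autoImplicit false
set_option linter.unusedSectionVars false
set_option maxRecDepth 100000

namespace Cfsg.Agent.JankoFour.Recog

open Subgroup
open Cfsg (GolayPt M24)
open Cfsg.Agent.Golay Cfsg.Agent.PermCert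
open Cfsg.Agent.J4Module (app)

/-- A product of coded permutations in the Mathieu group. -/
noncomputable def mList (L : List Elt) : ↥M24 := (L.map toM).prod

theorem mList_val : ∀ (L : List Elt), (∀ a ∈ L, permOK a = true) →
    ∃ σ : Equiv.Perm (Fin 24), Rep 5 (eltWord L) σ ∧ (mList L : Equiv.Perm GolayPt) = phi σ
  | [], _ => ⟨1, rep_one (by norm_num), by simp [mList]⟩
  | a :: L, h => by
    obtain ⟨σ, h1, h2⟩ := mList_val L fun b hb => h b (List.mem_cons_of_mem _ hb)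
    have ha := h a List.mem_cons_self
    refine ⟨toPerm 5 24 a * σ, rep_mul (rep_toPerm (permOK_iff.1 ha).1) h1, ?_⟩
    rw [show mList (a :: L) = toM a * mList L from List.prod_cons, Subgroup.coe_mul, h2, toM_val ha, permOf, map_mul]

/-- Words with the same code are equal in the Mathieu group. -/
theorem mList_eq {L L' : List Elt} (h : ∀ a ∈ L, permOK a = true) (h' : ∀ a ∈ L', permOK a = true)
    (e : (eltWord L).1 = (eltWord L').1) : mList L = mList L' := by
  obtain ⟨σ, h1, h2⟩ := mList_val L h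
  obtain ⟨σ', h1', h2'⟩ := mList_val L' h'
  exact Subtype.ext (by rw [h2, h2', rep_eq_code h1 h1' e])

variable {G : Type*} [Group G] [Finite G] {z : G}

/-- The rig framed at the standard transvection. -/
structure Framed (z : G) where
  X : Rig z
  gam_t : X.gam * X.tr 1 = X.tr 1 * X.gam
  K : Core (X.tr 1) X.gam

/-- A framed rig exists over any rig of a simple group of Janko-four type. -/
theorem exists_framed [IsSimpleGroup G] (hG : ¬ IsMulCommutative G) {P : Subgroup G}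
    (hJ : Cfsg.IsOfJankoFourTypeWith z P) (X : Rig z) : Nonempty (Framed z) := by
  have hS := sevenHyp hG hJ
  have hg := X.gam_tr_comm hS
  obtain ⟨⟨psg, -⟩, ⟨-, hgne⟩, -, hsne, -⟩ := perm_seven_three
  have okS := Rig.data_ok (part_b_mem elS (by simp))
  have hord : orderOf (X.Z.psi (toM elS.1)) = 7 := by
    have : Fact (Nat.Prime 7) := ⟨by norm_num⟩
    exact orderOf_eq_prime (by rw [← map_pow, toM_pow_one okS pow_checks.1, map_one]) (X.Z.psi_ne_one okS hsne)
  have hst : X.Z.psi (toM elS.1) * X.tr 1 = X.tr 1 * X.Z.psi (toM elS.1) :=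
    mul_inv_eq_iff_eq_mul.1 (X.conj_tr (part_b_mem elS (by simp)) (l := 1) (l' := 1) (by norm_num) (by norm_num)
      (part_b_conj elS (by simp)))
  have hsc : X.gam * X.Z.psi (toM elS.1) = X.Z.psi (toM elS.1) * X.gam := by
    rw [Rig.gam, ← map_mul, ← map_mul, toM_mul_eq_mul Rig.permGam_ok okS okS Rig.permGam_ok psg.symm]
  obtain ⟨K⟩ := exists_core hG hJ X.tr_one_conj (fun h => X.z_ne_one (isConj_one_left.1 (h ▸ X.tr_one_conj)))
    (X.tr_sq (by norm_num)) hord hst X.gam_cube (X.Z.psi_ne_one Rig.permGam_ok hgne) hg hsc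
  exact ⟨⟨X, hg, K⟩⟩

namespace Rig

variable (X : Rig z)

/-- The translation of a label. -/
noncomputable def tE (v : ℕ) : G := X.Z.c (eW v)

/-- The vector of a sextet in the group. -/
noncomputable def sx (j : ℕ) : G := X.Z.c (yW j)

theorem tr_ne_one {l : ℕ} (hl : l < 16) (hl0 : l ≠ 0) : X.tr l ≠ 1 := by
  intro h
  obtain ⟨i, hi⟩ := tau_moves l hl hl0
  have hi' : 2 ^ i.1 < 1024 := lt_of_lt_of_le (Nat.pow_lt_pow_right (by norm_num) i.2) (by norm_num)
  obtain ⟨h1, h2⟩ := X.tr_acts hl _ hi'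
  rw [h, one_mul, inv_one, mul_one] at h2
  exact hi (X.Z.c_inj h1 hi' h2.symm)

theorem tE_eq {v : ℕ} (hv : v < 16) : X.tE v = X.Z.psi (evM v) := X.Z.c_eW hv

theorem tE_sq {v : ℕ} (hv : v < 16) : X.tE v * X.tE v = 1 := X.Z.c_sq (eW_spec v hv).1

theorem sx_xor {i j : ℕ} (hi : i < 8) (hj : j < 8) : X.sx (i ^^^ j) = X.sx i * X.sx j := by
  rw [sx, (yW_ok i hi).2.2.2.2 j hj, X.Z.c_xor (yW_ok i hi).1 (yW_ok j hj).1]
  rfl

theorem sx_sq {j : ℕ} (hj : j < 8) : X.sx j * X.sx j = 1 := X.Z.c_sq (yW_ok j hj).1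

theorem sx_zero : X.sx 0 = 1 := by
  rw [sx, show yW 0 = 0 from rfl, X.Z.c_zero]

theorem sx_gam {j : ℕ} (hj : j < 8) : X.gam * X.sx j = X.sx j * X.gam := by
  obtain ⟨h1, h2, -, h4, -⟩ := yW_ok j hj
  obtain ⟨u1, u2⟩ := Sect.uMask_ok h1
  obtain ⟨v1, v2⟩ := Sect.imgMask_ok permGam_ok u2
  rw [sx, X.Z.c_sv h2]
  refine mul_inv_eq_iff_eq_mul.1 ?_
  rw [gam, X.Z.psi_sv permGam_ok u2]
  exact X.Z.sv_congr v1 u1 v2 u2 h4

/-- The commutator of a sextet and a functional is a translation. -/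
theorem tr_sx {j l : ℕ} (hj : j < 8) (hl : l < 16) : X.tr l * X.sx j * X.tr l = X.sx j * X.tE (yLab j l) := by
  obtain ⟨h1, h2, -, h4⟩ := yLab_ok.1 j hj l hl
  have e := (X.tr_acts hl _ (yW_ok j hj).1).2
  rw [h1, X.Z.c_xor (yW_ok j hj).1 (eW_spec _ h2).1, X.tr_inv hl] at e
  exact e

theorem sx_t1 {j : ℕ} (hj : j < 8) : X.tr 1 * X.sx j = X.sx j * X.tr 1 := by
  have e := (X.tr_acts (show 1 < 16 by norm_num) _ (yW_ok j hj).1).2
  rw [yLab_ok.2.2 j hj] at e
  exact mul_inv_eq_iff_eq_mul.1 e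

/-- The powers of the element of order seven in the complement. -/
theorem sPow_spec (k : ℕ) : X.Z.psi (toM elS.1) ^ k ∈ X.R ∧ X.Z.Acts (X.Z.psi (toM elS.1) ^ k) (sPow k) := by
  obtain ⟨-, -, h3, h4, h5⟩ := X.data (data_of_mem (part_b_mem elS (by simp)))
  rw [split_conj.2.2.1, eW_zero, X.Z.c_zero, one_mul] at h5
  rw [h5]
  induction k with
  | zero => rw [pow_zero]; exact ⟨one_mem _, X.Z.acts_one⟩
  | succ k ih => rw [pow_succ']; exact ⟨mul_mem h3 ih.1, X.Z.acts_mul h4 ih.2⟩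

theorem psi_gam {a : Elt} (ha : permOK a = true) (h : (mul 5 24 permGam a).1 = (mul 5 24 a permGam).1) :
    X.gam * X.Z.psi (toM a) = X.Z.psi (toM a) * X.gam := by
  rw [gam, ← map_mul, ← map_mul, toM_mul_eq_mul permGam_ok ha ha permGam_ok h]

end Rig

namespace Framed

variable (F : Framed z)

theorem t_ne_one : F.X.tr 1 ≠ 1 := F.X.tr_ne_one (by norm_num) (by norm_num)

theorem tr_cent {l : ℕ} (hl : l < 16) : F.X.tr l * F.X.tr 1 = F.X.tr 1 * F.X.tr l :=
  F.X.tr_comm hl (by norm_num)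

theorem tE_cent {v : ℕ} (hv : v < 16) : F.X.tE v * F.X.tr 1 = F.X.tr 1 * F.X.tE v :=
  (F.X.tr_eW (by norm_num) hv).symm

/-- The translations of even label lie in the normal 2-subgroup. -/
theorem tE_mem {v : ℕ} (hv : v < 16) (he : v % 2 = 0) : F.X.tE v ∈ F.K.Q := by
  set γ := F.X.gam
  set e := F.X.tE v
  have hγ3 : γ * γ * γ = 1 := F.X.gam_cube
  have hγi : γ⁻¹ = γ * γ := inv_eq_of_mul_eq_one_right (by rw [← mul_assoc, hγ3])
  have hrel : e * γ * e = γ * γ * e * γ * γ := by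
    have hev := (evElt_ok v hv).1
    have hok : ∀ a ∈ [evElt v, permGam], permOK a = true := by simp [hev, Rig.permGam_ok]
    obtain ⟨a, ha, va⟩ := mList_val [evElt v, permGam, evElt v] fun c hc => hok c (by simp at hc ⊢; tauto)
    obtain ⟨b, hb, vb⟩ := mList_val [permGam, permGam, evElt v, permGam, permGam] fun c hc =>
      hok c (by simp at hc ⊢; tauto)
    have hE := rep_toPerm (permOK_iff.1 hev).1
    have hP := rep_toPerm (permOK_iff.1 Rig.permGam_ok).1
    have h1 : Rep 5 (n := 24) (one 5 24) 1 := rep_one (by norm_num)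
    have hcode := rep_eq_code (rep_mul (rep_mul hE (rep_mul hP hE)) h1)
      (rep_mul (rep_mul (rep_mul hP hP) hE) (rep_mul hP (rep_mul hP h1))) (even_evB v hv he)
    have h : mList [evElt v, permGam, evElt v] = mList [permGam, permGam, evElt v, permGam, permGam] := by
      refine Subtype.ext ?_
      rw [va, vb, rep_unique ha (rep_mul hE (rep_mul hP (rep_mul hE h1))),
        rep_unique hb (rep_mul hP (rep_mul hP (rep_mul hE (rep_mul hP (rep_mul hP h1)))))]
      simp only [mul_one, mul_assoc] at hcode ⊢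
      rw [hcode]
    have h' := congrArg F.X.Z.psi h
    simp only [mList, List.map_cons, List.map_nil, List.prod_cons, List.prod_nil, mul_one, map_mul] at h'
    simp only [e, γ, F.X.tE_eq hv, Rig.gam, evM, mul_assoc]
    exact h'
  have he2 : e * e = 1 := F.X.tE_sq hv
  have hgt : Commute γ (F.X.tr 1) := F.gam_t
  have het : Commute e (F.X.tr 1) := F.tE_cent hv
  obtain ⟨x, hx⟩ : ∃ x, x = γ * e * (γ * γ) := ⟨_, rfl⟩
  have hxt : x * F.X.tr 1 = F.X.tr 1 * x := hx ▸ ((hgt.mul_left het).mul_left (hgt.mul_left hgt)).eq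
  have hxx : x * x = 1 := by
    calc x * x = γ * e * (γ * γ * γ) * e * (γ * γ) := by rw [hx]; simp only [mul_assoc]
      _ = γ * (e * e) * (γ * γ) := by rw [hγ3]; simp only [mul_one, mul_assoc]
      _ = 1 := by rw [he2, mul_one, ← mul_assoc, hγ3]
  have hxi : x⁻¹ = x := inv_eq_of_mul_eq_one_right hxx
  have hex : e = γ * x * (γ * γ) * x := by
    calc e = e * (γ * γ * γ) := by rw [hγ3, mul_one]
      _ = e * γ * (e * e) * (γ * γ) := by rw [he2]; simp only [mul_one, mul_assoc]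
      _ = (e * γ * e) * e * (γ * γ) := by simp only [mul_assoc]
      _ = (γ * γ * e * γ * γ) * (γ * γ * γ) * (e * (γ * γ)) := by rw [hrel, hγ3]; simp only [mul_one, mul_assoc]
      _ = _ := by rw [hx]; simp only [mul_assoc]
  rcases F.K.move x hxt with h | h
  · have hc := F.K.normal _ hgt.eq _ h
    rwa [show γ * (γ⁻¹ * (x * γ * x⁻¹)) * γ⁻¹ = (γ * x * γ⁻¹ * x⁻¹)⁻¹ by group, hγi, hxi, ← hex,
      inv_mem_iff] at hc
  · exfalso
    set q := ((γ * γ)⁻¹ * (x * γ * x⁻¹))⁻¹ with hq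
    have hqQ : q ∈ F.K.Q := inv_mem h
    have hq' := F.K.normal _ hgt.eq _ hqQ
    set q' := γ * q * γ⁻¹ with hq'def
    have hgg : γ * γ = q'⁻¹ * e := by
      rw [eq_inv_mul_iff_mul_eq, hq'def, hq]
      calc γ * ((γ * γ)⁻¹ * (x * γ * x⁻¹))⁻¹ * γ⁻¹ * (γ * γ) = γ * x * γ⁻¹ * x⁻¹ * γ ^ 3 := by group
        _ = e := by rw [pow_succ, pow_two, hγ3, mul_one, hγi, hxi, ← hex]
    have hγQ : γ ∈ F.K.Q := by
      have e4 : γ = q'⁻¹ * (e * q'⁻¹ * e⁻¹) := by
        calc γ = γ * (γ * γ * γ) := by rw [hγ3, mul_one]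
          _ = γ * γ * (γ * γ) := by simp only [mul_assoc]
          _ = q'⁻¹ * e * (q'⁻¹ * e) := by rw [hgg]
          _ = _ := by rw [inv_eq_of_mul_eq_one_right he2]; simp only [mul_assoc]
      rw [e4]
      exact mul_mem (inv_mem hq') (F.K.normal _ het.eq _ (inv_mem hq'))
    have h4 := F.K.pow_four _ hγQ
    rw [show γ * γ * (γ * γ) = γ * γ * γ * γ by group, hγ3, one_mul] at h4
    exact F.X.Z.psi_ne_one Rig.permGam_ok perm_seven_three.2.1.2 h4

/-- A non-trivial sextet vector is outside the normal 2-subgroup. -/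
theorem sx_mem {j : ℕ} (hj : j < 8) (h : F.X.sx j ∈ F.K.Q) : j = 0 := by
  rcases F.K.fixed _ h (F.X.sx_gam hj).symm with e | e
  · exact (yW_ok j hj).2.2.1 (F.X.Z.c_eq_one (yW_ok j hj).1 e)
  · exfalso
    refine F.t_ne_one ?_
    have h1 : F.X.tr 1 ∈ F.X.R ⊓ F.X.Z.A := mem_inf.2 ⟨F.X.tr_mem (by norm_num), ⟨yW j, (yW_ok j hj).1, e⟩⟩
    rwa [F.X.R_inf, mem_bot] at h1

/-- The powers of the element of order seven are in the centraliser. -/
theorem sPow_cent (k : ℕ) :
    F.X.Z.psi (toM elS.1) ^ k * F.X.tr 1 = F.X.tr 1 * F.X.Z.psi (toM elS.1) ^ k :=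
  ((show Commute (F.X.Z.psi (toM elS.1)) (F.X.tr 1) from mul_inv_eq_iff_eq_mul.1
    (F.X.conj_tr (part_b_mem elS (by simp)) (l := 1) (l' := 1) (by norm_num) (by norm_num)
      (part_b_conj elS (by simp)))).pow_left k).eq

/-- One functional in the normal 2-subgroup puts all of them there. -/
theorem tr_all {a b : ℕ} (ha : a < 16) (hb : b < 16) (ha2 : a % 2 = 0) (hb2 : b % 2 = 0) (ha0 : a ≠ 0) (hb0 : b ≠ 0)
    (h : F.X.tr a ∈ F.K.Q) : F.X.tr b ∈ F.K.Q := by
  have hs := sReach_ok a ha b hb ha2 hb2 ha0 hb0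
  simp only [sReach, List.any_eq_true, List.mem_range, Bool.or_eq_true] at hs
  obtain ⟨k, -, hk⟩ := hs
  obtain ⟨hR, hA⟩ := F.X.sPow_spec k
  have hc := F.K.normal _ (F.sPow_cent k) _ h
  rcases hk with hk | hk
  · rwa [F.X.conj_R hR hA ha hb hk] at hc
  · have hb' : b ^^^ 1 < 16 := Nat.xor_lt_two_pow (n := 4) hb (by norm_num)
    rw [F.X.conj_R hR hA ha hb' hk] at hc
    have := mul_mem hc F.K.t_mem
    rwa [F.X.tr_xor hb' (by norm_num), Nat.xor_assoc, Nat.xor_self, Nat.xor_zero] at this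

end Framed

end Cfsg.Agent.JankoFour.Recog
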