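import Cfsg.Agent.Lib.JankoFour.Recog.Independent

/-!
The commutator of the transvections of two octads of the standard trio: the square of the product of one of each is
the translation of the third octad times the standard transvection.
-/

set_option autoImplicit false
set_option linter.unusedSectionVars false
set_option maxRecDepth 100000

namespace Cfsg.Agent.JankoFour.Recog

open Subgroup
open Cfsg (GolayPt M24)
open Cfsg.Agent.Golay Cfsg.Agent.PermCert
open Cfsg.Agent.J4Module (app)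

theorem cycle_two : (eltWord [evElt 2, permGam, evElt 2]).1 =
    (eltWord [permGam, permGam, evElt 2, permGam, permGam]).1 := by decide +kernel

/-- The abstract congruence. -/
theorem square_abstract {G : Type*} [Group G] {t y s b b' e e' : G} (hs : s * s = 1) (hy : y * y = 1)
    (hb : b * b = 1) (hb' : b' * b' = 1) (he : e * e = 1) (hyb : b * y * b = y * e) (hyb' : b' * y * b' = y * e')
    (hsb : s * b = b * s) (hyt : y * t = t * y) (hbt : b * t = t * b) (he't : e' * t = t * e')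
    (hcom : y * s * (b * b') * (y * s)⁻¹ * (b * b')⁻¹ = 1 ∨ y * s * (b * b') * (y * s)⁻¹ * (b * b')⁻¹ = t) :
    s * b' * (s * b') = e * e' ∨ s * b' * (s * b') = e * e' * t := by
  set r := b * b' with hr
  set w := y * s * r * (y * s)⁻¹ * r⁻¹ with hw
  have yi : y⁻¹ = y := inv_eq_of_mul_eq_one_right hy
  have si : s⁻¹ = s := inv_eq_of_mul_eq_one_right hs
  have bi : b⁻¹ = b := inv_eq_of_mul_eq_one_right hb
  have b'i : b'⁻¹ = b' := inv_eq_of_mul_eq_one_right hb'
  have hbr : b' = b * r := by rw [hr, ← mul_assoc, hb, one_mul]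
  have hrb : b' = r⁻¹ * b := by rw [hr, _root_.mul_inv_rev, b'i, bi, mul_assoc, hb, mul_one]
  have hK : y * s * b * (y * s)⁻¹ * b = e := by
    calc y * s * b * (y * s)⁻¹ * b = y * (s * b) * s * y * b := by rw [_root_.mul_inv_rev, si, yi]; group
      _ = y * b * (s * s) * y * b := by rw [hsb]; group
      _ = y * (b * y * b) := by rw [hs, mul_one]; group
      _ = e := by rw [hyb, ← mul_assoc, hy, one_mul]
  have hK' : y * s * b' * (y * s)⁻¹ * b' = e * (b * w * b) := by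
    calc y * s * b' * (y * s)⁻¹ * b' = y * s * (b * r) * (y * s)⁻¹ * (r⁻¹ * b) := by rw [← hbr, ← hrb]
      _ = (y * s * b * (y * s)⁻¹ * b) * (b⁻¹ * (y * s * r * (y * s)⁻¹ * r⁻¹) * b) := by group
      _ = _ := by rw [hK, bi]
  have hyey : y * e * y = e := by
    have h : e = y * (b * y * b) := by rw [hyb, ← mul_assoc, hy, one_mul]
    calc y * e * y = (y * y) * (b * y * b) * y := by rw [h]; group
      _ = e⁻¹ := by rw [hy, one_mul, h]; simp only [_root_.mul_inv_rev, yi, bi, mul_assoc]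
      _ = e := inv_eq_of_mul_eq_one_right he
  have main : s * b' * (s * b') = e * (y * (b * w * b) * y) * e' := by
    calc s * b' * (s * b') = y * y * s * b' * (s * (y * y)) * b' := by rw [hy, one_mul, mul_one]; group
      _ = y * (y * s * b' * (y * s)⁻¹ * b') * (b' * y * b') := by
        rw [_root_.mul_inv_rev, si, yi]
        calc y * y * s * b' * (s * (y * y)) * b' = y * (y * s * b' * (s * y) * (b' * b') * y) * b' := by
              rw [hb', mul_one]; group
          _ = _ := by group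
      _ = y * e * (y * y) * (b * w * b) * (y * e') := by rw [hK', hyb', hy, mul_one]; group
      _ = (y * e * y) * (y * (b * w * b) * y) * e' := by group
      _ = _ := by rw [hyey]
  rcases hcom with h | h
  · left
    rw [main, h, mul_one, hb, mul_one, hy, mul_one]
  · right
    rw [main, h, hbt, mul_assoc t b b, hb, mul_one, hyt, mul_assoc t y y, hy, mul_one, mul_assoc, ← he't, ← mul_assoc]

variable {G : Type*} [Group G] [Finite G] {z : G}

namespace Framed

variable (F : Framed z)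

/-- A functional off the standard one is a sextet vector modulo the normal 2-subgroup. -/
theorem pair_mem {a : ℕ} (ha : a ∈ [8, 10, 6, 12]) : F.X.sx (a / 2) * F.X.tr a ∈ F.K.Q := by
  obtain ⟨q, hq, rfl⟩ : ∃ q ∈ fixPairs, q.1 = a := by
    simp only [List.mem_cons, List.not_mem_nil, or_false] at ha
    rcases ha with rfl | rfl | rfl | rfl
    exacts [⟨(8, elFp80, elFp81), by simp [fixPairs], rfl⟩, ⟨(10, elFp100, elFp101), by simp [fixPairs], rfl⟩,
      ⟨(6, elFp60, elFp61), by simp [fixPairs], rfl⟩, ⟨(12, elFp130, elFp131), by simp [fixPairs], rfl⟩]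
  obtain ⟨hl, hev, h0, hfix, huniq⟩ := fixPairs_ok q hq
  set a := q.1
  let f : ℕ → G := fun n => F.X.sx (n % 8) * F.X.tr (2 * (n / 8))
  have b8 : ∀ n : ℕ, n % 8 < 8 := fun n => Nat.mod_lt _ (by norm_num)
  have b16 : ∀ n < 64, 2 * (n / 8) < 16 := fun n hn => by omega
  obtain ⟨n, hn, hn0, hmem⟩ := F.K.rank f
    (fun n hn => by
      have h1 : Commute (F.X.sx (n % 8)) (F.X.tr 1) := (F.X.sx_t1 (b8 n)).symm
      exact (h1.mul_left (F.tr_cent (b16 n hn))).eq)
    (fun m hm n hn => by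
      obtain ⟨e1, e2, e3⟩ := code64 m hm n hn
      obtain ⟨-, hv, hv2, -⟩ := yLab_ok.1 (n % 8) (b8 n) (2 * (m / 8)) (b16 m hm)
      have hE := F.tE_mem hv hv2
      show (F.X.sx ((m ^^^ n) % 8) * F.X.tr (2 * ((m ^^^ n) / 8)))⁻¹ *
        (F.X.sx (m % 8) * F.X.tr (2 * (m / 8)) * (F.X.sx (n % 8) * F.X.tr (2 * (n / 8)))) ∈ F.K.Q
      rw [e1, e2, e3, F.X.sx_xor (b8 m) (b8 n), ← F.X.tr_xor (b16 m hm) (b16 n hn)]
      have hts := F.X.tr_sx (b8 n) (b16 m hm)
      have hte := F.X.tr_eW (b16 n hn) hv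
      set A := F.X.sx (m % 8)
      set B := F.X.sx (n % 8)
      set C := F.X.tr (2 * (m / 8))
      set D := F.X.tr (2 * (n / 8))
      set E := F.X.tE (yLab (n % 8) (2 * (m / 8)))
      have hC : C * C = 1 := F.X.tr_sq (b16 m hm)
      have hD : D⁻¹ = D := F.X.tr_inv (b16 n hn)
      have e : (A * B * (C * D))⁻¹ * (A * C * (B * D)) = E := by
        calc (A * B * (C * D))⁻¹ * (A * C * (B * D)) = D⁻¹ * C⁻¹ * B⁻¹ * (C * B * C) * C⁻¹ * D := by group
          _ = D * C⁻¹ * E * C⁻¹ * D := by rw [hts, hD]; group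
          _ = D * (C⁻¹ * C⁻¹) * E * D := by
            have hce : Commute E C := (F.X.tr_eW (b16 m hm) hv).symm
            rw [show D * C⁻¹ * E * C⁻¹ * D = D * C⁻¹ * (E * C⁻¹) * D by group, hce.inv_right.eq]
            group
          _ = D * E * D := by rw [← _root_.mul_inv_rev, hC, inv_one, mul_one]
          _ = E := by
            rw [show D * E = E * D from hte, mul_assoc, F.X.tr_sq (b16 n hn), mul_one]
      rw [e]
      exact hE)
  set j := n % 8 with hj
  set c := 2 * (n / 8) with hc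
  have hj8 : j < 8 := b8 n
  have hc16 : c < 16 := b16 n hn
  have hc0 : c ≠ 0 := by
    intro h
    have hmem' : F.X.sx j * F.X.tr c ∈ F.K.Q := hmem
    rw [h, F.X.tr_zero, mul_one] at hmem'
    have := F.sx_mem hj8 hmem'
    omega
  -- move to the wanted functional
  have hs := sReach_ok c hc16 a hl (by omega) hev hc0 h0
  simp only [sReach, List.any_eq_true, List.mem_range, Bool.or_eq_true] at hs
  obtain ⟨k, hk7, hk⟩ := hs
  obtain ⟨hR, hA⟩ := F.X.sPow_spec k
  obtain ⟨i, hi, hyi⟩ := sPow_y k hk7 j hj8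
  have hs' := F.K.normal _ (F.sPow_cent k) _ (show F.X.sx j * F.X.tr c ∈ F.K.Q from hmem)
  have hconj : F.X.Z.psi (toM elS.1) ^ k * F.X.sx j * (F.X.Z.psi (toM elS.1) ^ k)⁻¹ = F.X.sx i := by
    rw [Rig.sx, (hA _ (yW_ok j hj8).1).2, hyi]; rfl
  have hin : F.X.sx i * F.X.tr a ∈ F.K.Q := by
    have e : ∀ u : G, F.X.Z.psi (toM elS.1) ^ k * F.X.tr c * (F.X.Z.psi (toM elS.1) ^ k)⁻¹ = u →
        F.X.sx i * u ∈ F.K.Q := fun u hu => by
      rw [← hu, ← hconj]
      convert hs' using 1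
      group
    rcases hk with hk | hk
    · exact e _ (F.X.conj_R hR hA hc16 hl hk)
    · have ha' : a ^^^ 1 < 16 := Nat.xor_lt_two_pow (n := 4) hl (by norm_num)
      have h1 := mul_mem (e _ (F.X.conj_R hR hA hc16 ha' hk)) F.K.t_mem
      rwa [mul_assoc, F.X.tr_xor ha' (by norm_num), Nat.xor_assoc, Nat.xor_self, Nat.xor_zero] at h1
  have hi0 : i ≠ 0 := by
    intro h
    rw [h, F.X.sx_zero, one_mul] at hin
    exact F.tr_not_mem hl hev h0 hin
  have fixy : ∀ d ∈ [q.2.1, q.2.2], app d.2.2.2 (yW i) = yW i := by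
    intro d hd
    obtain ⟨hmem, hca, hc1⟩ := hfix d hd
    obtain ⟨i', hi', he⟩ := fixPairs_y q hq d hd i hi
    obtain ⟨-, hacts, -⟩ := F.X.data (Rig.data_of_mem hmem)
    set g := F.X.Z.psi (toM d.1)
    have hg1 : g * F.X.tr 1 = F.X.tr 1 * g :=
      mul_inv_eq_iff_eq_mul.1 (F.X.conj_tr hmem (by norm_num) (by norm_num) hc1)
    have h2 := F.K.normal g hg1 _ hin
    have e : g * (F.X.sx i * F.X.tr a) * g⁻¹ = F.X.sx i' * F.X.tr a := by
      calc g * (F.X.sx i * F.X.tr a) * g⁻¹ = (g * F.X.sx i * g⁻¹) * (g * F.X.tr a * g⁻¹) := by group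
        _ = _ := by rw [F.X.conj_tr hmem hl hl hca, Rig.sx, (hacts _ (yW_ok i hi).1).2, he]; rfl
    rw [e] at h2
    have h3 := mul_mem h2 (inv_mem hin)
    rw [show F.X.sx i' * F.X.tr a * (F.X.sx i * F.X.tr a)⁻¹ = F.X.sx i' * (F.X.sx i)⁻¹ by group,
      inv_eq_of_mul_eq_one_right (F.X.sx_sq hi), ← F.X.sx_xor hi' hi] at h3
    have := F.sx_mem (Nat.xor_lt_two_pow (n := 3) hi' hi) h3
    rw [he, Nat.xor_eq_zero_iff.1 this]
  rcases huniq i hi (fixy _ List.mem_cons_self) (fixy _ (List.mem_cons_of_mem _ List.mem_cons_self)) with h | h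
  · exact absurd h hi0
  · exact h ▸ hin

/-- **The commutator of the transvections of two octads.** -/
theorem square_rel : F.X.tr 8 * F.tg 13 * (F.X.tr 8 * F.tg 13) =
    F.X.gam * F.X.gam * F.X.tE 2 * (F.X.gam * F.X.gam)⁻¹ * F.X.tr 1 := by
  have hgt : Commute F.X.gam (F.X.tr 1) := F.gam_t
  have hγ3 := F.X.gam_cube
  have hE : ∀ v < 16, Commute (F.X.tE v) (F.X.tr 1) := fun v hv => F.tE_cent hv
  obtain ⟨f, hf⟩ : ∃ f : ℕ → G, f = fun v => F.X.gam * F.X.gam * F.X.tE v * (F.X.gam * F.X.gam)⁻¹ := ⟨_, rfl⟩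
  obtain ⟨c, hc⟩ : ∃ c : ℕ → G, c = fun b => F.X.tr 8 * F.tg b * (F.X.tr 8 * F.tg b) := ⟨_, rfl⟩
  show F.X.tr 8 * F.tg 13 * (F.X.tr 8 * F.tg 13) = _
  rw [show F.X.tr 8 * F.tg 13 * (F.X.tr 8 * F.tg 13) = c 13 by rw [hc],
    show F.X.gam * F.X.gam * F.X.tE 2 * (F.X.gam * F.X.gam)⁻¹ = f 2 by rw [hf]]
  have hcases : c 13 = f 2 ∨ c 13 = f 2 * F.X.tr 1 := by
    set b := F.X.tr 13 with hb
    set b' := F.tg 13 with hb'
    set y := F.X.sx 4 with hy
    have hyg : F.X.gam * y = y * F.X.gam := F.X.sx_gam (by norm_num)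
    have hts := F.X.tr_sx (show 4 < 8 by norm_num) (show 13 < 16 by norm_num)
    rw [yLab_ok.2.1] at hts
    have hrel : F.X.tE 2 * (F.X.gam * F.X.tE 2 * F.X.gam⁻¹) = f 2 := by
      have h := congrArg F.X.Z.psi (mList_eq (L := [evElt 2, permGam, evElt 2])
        (L' := [permGam, permGam, evElt 2, permGam, permGam]) (by simp [(evElt_ok 2 (by norm_num)).1, Rig.permGam_ok])
        (by simp [(evElt_ok 2 (by norm_num)).1, Rig.permGam_ok]) cycle_two)
      simp only [mList, List.map_cons, List.map_nil, List.prod_cons, List.prod_nil, mul_one, map_mul] at h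
      have h' : F.X.tE 2 * F.X.gam * F.X.tE 2 = F.X.gam * F.X.gam * F.X.tE 2 * (F.X.gam * F.X.gam) := by
        rw [F.X.tE_eq (by norm_num), evM, Rig.gam]
        simp only [mul_assoc]
        exact h
      calc F.X.tE 2 * (F.X.gam * F.X.tE 2 * F.X.gam⁻¹) = F.X.tE 2 * F.X.gam * F.X.tE 2 * F.X.gam⁻¹ := by group
        _ = F.X.gam * F.X.gam * F.X.tE 2 * F.X.gam := by rw [h']; group
        _ = _ := by
          rw [hf]
          show _ = F.X.gam * F.X.gam * F.X.tE 2 * (F.X.gam * F.X.gam)⁻¹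
          rw [inv_eq_of_mul_eq_one_right (show F.X.gam * F.X.gam * F.X.gam = 1 from hγ3)]
    have hb2 : b' * y * b' = y * (F.X.gam * F.X.tE 2 * F.X.gam⁻¹) := by
      have hy' : F.X.gam * y * F.X.gam⁻¹ = y := by rw [hyg, mul_inv_cancel_right]
      calc b' * y * b' = b' * (F.X.gam * y * F.X.gam⁻¹) * b' := by rw [hy']
        _ = F.X.gam * (b * y * b) * F.X.gam⁻¹ := by rw [hb', tg, hb]; group
        _ = (F.X.gam * y * F.X.gam⁻¹) * (F.X.gam * F.X.tE 2 * F.X.gam⁻¹) := by rw [hts]; group; rfl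
        _ = _ := by rw [hy']
    have h13 : y * F.X.tr 8 ∈ F.K.Q := F.pair_mem (a := 8) (by simp)
    have h12 : F.X.sx 6 * F.X.tr 12 ∈ F.K.Q := F.pair_mem (a := 12) (by simp)
    have hr : b * b' ∈ F.K.Q := by
      have e13 : b = F.X.tr 12 * F.X.tr 1 := by rw [hb, F.X.tr_xor (by norm_num) (by norm_num)]; rfl
      have h1 : F.X.sx 6 * b ∈ F.K.Q := by rw [e13, ← mul_assoc]; exact mul_mem h12 F.K.t_mem
      have h2 := F.K.normal _ F.gam_t _ h1
      have h3 := mul_mem (inv_mem h1) h2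
      have hy6 : F.X.gam * F.X.sx 6 * F.X.gam⁻¹ = F.X.sx 6 := by
        rw [F.X.sx_gam (by norm_num), mul_inv_cancel_right]
      rwa [show F.X.gam * (F.X.sx 6 * b) * F.X.gam⁻¹ = (F.X.gam * F.X.sx 6 * F.X.gam⁻¹) * b' by
          rw [hb', tg, hb]; group, hy6,
        show (F.X.sx 6 * b)⁻¹ * (F.X.sx 6 * b') = b⁻¹ * b' by group,
        show b⁻¹ = b from F.X.tr_inv (by norm_num)] at h3
    have habs := square_abstract (t := F.X.tr 1) (y := y) (s := F.X.tr 8) (b := b) (b' := b') (e := F.X.tE 2)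
      (e' := F.X.gam * F.X.tE 2 * F.X.gam⁻¹) (F.X.tr_sq (by norm_num)) (F.X.sx_sq (by norm_num))
      (F.X.tr_sq (by norm_num)) (F.tg_sq (by norm_num)) (F.X.tE_sq (by norm_num)) hts hb2
      (F.X.tr_comm (by norm_num) (by norm_num)) (F.X.sx_t1 (by norm_num)).symm (F.tr_cent (by norm_num))
      ((hgt.mul_left (hE 2 (by norm_num))).mul_left hgt.inv_left).eq (F.K.comm _ h13 _ hr)
    rw [hrel] at habs
    rw [hc]
    exact habs
  refine hcases.resolve_left fun h13 => ?_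
  -- with the other sign a translation would fix a functional it moves
  obtain ⟨-, hg10, hg6, hp10, hp6, hff⟩ := comm_perms
  obtain ⟨-, -, -, m108, m1013, m101, m68, m613, m61, hf10⟩ := comm_conj
  have moved : ∀ (d : SData) (b v : ℕ), d ∈ allData → (mul 5 24 permGam d.1).1 = (mul 5 24 d.1 permGam).1 → b < 16 →
      v < 16 → conjB d.2.2.2 8 8 = true → conjB d.2.2.2 13 b = true →
      (mul 5 24 d.1 (evElt 2)).1 = (mul 5 24 (evElt v) d.1).1 → c b = f v := by
    intro d b v hd hcg hb hv h8 hb13 hpv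
    have ok := Rig.data_ok hd
    set m := F.X.Z.psi (toM d.1)
    have hm : F.X.gam * m = m * F.X.gam := F.X.psi_gam ok hcg
    have e8 := F.X.conj_tr hd (by norm_num) (by norm_num) h8
    have eb := F.conj_tg hm (F.X.conj_tr hd (by norm_num) hb hb13)
    have ev : m * F.X.tE 2 * m⁻¹ = F.X.tE v := by
      rw [mul_inv_eq_iff_eq_mul, F.X.tE_eq (by norm_num), F.X.tE_eq hv, evM, evM, ← map_mul, ← map_mul,
        toM_mul_eq_mul ok (evElt_ok 2 (by norm_num)).1 (evElt_ok v hv).1 ok hpv]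
    have hmγ : Commute m (F.X.gam * F.X.gam) := (show Commute m F.X.gam from hm.symm).mul_right hm.symm
    have h1 : m * c 13 * m⁻¹ = c b := by
      rw [hc]
      show m * (F.X.tr 8 * F.tg 13 * (F.X.tr 8 * F.tg 13)) * m⁻¹ = _
      calc m * (F.X.tr 8 * F.tg 13 * (F.X.tr 8 * F.tg 13)) * m⁻¹ =
          (m * F.X.tr 8 * m⁻¹) * (m * F.tg 13 * m⁻¹) * ((m * F.X.tr 8 * m⁻¹) * (m * F.tg 13 * m⁻¹)) := by group
        _ = _ := by rw [e8, eb]
    rw [← h1, h13, hf]
    show m * (F.X.gam * F.X.gam * F.X.tE 2 * (F.X.gam * F.X.gam)⁻¹) * m⁻¹ =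
      F.X.gam * F.X.gam * F.X.tE v * (F.X.gam * F.X.gam)⁻¹
    rw [← ev]
    calc m * (F.X.gam * F.X.gam * F.X.tE 2 * (F.X.gam * F.X.gam)⁻¹) * m⁻¹
        = (m * (F.X.gam * F.X.gam)) * F.X.tE 2 * (m * (F.X.gam * F.X.gam))⁻¹ := by group
      _ = ((F.X.gam * F.X.gam) * m) * F.X.tE 2 * ((F.X.gam * F.X.gam) * m)⁻¹ := by rw [hmγ.eq]
      _ = _ := by group
  have c10 : c 10 = f 4 := moved elM10 10 4 (comm_mem _ (by simp)) hg10 (by norm_num) (by norm_num) m108 m1013 hp10
  have c6 : c 6 = f 6 := moved elM6 6 6 (comm_mem _ (by simp)) hg6 (by norm_num) (by norm_num) m68 m613 hp6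
  have hz : ∀ l < 16, Commute (F.X.tr 1) (F.X.tr l) := fun l hl => (F.tr_cent hl).symm
  have c12 : c 12 = f 2 := by
    have h : F.tg 12 = F.tg 13 * F.X.tr 1 := by
      rw [← F.tg_one, ← F.tg_xor (by norm_num) (by norm_num)]; rfl
    have htg : Commute (F.X.tr 1) (F.tg 13) := (F.tg_cent (by norm_num)).symm
    rw [← h13, hc]
    show F.X.tr 8 * F.tg 12 * (F.X.tr 8 * F.tg 12) = F.X.tr 8 * F.tg 13 * (F.X.tr 8 * F.tg 13)
    rw [h]
    calc F.X.tr 8 * (F.tg 13 * F.X.tr 1) * (F.X.tr 8 * (F.tg 13 * F.X.tr 1))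
        = F.X.tr 8 * F.tg 13 * (F.X.tr 1 * (F.X.tr 8 * F.tg 13)) * F.X.tr 1 := by group
      _ = F.X.tr 8 * F.tg 13 * ((F.X.tr 8 * F.tg 13) * F.X.tr 1) * F.X.tr 1 := by
          rw [((hz 8 (by norm_num)).mul_right htg).eq]
      _ = F.X.tr 8 * F.tg 13 * (F.X.tr 8 * F.tg 13) * (F.X.tr 1 * F.X.tr 1) := by group
      _ = _ := by rw [F.X.tr_sq (by norm_num), mul_one]
  have hx : F.tg 10 * f 2 * F.tg 10 = f 2 := by
    have h : c 6 = c 10 * (F.tg 10 * c 12 * F.tg 10) := by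
      have hxy : F.tg 6 = F.tg 10 * F.tg 12 := by rw [← F.tg_xor (by norm_num) (by norm_num)]; rfl
      have hcomm : F.tg 10 * F.tg 12 = F.tg 12 * F.tg 10 := by
        rw [← F.tg_xor (by norm_num) (by norm_num), ← F.tg_xor (by norm_num) (by norm_num), Nat.xor_comm]
      rw [hc]
      show F.X.tr 8 * F.tg 6 * (F.X.tr 8 * F.tg 6) =
        F.X.tr 8 * F.tg 10 * (F.X.tr 8 * F.tg 10) *
          (F.tg 10 * (F.X.tr 8 * F.tg 12 * (F.X.tr 8 * F.tg 12)) * F.tg 10)
      have i10 : (F.tg 10)⁻¹ = F.tg 10 := inv_eq_of_mul_eq_one_right (F.tg_sq (by norm_num))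
      have i8 : (F.X.tr 8)⁻¹ = F.X.tr 8 := F.X.tr_inv (by norm_num)
      symm
      calc _ = F.X.tr 8 * F.tg 10 * (F.X.tr 8 * (F.tg 10 * F.tg 10) * F.X.tr 8) * F.tg 12 * F.X.tr 8 *
            (F.tg 12 * F.tg 10) := by group
        _ = F.X.tr 8 * F.tg 10 * F.tg 12 * F.X.tr 8 * (F.tg 10 * F.tg 12) := by
          rw [F.tg_sq (by norm_num), mul_one, F.X.tr_sq (by norm_num), mul_one, hcomm]
        _ = _ := by rw [hxy]; group
    rw [c6, c10, c12] at h
    have h46 : f 4 * f 6 = f 2 := by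
      have e : F.X.tE 4 * F.X.tE 6 = F.X.tE 2 := by
        rw [F.X.tE_eq (by norm_num), F.X.tE_eq (by norm_num), F.X.tE_eq (by norm_num), ← map_mul,
          evM_mul (by norm_num) (by norm_num)]
        rfl
      rw [hf]
      show _ * _ = F.X.gam * F.X.gam * F.X.tE 2 * (F.X.gam * F.X.gam)⁻¹
      rw [← e]; group
    have h44 : f 4 * f 4 = 1 := by
      rw [hf]
      calc _ = F.X.gam * F.X.gam * (F.X.tE 4 * F.X.tE 4) * (F.X.gam * F.X.gam)⁻¹ := by group
        _ = 1 := by rw [F.X.tE_sq (by norm_num), mul_one, mul_inv_cancel]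
    rw [← h46]
    conv_rhs => rw [h, ← mul_assoc, h44, one_mul]
    rw [h46]
  set k := F.X.Z.psi (toM elFf.1) with hk
  have okf := Rig.data_ok (comm_mem elFf (by simp))
  have hkdef : F.X.gam * F.X.tE 2 = k * F.X.gam := by
    rw [F.X.tE_eq (by norm_num), evM, Rig.gam, hk, ← map_mul, ← map_mul,
      toM_mul_eq_mul Rig.permGam_ok (evElt_ok 2 (by norm_num)).1 okf Rig.permGam_ok hff]
  have hf2 : f 2 = F.X.gam * k * F.X.gam⁻¹ := by
    rw [hf, show k = F.X.gam * F.X.tE 2 * F.X.gam⁻¹ by rw [hkdef, mul_inv_cancel_right]]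
    group
  have hfix : k * F.X.tr 10 = F.X.tr 10 * k := by
    rw [hf2, tg] at hx
    have h1 : F.X.tr 10 * k * F.X.tr 10 = k := by
      refine mul_left_cancel (a := F.X.gam) (mul_right_cancel (b := F.X.gam⁻¹) (Eq.trans ?_ hx))
      group
    calc k * F.X.tr 10 = F.X.tr 10 * k * F.X.tr 10 * F.X.tr 10 := by rw [h1]
      _ = _ := by rw [mul_assoc _ (F.X.tr 10) (F.X.tr 10), F.X.tr_sq (by norm_num), mul_one]
  have hmove := F.X.conj_tr (comm_mem elFf (by simp)) (l := 10) (l' := 11) (by norm_num) (by norm_num) hf10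
  rw [← hk, hfix, mul_inv_cancel_right] at hmove
  refine F.t_ne_one ?_
  calc F.X.tr 1 = F.X.tr 10 * F.X.tr 11 := by rw [F.X.tr_xor (by norm_num) (by norm_num)]; rfl
    _ = 1 := by rw [← hmove, F.X.tr_sq (by norm_num)]

end Framed

end Cfsg.Agent.JankoFour.Recog
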