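import Cfsg.Agent.Lib.JankoFour.Recog.TwistChecks
import Mathlib.Data.Fintype.Perm

/-!
Decidable facts about the transvections with the centre of the octad, about pairs of points meeting the sixteen
points, and about involutions of the symmetric group of degree five.
-/

set_option autoImplicit false
set_option maxRecDepth 100000
set_option synthInstance.maxSize 4000
set_option synthInstance.maxHeartbeats 200000

namespace Cfsg.Agent.JankoFour.Recog

open Cfsg.Agent.Golay Cfsg.Agent.PermCert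
open Cfsg.Agent.J4Module (app of_chunks)

/-- A matrix carries one transvection to another. -/
def conjB (C : List ℕ) (l l' : ℕ) : Bool := mulC C (tauC l) == mulC (tauC l') C

/-- The transvection with a point of the four space as centre. -/
def muW (x : ℕ) : List ℕ := liftW [1, 2, 4, 8, 16 ^^^ x]

/-- The pair of the base label and a label. -/
def muM (x : ℕ) : ℕ := (1 <<< ptL 0) ^^^ (1 <<< ptL x)

/-- The pair of the base label and the point of the octad. -/
def muV : ℕ := (1 <<< ptL 0) ^^^ (1 <<< pIn)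

theorem tau_mul : ∀ l < 16, ∀ l' < 16, mulC (tauC l) (tauC l') = tauC (l ^^^ l') := by decide +kernel

theorem tau_zero : tauC 0 = unitW := by decide +kernel

theorem tau_ne : ∀ l < 16, l ≠ 0 → tauC l ≠ unitW := by decide +kernel

theorem tau_eW : ∀ l < 16, ∀ v < 16, app (tauC l) (eW v) = eW v := by decide +kernel

theorem eW_zero : eW 0 = 0 := by decide +kernel

theorem muW_act : ∀ x ∈ [1, 2, 3], ∀ w < 1024,
    (Nat.blt (app (muW x) w) 1024 && Nat.beq (eLab (app (muW x) w)) (eLab w) &&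
      inCode (muM x ^^^ imgMask (evElt (eLab w)) (muM x) ^^^ uMask w ^^^ uMask (app (muW x) w))) = true := by
  intro x hx
  fin_cases hx <;> exact of_chunks 16 (by decide +kernel)

theorem muM_ok : ∀ x ∈ [1, 2, 3], muM x < 2 ^ 24 ∧ popCount (muM x) 24 = 2 ∧
    inCode (muM x ^^^ (muV ^^^ imgMask (evElt x) muV)) = true ∧ frameOK (muW x) (muW x) = true := by
  decide +kernel

theorem muV_ok : muV < 2 ^ 24 ∧ popCount muV 24 % 2 = 0 := by decide +kernel

theorem muM_three : inCode (muM 1 ^^^ muM 2 ^^^ muM 3) = false ∧ mulC (muW 1) (muW 2) = muW 3 := by decide +kernel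

/-- The two elements fixing each pair. -/
def muData : List (ℕ × SData × SData) := [(1, elMu10, elMu11), (2, elMu20, elMu21), (3, elMu30, elMu31)]

theorem muData_ok : ∀ q ∈ muData,
    (∀ d ∈ [q.2.1, q.2.2], d ∈ allData ∧ d.2.1 = 0 ∧ mulC d.2.2.2 (muW q.1) = mulC (muW q.1) d.2.2.2 ∧
      inCode (imgMask d.1 (muM q.1) ^^^ muM q.1) = true) ∧
      ∀ w < 1024, app q.2.1.2.2.2 w = w → app q.2.2.2.2.2 w = w → w = 0 ∨ w = eW q.1 := by
  intro q hq
  fin_cases hq <;> refine ⟨by decide +kernel, of_chunks 16 (by decide +kernel)⟩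

/-- The maps exchanging a pair with a transvection at the octad. -/
def muSwap : List (ℕ × List ℕ × List ℕ × ℕ) :=
  [(1, liftW [16, 2, 4, 8, 1], liftW [16, 2, 4, 8, 1], 1), (2, liftW [1, 16, 4, 8, 2], liftW [1, 16, 4, 8, 2], 2),
    (3, liftW [18, 2, 4, 8, 1], liftW [16, 2, 4, 8, 3], 1)]

/-- The map exchanging the first two labels. -/
def swapOneTwo : List ℕ := liftW [2, 1, 4, 8, 16]

theorem muSwap_ok : (∀ q ∈ muSwap, frameOK q.2.1 q.2.2.1 = true ∧ mulC q.2.1 (muW q.1) = mulC (tauC q.2.2.2) q.2.1) ∧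
    frameOK swapOneTwo swapOneTwo = true ∧ conjB swapOneTwo 2 1 = true := by
  decide +kernel

theorem perm_seven_three :
    ((mul 5 24 elS.1 permGam).1 = (mul 5 24 permGam elS.1).1 ∧ (mul 5 24 elS.1 elE0.1).1 = (mul 5 24 elE0.1 elS.1).1) ∧
    ((mul 5 24 permGam (mul 5 24 permGam permGam)).1 = idCode 5 24 ∧ ∃ i : Fin 24, PermCert.get 5 permGam.1 i ≠ i) ∧
    (mul 5 24 elE0.1 (mul 5 24 permGam elE0.1)).1 = (mul 5 24 permGam permGam).1 ∧
    (∃ i : Fin 24, PermCert.get 5 elS.1.1 i ≠ i) ∧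
    ∃ i : Fin 24, PermCert.get 5 (mul 5 24 elFw0.1 elE0.1).1 i ≠ PermCert.get 5 (mul 5 24 elE0.1 elFw0.1).1 i := by
  decide +kernel

theorem perm_seven_pow : (mul 5 24 elS.1 (mul 5 24 elS.1 (mul 5 24 elS.1 (mul 5 24 elS.1 (mul 5 24 elS.1
    (mul 5 24 elS.1 elS.1)))))).1 = idCode 5 24 := by decide +kernel

theorem fw_cycle : (mul 5 24 permGam elFw0.1).1 = (mul 5 24 elFw2.1 permGam).1 ∧
    (mul 5 24 permGam elFw2.1).1 = (mul 5 24 elFw1.1 permGam).1 ∧
    (mul 5 24 permGam elFw1.1).1 = (mul 5 24 elFw0.1 permGam).1 := by decide +kernel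

theorem part_b_conj : ∀ d ∈ [elS, elFw0, elFw1, elFw2], conjB d.2.2.2 1 1 = true := by decide +kernel

theorem part_b_mem : ∀ d ∈ [elS, elE0, elFw0, elFw1, elFw2], d ∈ allData := by decide +kernel

/-- An involution of the symmetric group of degree five centralised by an element of order three. -/
def T5 (x : Equiv.Perm (Fin 5)) : Prop :=
  x * x = 1 ∧ x ≠ 1 ∧ ∃ u : Equiv.Perm (Fin 5), u * u * u = 1 ∧ u ≠ 1 ∧ u * x = x * u

instance (x : Equiv.Perm (Fin 5)) : Decidable (T5 x) := by unfold T5; infer_instance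

/-- An involution inverting a subgroup of order three is a product of conjugates of one commuting with it. -/
theorem perm5_key : ∀ e : Equiv.Perm (Fin 5), T5 e → ∀ a : Equiv.Perm (Fin 5), T5 a → e ≠ a → e * a = a * e →
    ∀ c : Equiv.Perm (Fin 5), c * c * c = 1 → e * c * e = c * c → c * a ≠ a * c →
      ∃ i j : Fin 3, e = (c ^ i.1 * a * (c ^ i.1)⁻¹) * (c ^ j.1 * a * (c ^ j.1)⁻¹) * (c ^ i.1 * a * (c ^ i.1)⁻¹) := by
  decide +kernel

end Cfsg.Agent.JankoFour.Recog
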