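import Cfsg.Agent.Lib.JankoFour.Recog.Twist
import Cfsg.Agent.Lib.JankoFour.Recog.TauChecks

/-!
The involutions acting as transvections with the centre of the octad: linearity, equivariance and their class.
-/

set_option autoImplicit false
set_option linter.unusedSectionVars false
set_option maxRecDepth 100000

namespace Cfsg.Agent.JankoFour.Recog

open Subgroup
open Cfsg (GolayPt M24)
open Cfsg.Agent.Golay Cfsg.Agent.PermCert
open Cfsg.Agent.J4Module (app)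
open scoped symmDiff Pointwise

namespace Rig

variable {G : Type*} [Group G] [Finite G] {z : G} (X : Rig z)

theorem exists_tr (l : ℕ) : ∃ r : G, l < 16 → r ∈ X.R ∧ X.Z.Acts r (tauC l) := by
  by_cases h : l < 16
  · obtain ⟨r, hr, hr'⟩ := X.real _ _ (frames_ok.2.2 l h)
    exact ⟨r, fun _ => ⟨hr, hr'⟩⟩
  · exact ⟨1, fun h' => absurd h' h⟩

/-- The involution of a functional. -/
noncomputable def tr (l : ℕ) : G := (X.exists_tr l).choose

theorem tr_mem {l : ℕ} (hl : l < 16) : X.tr l ∈ X.R := ((X.exists_tr l).choose_spec hl).1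

theorem tr_acts {l : ℕ} (hl : l < 16) : X.Z.Acts (X.tr l) (tauC l) := ((X.exists_tr l).choose_spec hl).2

theorem tr_zero : X.tr 0 = 1 :=
  X.Z.acts_unique X.R_inf (X.tr_mem (by norm_num)) (one_mem _) (X.tr_acts (by norm_num)) X.Z.acts_one
    fun w _ => by rw [tau_zero]

theorem tr_xor {l l' : ℕ} (hl : l < 16) (hl' : l' < 16) : X.tr l * X.tr l' = X.tr (l ^^^ l') := by
  have h : l ^^^ l' < 16 := Nat.xor_lt_two_pow (n := 4) hl hl'
  exact X.Z.acts_unique X.R_inf (mul_mem (X.tr_mem hl) (X.tr_mem hl')) (X.tr_mem h)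
    (X.Z.acts_mul (X.tr_acts hl) (X.tr_acts hl')) (X.tr_acts h) fun w _ => by rw [tau_mul l hl l' hl']

theorem tr_sq {l : ℕ} (hl : l < 16) : X.tr l * X.tr l = 1 := by
  rw [X.tr_xor hl hl, Nat.xor_self, X.tr_zero]

theorem tr_inv {l : ℕ} (hl : l < 16) : (X.tr l)⁻¹ = X.tr l := inv_eq_of_mul_eq_one_right (X.tr_sq hl)

theorem tr_comm {l l' : ℕ} (hl : l < 16) (hl' : l' < 16) : X.tr l * X.tr l' = X.tr l' * X.tr l := by
  rw [X.tr_xor hl hl', X.tr_xor hl' hl, Nat.xor_comm]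

theorem tr_eW {l v : ℕ} (hl : l < 16) (hv : v < 16) : X.tr l * X.Z.c (eW v) = X.Z.c (eW v) * X.tr l := by
  have h := (X.tr_acts hl (eW v) (eW_spec v hv).1).2
  rw [tau_eW l hl v hv] at h
  exact mul_inv_eq_iff_eq_mul.1 h

/-- An element of the complement carries the transvections as its matrix does. -/
theorem conj_R {g : G} (hg : g ∈ X.R) {C : List ℕ} (hC : X.Z.Acts g C) {l l' : ℕ} (hl : l < 16) (hl' : l' < 16)
    (h : conjB C l l' = true) : g * X.tr l * g⁻¹ = X.tr l' := by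
  rw [mul_inv_eq_iff_eq_mul]
  exact X.Z.acts_unique X.R_inf (mul_mem hg (X.tr_mem hl)) (mul_mem (X.tr_mem hl') hg)
    (X.Z.acts_mul hC (X.tr_acts hl)) (X.Z.acts_mul (X.tr_acts hl') hC) fun w _ => by rw [beq_iff_eq.1 h]

/-- The equivariance on the octad stabiliser. -/
theorem conj_tr {d : SData} (hd : d ∈ allData) {l l' : ℕ} (hl : l < 16) (hl' : l' < 16)
    (h : conjB d.2.2.2 l l' = true) :
    X.Z.psi (toM d.1) * X.tr l * (X.Z.psi (toM d.1))⁻¹ = X.tr l' := by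
  obtain ⟨h1, -, h3, h4, h5⟩ := X.data (data_of_mem hd)
  have e := X.conj_R h3 h4 hl hl' h
  rw [h5]
  calc X.Z.c (eW d.2.1) * X.Z.gWord d.2.2.1 * X.tr l * (X.Z.c (eW d.2.1) * X.Z.gWord d.2.2.1)⁻¹
      = X.Z.c (eW d.2.1) * (X.Z.gWord d.2.2.1 * X.tr l * (X.Z.gWord d.2.2.1)⁻¹) * (X.Z.c (eW d.2.1))⁻¹ := by group
    _ = _ := by rw [e, ← X.tr_eW hl' h1, mul_inv_cancel_right]

/-- The pair acts as the transvection with the centre of the label. -/
theorem mu_acts {x : ℕ} (hx : x ∈ [1, 2, 3]) : X.Z.Acts (X.Z.sv (muM x)) (muW x) := fun w hw => by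
  have h := muW_act x hx w hw
  simp only [Bool.and_eq_true, Nat.blt_eq, Nat.beq_eq] at h
  obtain ⟨⟨h1, h2⟩, h3⟩ := h
  obtain ⟨ml, mc, -, -⟩ := muM_ok x hx
  have me : popCount (muM x) 24 % 2 = 0 := by rw [mc]
  have hel := (uMask_even w hw).2.2
  have hev := (evElt_ok _ hel).1
  obtain ⟨il, ie⟩ := Sect.imgMask_ok hev me
  obtain ⟨ul, ue⟩ := Sect.uMask_ok hw
  obtain ⟨vl, ve⟩ := Sect.uMask_ok h1
  refine ⟨h1, ?_⟩
  have x1 : muM x ^^^ imgMask (evElt (eLab w)) (muM x) < 2 ^ 24 := Nat.xor_lt_two_pow (n := 24) ml il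
  have e1 : popCount (muM x ^^^ imgMask (evElt (eLab w)) (muM x)) 24 % 2 = 0 := by
    rw [← card_maskSet, Sect.maskSet_xor ml il, LargeFischer.Big.card_symmDiff_mod, card_maskSet, card_maskSet]
    omega
  have e2 : popCount (muM x ^^^ imgMask (evElt (eLab w)) (muM x) ^^^ uMask w) 24 % 2 = 0 := by
    rw [← card_maskSet, Sect.maskSet_xor x1 ul, LargeFischer.Big.card_symmDiff_mod, card_maskSet, card_maskSet]
    omega
  have key : X.Z.sv (muM x) * X.Z.sv (imgMask (evElt (eLab w)) (muM x)) * X.Z.sv (uMask w) =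
      X.Z.sv (uMask (app (muW x) w)) := by
    rw [← X.Z.sv_xor ml il me ie, ← X.Z.sv_xor x1 ul e1 ue]
    exact X.Z.sv_congr (Nat.xor_lt_two_pow (n := 24) x1 ul) vl e2 ve h3
  have hpe := X.Z.psi_sv hev me
  rw [Sect.c, Sect.c, h2, ← key, evM, inv_eq_of_mul_eq_one_right (X.Z.sv_sq _)]
  calc X.Z.sv (muM x) * (X.Z.sv (uMask w) * X.Z.psi (toM (evElt (eLab w)))) * X.Z.sv (muM x)
      = X.Z.sv (muM x) * X.Z.sv (uMask w) *
          (X.Z.psi (toM (evElt (eLab w))) * X.Z.sv (muM x) * (X.Z.psi (toM (evElt (eLab w))))⁻¹) *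
          X.Z.psi (toM (evElt (eLab w))) := by group
    _ = X.Z.sv (muM x) * (X.Z.sv (uMask w) * X.Z.sv (imgMask (evElt (eLab w)) (muM x))) *
          X.Z.psi (toM (evElt (eLab w))) := by rw [hpe]; group
    _ = _ := by rw [X.Z.sv_comm (uMask w)]; group

/-- The element of the complement acting as a pair. -/
theorem exists_mu {x : ℕ} (hx : x ∈ [1, 2, 3]) : ∃ μ ∈ X.R, X.Z.Acts μ (muW x) ∧
    (X.Z.sv (muM x) = μ ∨ X.Z.sv (muM x) = X.Z.c (eW x) * μ) := by
  obtain ⟨ml, mc, -, hf⟩ := muM_ok x hx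
  have me : popCount (muM x) 24 % 2 = 0 := by rw [mc]
  obtain ⟨μ, hμ, hμa⟩ := X.real _ _ hf
  refine ⟨μ, hμ, hμa, ?_⟩
  have hA : X.Z.sv (muM x) * μ⁻¹ ∈ X.Z.A := X.Z.centralizer_A.le (mem_centralizer_iff.2 (by
    rintro _ ⟨w, hw, rfl⟩
    have hinj : Function.Injective fun n : Fin 1024 => (⟨app (muW x) n, (hμa n n.2).1⟩ : Fin 1024) := fun a b e => by
      refine Fin.ext (X.Z.c_inj a.2 b.2 (mul_left_cancel (a := μ) (mul_right_cancel (b := μ⁻¹) ?_)))
      rw [(hμa a a.2).2, (hμa b b.2).2, show app (muW x) a = app (muW x) b from congrArg Fin.val e]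
    obtain ⟨v, hv⟩ := (Finite.injective_iff_surjective.1 hinj) ⟨w, hw⟩
    rw [← show app (muW x) v = w from congrArg Fin.val hv]
    have p1 := (X.mu_acts hx v v.2).2
    have p2 := (hμa v v.2).2
    calc X.Z.c (app (muW x) v) * (X.Z.sv (muM x) * μ⁻¹)
        = (X.Z.sv (muM x) * X.Z.c v * (X.Z.sv (muM x))⁻¹) * X.Z.sv (muM x) * μ⁻¹ := by rw [p1]; group
      _ = X.Z.sv (muM x) * μ⁻¹ * (μ * X.Z.c v * μ⁻¹) := by group
      _ = _ := by rw [p2]))
  obtain ⟨u, hu, hue⟩ := hA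
  have hu' : X.Z.sv (muM x) = X.Z.c u * μ := by rw [hue]; group
  obtain ⟨q, hq, hqx⟩ : ∃ q ∈ muData, q.1 = x := by
    fin_cases hx
    exacts [⟨_, List.mem_cons_self, rfl⟩, ⟨_, List.mem_cons_of_mem _ List.mem_cons_self, rfl⟩,
      ⟨_, List.mem_cons_of_mem _ (List.mem_cons_of_mem _ List.mem_cons_self), rfl⟩]
  obtain ⟨hd, hfix⟩ := muData_ok q hq
  rw [hqx] at hd hfix
  have fixed : ∀ d ∈ [q.2.1, q.2.2], app d.2.2.2 u = u := fun d hdd => by
    obtain ⟨hmem, h0, hcomm, him⟩ := hd d hdd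
    have hok := data_of_mem hmem
    obtain ⟨-, -, h3, h4, h5⟩ := X.data hok
    rw [h0, eW_zero, X.Z.c_zero, one_mul] at h5
    have hperm := (toM_data hok).1
    obtain ⟨il, ie⟩ := Sect.imgMask_ok hperm me
    have hm : X.Z.psi (toM d.1) * X.Z.sv (muM x) * (X.Z.psi (toM d.1))⁻¹ = X.Z.sv (muM x) := by
      rw [X.Z.psi_sv hperm me]; exact X.Z.sv_congr il ml ie me him
    rw [h5] at hm
    set g := X.Z.gWord d.2.2.1
    have hgμ : g * μ = μ * g := X.Z.acts_unique X.R_inf (mul_mem h3 hμ) (mul_mem hμ h3) (X.Z.acts_mul h4 hμa)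
      (X.Z.acts_mul hμa h4) fun w _ => by rw [hcomm]
    obtain ⟨hcu, ecu⟩ := h4 u hu
    refine X.Z.c_inj hcu hu (mul_right_cancel (b := μ) ?_)
    calc X.Z.c (app d.2.2.2 u) * μ = g * X.Z.c u * (g⁻¹ * (μ * g)) * g⁻¹ := by rw [← ecu]; group
      _ = g * X.Z.c u * (g⁻¹ * (g * μ)) * g⁻¹ := by rw [hgμ]
      _ = g * (X.Z.c u * μ) * g⁻¹ := by group
      _ = X.Z.c u * μ := by rw [← hu', hm]
  rcases hfix u hu (fixed _ List.mem_cons_self) (fixed _ (List.mem_cons_of_mem _ List.mem_cons_self)) with h | h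
  · left; rw [hu', h, X.Z.c_zero, one_mul]
  · right; rw [hu', h]

include X in
theorem z_ne_one : z ≠ 1 := fun e => by
  have h := (X.class_iff 0 (by norm_num)).1 (by rw [X.Z.c_zero, e])
  rw [wdec_spec.1] at h
  exact Bool.false_ne_true h

/-- Some transvection is conjugate to the involution. -/
theorem tr_one_conj : IsConj z (X.tr 1) := by
  obtain ⟨μ1, h1, a1, c1⟩ := X.exists_mu (x := 1) (by simp)
  obtain ⟨μ2, h2, a2, c2⟩ := X.exists_mu (x := 2) (by simp)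
  obtain ⟨μ3, h3, a3, c3⟩ := X.exists_mu (x := 3) (by simp)
  have conjz : ∀ x ∈ [1, 2, 3], ∀ μ, X.Z.sv (muM x) = X.Z.c (eW x) * μ → IsConj z μ := by
    intro x hx μ e
    obtain ⟨ml, mc, hmv, -⟩ := muM_ok x hx
    have me : popCount (muM x) 24 % 2 = 0 := by rw [mc]
    obtain ⟨vl, ve⟩ := muV_ok
    have hx16 : x < 16 := by fin_cases hx <;> norm_num
    have hx0 : x ≠ 0 := by fin_cases hx <;> norm_num
    have hev := (evElt_ok x hx16).1
    obtain ⟨il, ie⟩ := Sect.imgMask_ok hev ve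
    refine ((X.class_iff _ (eW_spec x hx16).1).2 (wdec_spec.2 x hx16 hx0)).trans (isConj_iff.2 ⟨X.Z.sv muV, ?_⟩)
    have hμ : μ = X.Z.c (eW x) * X.Z.sv (muM x) := by
      rw [e, ← mul_assoc, X.Z.c_sq (eW_spec x hx16).1, one_mul]
    have hcom : X.Z.psi (toM (evElt x)) * X.Z.sv muV = X.Z.sv (imgMask (evElt x) muV) * X.Z.psi (toM (evElt x)) := by
      rw [← X.Z.psi_sv hev ve]; group
    have hv2 : X.Z.sv muV * X.Z.sv (imgMask (evElt x) muV) = X.Z.sv (muM x) := by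
      rw [← X.Z.sv_xor vl il ve ie]
      refine X.Z.sv_congr (Nat.xor_lt_two_pow (n := 24) vl il) ml ?_ me (by rwa [Nat.xor_comm])
      rw [← card_maskSet, Sect.maskSet_xor vl il, LargeFischer.Big.card_symmDiff_mod, card_maskSet, card_maskSet]
      omega
    have hinv : (X.Z.psi (toM (evElt x)))⁻¹ = X.Z.psi (toM (evElt x)) := by
      have h := X.Z.c_sq (eW_spec x hx16).1
      rw [X.Z.c_eW hx16] at h
      exact inv_eq_of_mul_eq_one_right h
    rw [hμ, X.Z.c_eW hx16, inv_eq_of_mul_eq_one_right (X.Z.sv_sq _), evM]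
    calc X.Z.sv muV * X.Z.psi (toM (evElt x)) * X.Z.sv muV
        = X.Z.sv muV * X.Z.sv (imgMask (evElt x) muV) * X.Z.psi (toM (evElt x)) := by
          rw [mul_assoc, hcom, ← mul_assoc]
      _ = X.Z.psi (toM (evElt x)) * X.Z.sv (muM x) := by
        rw [hv2]
        have hm := X.Z.psi_sv hev me
        have himg : X.Z.sv (imgMask (evElt x) (muM x)) = X.Z.sv (muM x) := by
          obtain ⟨l', e'⟩ := Sect.imgMask_ok hev me
          refine X.Z.sv_congr l' ml e' me ?_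
          fin_cases hx <;> decide +kernel
        rw [himg] at hm
        exact (mul_inv_eq_iff_eq_mul.1 hm).symm
  obtain ⟨x, hx, μ, hμ, hμa, hμz⟩ : ∃ x ∈ [1, 2, 3], ∃ μ ∈ X.R, X.Z.Acts μ (muW x) ∧ IsConj z μ := by
    rcases c1 with e1 | e1
    · rcases c2 with e2 | e2
      · rcases c3 with e3 | e3
        · exfalso
          obtain ⟨l1, q1, -, -⟩ := muM_ok 1 (by simp)
          obtain ⟨l2, q2, -, -⟩ := muM_ok 2 (by simp)
          obtain ⟨l3, q3, -, -⟩ := muM_ok 3 (by simp)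
          have m1 : popCount (muM 1) 24 % 2 = 0 := by rw [q1]
          have m2 : popCount (muM 2) 24 % 2 = 0 := by rw [q2]
          have m3 : popCount (muM 3) 24 % 2 = 0 := by rw [q3]
          have h12 : μ1 * μ2 = μ3 := X.Z.acts_unique X.R_inf (mul_mem h1 h2) h3 (X.Z.acts_mul a1 a2) a3
            fun w _ => by rw [muM_three.2]
          have x12 : muM 1 ^^^ muM 2 < 2 ^ 24 := Nat.xor_lt_two_pow (n := 24) l1 l2
          have e12 : popCount (muM 1 ^^^ muM 2) 24 % 2 = 0 := by decide +kernel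
          have e123 : popCount (muM 1 ^^^ muM 2 ^^^ muM 3) 24 % 2 = 0 := by decide +kernel
          have hone : X.Z.sv (muM 1 ^^^ muM 2 ^^^ muM 3) = 1 := by
            rw [X.Z.sv_xor x12 l3 e12 m3, X.Z.sv_xor l1 l2 m1 m2, e1, e2, e3, h12, ← e3]
            exact X.Z.sv_sq _
          have := (X.Z.sv_eq_one (Nat.xor_lt_two_pow (n := 24) x12 l3) e123).1 hone
          rw [muM_three.1] at this
          exact Bool.false_ne_true this
        · exact ⟨3, by simp, μ3, h3, a3, conjz 3 (by simp) μ3 e3⟩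
      · exact ⟨2, by simp, μ2, h2, a2, conjz 2 (by simp) μ2 e2⟩
    · exact ⟨1, by simp, μ1, h1, a1, conjz 1 (by simp) μ1 e1⟩
  have step : ∀ q ∈ muSwap, q.1 = x → q.2.2.2 < 16 → IsConj z (X.tr q.2.2.2) := by
    intro q hq hqx hl
    obtain ⟨hf, hc⟩ := muSwap_ok.1 q hq
    obtain ⟨g, hg, hga⟩ := X.real _ _ hf
    rw [hqx] at hc
    refine hμz.trans (isConj_iff.2 ⟨g, ?_⟩)
    rw [mul_inv_eq_iff_eq_mul]
    exact X.Z.acts_unique X.R_inf (mul_mem hg hμ) (mul_mem (X.tr_mem hl) hg) (X.Z.acts_mul hga hμa)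
      (X.Z.acts_mul (X.tr_acts hl) hga) fun w _ => by rw [hc]
  fin_cases hx
  · exact step _ (List.mem_cons_self) rfl (by norm_num)
  · obtain ⟨-, hf, hc⟩ := muSwap_ok
    obtain ⟨g, hg, hga⟩ := X.real _ _ hf
    exact (step (2, liftW [1, 16, 4, 8, 2], liftW [1, 16, 4, 8, 2], 2) (by simp [muSwap]) rfl (by norm_num)).trans
      (isConj_iff.2 ⟨g, X.conj_R hg hga (by norm_num) (by norm_num) hc⟩)
  · exact step (3, liftW [18, 2, 4, 8, 1], liftW [16, 2, 4, 8, 3], 1) (by simp [muSwap]) rfl (by norm_num)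

end Rig

end Cfsg.Agent.JankoFour.Recog
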