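import Cfsg.Agent.Lib.JankoFour.Recog.Wedge

/-!
The cocycles of the two generators of the point stabiliser with values in the subgroup of order 1024: decidable
facts.  A solution of the relations is a coboundary, or a coboundary plus the twist by a point of the octad.
-/

set_option autoImplicit false
set_option maxRecDepth 100000
set_option synthInstance.maxSize 4000
set_option synthInstance.maxHeartbeats 200000

namespace Cfsg.Agent.JankoFour.Recog

open Cfsg.Agent.Golay Cfsg.Agent.PermCert
open Cfsg.Agent.J4Module (app of_chunks)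

/-- The value of a cocycle at a word. -/
def foldT (ua ub : ℕ) : List ℕ → ℕ
  | [] => 0
  | k :: w => (if k = 0 then ua else ub) ^^^ app (if k = 0 then colA else colB) (foldT ua ub w)

/-- The coordinates inside the large abelian subgroup. -/
def maskU : ℕ := 183

/-- The coordinates of the translations. -/
def maskE : ℕ := 840

/-- The values satisfy the relations. -/
def solB (ua ub : ℕ) : Bool := relWords.all fun r => Nat.beq (foldT ua ub r) 0

/-- The values are a coboundary up to the given twist. -/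
def cobB (m tA tB ua ub : ℕ) : Bool :=
  (List.range 1024).any fun w => Nat.beq (w &&& m) w &&
    ((Nat.beq ua (w ^^^ app colA w) && Nat.beq ub (w ^^^ app colB w)) ||
      (Nat.beq ua (w ^^^ app colA w ^^^ tA) && Nat.beq ub (w ^^^ app colB w ^^^ tB)))

/-- A value at the first generator extends only by coboundaries. -/
def checkB (m tA tB ua : ℕ) : Bool :=
  !(Nat.beq (ua &&& m) ua) ||
    (List.range 1024).all fun ub => !(Nat.beq (ub &&& m) ub) || !(solB ua ub) || cobB m tA tB ua ub

theorem mask_split : ∀ x < 1024, (x &&& maskU) ^^^ (x &&& maskE) = x ∧ (x &&& maskU) &&& maskU = x &&& maskU ∧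
    (x &&& maskE) &&& maskE = x &&& maskE :=
  of_chunks 16 (by decide +kernel)

theorem mask_app : ∀ x < 1024, app colA (x &&& maskU) = app colA x &&& maskU ∧
    app colB (x &&& maskU) = app colB x &&& maskU ∧ app colA (x &&& maskE) = app colA x &&& maskE ∧
    app colB (x &&& maskE) = app colB x &&& maskE ∧ app colA x < 1024 ∧ app colB x < 1024 :=
  of_chunks 16 (by decide +kernel)

theorem checkU : ∀ ua < 1024, checkB maskU twA twB ua = true := of_chunks 16 (by decide +kernel)

theorem checkE : ∀ ua < 1024, checkB maskE 0 0 ua = true := of_chunks 16 (by decide +kernel)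

theorem twist_spec : twA < 1024 ∧ twB < 1024 ∧
    inCode (((1 <<< pIn) ^^^ (1 <<< PermCert.get 5 permA.1 pIn)) ^^^ uMask twA) = true ∧ eLab twA = 0 ∧
    inCode (((1 <<< pIn) ^^^ (1 <<< PermCert.get 5 permB.1 pIn)) ^^^ uMask twB) = true ∧ eLab twB = 0 ∧
    pIn < 24 ∧ (5279 : ℕ).testBit pIn = true := by decide +kernel

theorem xor_and (a b m : ℕ) : (a ^^^ b) &&& m = (a &&& m) ^^^ (b &&& m) := by
  apply Nat.eq_of_testBit_eq
  intro i
  simp only [Nat.testBit_and, Nat.testBit_xor]
  cases a.testBit i <;> cases b.testBit i <;> cases m.testBit i <;> rfl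

theorem foldT_lt {ua ub : ℕ} (ha : ua < 1024) (hb : ub < 1024) : ∀ w, foldT ua ub w < 1024
  | [] => by norm_num [foldT]
  | k :: w => by
    have h := mask_app _ (foldT_lt ha hb w)
    rw [foldT]
    split
    · exact Nat.xor_lt_two_pow (n := 10) ha h.2.2.2.2.1
    · exact Nat.xor_lt_two_pow (n := 10) hb h.2.2.2.2.2

theorem foldT_mask {ua ub m : ℕ} (ha : ua < 1024) (hb : ub < 1024)
    (hm : ∀ x < 1024, app colA (x &&& m) = app colA x &&& m ∧ app colB (x &&& m) = app colB x &&& m) :
    ∀ w, foldT (ua &&& m) (ub &&& m) w = foldT ua ub w &&& m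
  | [] => by simp [foldT]
  | k :: w => by
    obtain ⟨h1, h2⟩ := hm _ (foldT_lt ha hb w)
    rw [foldT, foldT, foldT_mask ha hb hm w, xor_and]
    split
    · rw [h1]
    · rw [h2]

/-- The solutions of the relations. -/
theorem sol_cases {ua ub : ℕ} (ha : ua < 1024) (hb : ub < 1024) (h : ∀ r ∈ relWords, foldT ua ub r = 0) :
    ∃ w < 1024, (ua = w ^^^ app colA w ∧ ub = w ^^^ app colB w) ∨
      (ua = w ^^^ app colA w ^^^ twA ∧ ub = w ^^^ app colB w ^^^ twB) := by
  have part : ∀ m tA tB, (∀ u < 1024, checkB m tA tB u = true) →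
      (∀ x < 1024, app colA (x &&& m) = app colA x &&& m ∧ app colB (x &&& m) = app colB x &&& m) →
      (∀ x < 1024, (x &&& m) &&& m = x &&& m) → cobB m tA tB (ua &&& m) (ub &&& m) = true := by
    intro m tA tB hc hm hi
    have hla : ua &&& m < 1024 := lt_of_le_of_lt Nat.and_le_left ha
    have hlb : ub &&& m < 1024 := lt_of_le_of_lt Nat.and_le_left hb
    have hs : solB (ua &&& m) (ub &&& m) = true := List.all_eq_true.2 fun r hr => by
      rw [Nat.beq_eq, foldT_mask ha hb hm, h r hr, Nat.zero_and]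
    have h1 := hc _ hla
    rw [checkB, Bool.or_eq_true, Bool.not_eq_true'] at h1
    rcases h1 with h1 | h1
    · rw [hi ua ha] at h1
      simp at h1
    · have h2 := List.all_eq_true.1 h1 _ (List.mem_range.2 hlb)
      simpa [hi ub hb, hs] using h2
  have hU := part maskU twA twB checkU (fun x hx => ⟨(mask_app x hx).1, (mask_app x hx).2.1⟩)
    fun x hx => (mask_split x hx).2.1
  have hE := part maskE 0 0 checkE (fun x hx => ⟨(mask_app x hx).2.2.1, (mask_app x hx).2.2.2.1⟩)
    fun x hx => (mask_split x hx).2.2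
  simp only [cobB, List.any_eq_true, List.mem_range, Bool.and_eq_true, Bool.or_eq_true, Nat.beq_eq,
    Nat.xor_zero, or_self] at hU hE
  obtain ⟨u, hu, -, hU⟩ := hU
  obtain ⟨v, hv, -, eA, eB⟩ := hE
  refine ⟨u ^^^ v, Nat.xor_lt_two_pow (n := 10) hu hv, ?_⟩
  have eq : ∀ (C : List ℕ) (t x : ℕ) (xu xv : ℕ), (xu ^^^ xv = x) → xu = u ^^^ app C u ^^^ t → xv = v ^^^ app C v →
      x = (u ^^^ v) ^^^ app C (u ^^^ v) ^^^ t := fun C t x xu xv hx h1 h2 => by
    rw [← hx, h1, h2, app_xor]; ac_rfl
  rcases hU with ⟨h1, h2⟩ | ⟨h1, h2⟩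
  · refine Or.inl ⟨?_, ?_⟩
    · simpa using eq colA 0 ua _ _ (mask_split ua ha).1 (by simpa using h1) eA
    · simpa using eq colB 0 ub _ _ (mask_split ub hb).1 (by simpa using h2) eB
  · exact Or.inr ⟨eq colA twA ua _ _ (mask_split ua ha).1 h1 eA, eq colB twB ub _ _ (mask_split ub hb).1 h2 eB⟩

end Cfsg.Agent.JankoFour.Recog
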