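import Cfsg.Agent.Lib.JankoFour.Recog.Real
import Cfsg.Agent.Lib.JankoFour.Recog.TwistChecks

/-!
The section can be chosen such that the point stabiliser inside the octad stabiliser lies in a complement to the
subgroup of order 1024.
-/

set_option autoImplicit false
set_option linter.unusedSectionVars false
set_option maxRecDepth 100000

namespace Cfsg.Agent.JankoFour.Recog

open Subgroup
open Cfsg (GolayPt M24)
open Cfsg.Agent.Golay Cfsg.Agent.PermCert
open Cfsg.Agent.J4Module (app)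
open scoped symmDiff Pointwise

theorem empty_supp : (∅ : Finset GolayPt) ∈ Cfsg.supports (Cfsg.golayCode : Set (GolayPt → ZMod 2)) :=
  mem_supports.2 ⟨0, inCode_iff.1 (by decide +kernel), by ext; simp [mem_maskSet]⟩

/-! ### Words in the two generators -/

/-- The element of the Mathieu group of a word. -/
noncomputable def mWord (w : List ℕ) : ↥M24 :=
  w.foldr (fun k r => toM (if k = 0 then permA else permB) * r) 1

/-- The permutation of the indices of a word. -/
def wPerm (w : List ℕ) : Equiv.Perm (Fin 24) :=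
  w.foldr (fun k r => toPerm 5 24 (if k = 0 then permA else permB) * r) 1

theorem gen_ok (k : ℕ) : permOK (if k = 0 then permA else permB) = true := by
  split
  · exact permA_ok
  · exact permB_ok

theorem rep_word : ∀ w : List ℕ, Rep 5 (n := 24) (wordElt w) (wPerm w)
  | [] => rep_one (by norm_num)
  | k :: w => rep_mul (rep_toPerm (permOK_iff.1 (gen_ok k)).1) (rep_word w)

theorem mWord_val : ∀ w : List ℕ, (mWord w : Equiv.Perm GolayPt) = phi (wPerm w)
  | [] => by simp [mWord, wPerm]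
  | k :: w => by
    show ((toM (if k = 0 then permA else permB) * mWord w : ↥M24) : Equiv.Perm GolayPt) = _
    rw [Subgroup.coe_mul, toM_val (gen_ok k), mWord_val w, permOf, ← map_mul]
    rfl

theorem mWord_one {w : List ℕ} (h : (wordElt w).1 = idCode 5 24) : mWord w = 1 :=
  Subtype.ext (by
    rw [mWord_val, rep_eq_code (rep_word w) (rep_one (w := 5) (n := 24) (by norm_num)) h, map_one]
    rfl)

/-- An element of the stabiliser is a translation times a word. -/
theorem toM_data {d : SData} (h : dataOK d = true) :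
    permOK d.1 = true ∧ d.2.1 < 16 ∧ colsOK d.1 d.2.2.2 = true ∧ toM d.1 = evM d.2.1 * mWord d.2.2.1 ∧
      ∀ w < 1024, app (wordW d.2.2.1) w = app d.2.2.2 w := by
  simp only [dataOK, Bool.and_eq_true, Nat.blt_eq, Nat.beq_eq, List.all_eq_true, List.mem_range] at h
  obtain ⟨⟨⟨⟨⟨h1, h2⟩, h3⟩, -⟩, h5⟩, h6⟩ := h
  refine ⟨h1, h2, h3, Subtype.ext ?_, h6⟩
  have he := (evElt_ok _ h2).1
  rw [Subgroup.coe_mul, toM_val h1, evM, toM_val he, mWord_val, permOf, permOf, ← map_mul]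
  exact congrArg _ (rep_eq_code (rep_toPerm (permOK_iff.1 h1).1)
    (rep_mul (rep_toPerm (permOK_iff.1 he).1) (rep_word _)) h5.symm)

namespace Sect

variable {G : Type*} [Group G] [Finite G] {z : G} (Z : Sect z)

theorem gWord_eq : ∀ w : List ℕ, Z.gWord w = Z.psi (mWord w)
  | [] => (map_one Z.psi).symm
  | k :: w => by
    show Z.psi (toM (if k = 0 then permA else permB)) * Z.gWord w = Z.psi (toM (if k = 0 then permA else permB) * mWord w)
    rw [gWord_eq w, map_mul]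

/-- The product of two given elements along a word. -/
def rWord (ra rb : G) (w : List ℕ) : G := w.foldr (fun k r => (if k = 0 then ra else rb) * r) 1

theorem rWord_mem {R : Subgroup G} {ra rb : G} (ha : ra ∈ R) (hb : rb ∈ R) : ∀ w, rWord ra rb w ∈ R
  | [] => one_mem R
  | k :: w => by
    refine mul_mem ?_ (rWord_mem ha hb w)
    split
    · exact ha
    · exact hb

theorem gWord_fold {ua ub : ℕ} {ra rb : G} (la : ua < 1024) (lb : ub < 1024) (ha : Z.Acts ra colA)
    (hb : Z.Acts rb colB) (ea : Z.psi (toM permA) = Z.c ua * ra) (eb : Z.psi (toM permB) = Z.c ub * rb) :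
    ∀ w, Z.gWord w = Z.c (foldT ua ub w) * rWord ra rb w
  | [] => by rw [foldT, Z.c_zero, one_mul]; rfl
  | k :: w => by
    have hl := foldT_lt la lb w
    show Z.psi (toM (if k = 0 then permA else permB)) * Z.gWord w = _
    rw [gWord_fold la lb ha hb ea eb w, foldT, show rWord ra rb (k :: w) = (if k = 0 then ra else rb) * rWord ra rb w from rfl]
    have key : ∀ (u : ℕ) (r : G) (C : List ℕ), u < 1024 → Z.Acts r C →
        Z.c u * r * (Z.c (foldT ua ub w) * rWord ra rb w) =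
          Z.c (u ^^^ app C (foldT ua ub w)) * (r * rWord ra rb w) := fun u r C hu hr => by
      obtain ⟨h1, h2⟩ := hr _ hl
      rw [Z.c_xor hu h1, ← h2]
      group
    split
    · rw [ea]; exact key _ _ _ la ha
    · rw [eb]; exact key _ _ _ lb hb

/-- The twist of the section by a point of the octad. -/
noncomputable def twFun (σ : ↥M24) : G :=
  Z.D.eS ({pt ⟨pIn, twist_spec.2.2.2.2.2.2.1⟩} ∆ {(σ : Equiv.Perm GolayPt) (pt ⟨pIn, twist_spec.2.2.2.2.2.2.1⟩)}) *
    Z.psi σ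

theorem even_two_singletons (p q : GolayPt) : Even (({p} : Finset GolayPt) ∆ {q}).card := by
  rw [Nat.even_iff, LargeFischer.Big.card_symmDiff_mod]
  simp

/-- The twisted homomorphism. -/
noncomputable def twHom : ↥M24 →* G where
  toFun := Z.twFun
  map_one' := by
    simp only [twFun, map_one, mul_one, Subgroup.coe_one, Equiv.Perm.coe_one, id_eq, symmDiff_self,
      Finset.bot_eq_empty]
    exact (Z.D.eS_eq_one ∅ (by simp)).2 empty_supp
  map_mul' σ τ := by
    set p := pt ⟨pIn, twist_spec.2.2.2.2.2.2.1⟩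
    have e := Z.D.eS_equiv ⟨_, Z.psi_mem σ⟩ ({p} ∆ {(τ : Equiv.Perm GolayPt) p}) (even_two_singletons _ _)
    rw [Z.phi_psi, Finset.image_symmDiff _ _ (Equiv.injective _), Finset.image_singleton, Finset.image_singleton] at e
    show Z.twFun (σ * τ) = Z.twFun σ * Z.twFun τ
    have hassoc : ({p} : Finset GolayPt) ∆ {((σ * τ : ↥M24) : Equiv.Perm GolayPt) p} =
        ({p} ∆ {(σ : Equiv.Perm GolayPt) p}) ∆
          ({(σ : Equiv.Perm GolayPt) p} ∆ {(σ : Equiv.Perm GolayPt) ((τ : Equiv.Perm GolayPt) p)}) := by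
      rw [symmDiff_assoc, symmDiff_symmDiff_cancel_left]
      rfl
    rw [twFun, twFun, twFun, hassoc, Z.D.eS_symmDiff _ _ (even_two_singletons _ _) (even_two_singletons _ _), ← e,
      map_mul]
    group
    rfl

theorem twHom_mem (σ : ↥M24) : Z.twHom σ ∈ normalizer (Z.V : Set G) :=
  mul_mem (le_normalizer (Z.D.eS_mem _)) (Z.psi_mem σ)

/-- The twisted section. -/
noncomputable def twist : Sect z where
  V := Z.V
  D := Z.D
  psi := Z.twHom
  psi_mem := Z.twHom_mem
  phi_psi σ := by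
    have hv : Z.D.phi ⟨Z.D.eS ({pt ⟨pIn, twist_spec.2.2.2.2.2.2.1⟩} ∆
        {(σ : Equiv.Perm GolayPt) (pt ⟨pIn, twist_spec.2.2.2.2.2.2.1⟩)}), le_normalizer (Z.D.eS_mem _)⟩ = 1 := by
      rw [← MonoidHom.mem_ker, Z.D.phi_ker, mem_subgroupOf]
      exact Z.D.eS_mem _
    rw [show (⟨Z.twHom σ, Z.twHom_mem σ⟩ : ↥(normalizer (Z.V : Set G))) =
      ⟨_, le_normalizer (Z.D.eS_mem _)⟩ * ⟨_, Z.psi_mem σ⟩ from Subtype.ext rfl, map_mul, hv, Z.phi_psi, one_mul]

theorem twist_sv (m : ℕ) : Z.twist.sv m = Z.sv m := rfl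

theorem twist_evM {x : ℕ} (hx : x < 16) : Z.twist.psi (evM x) = Z.psi (evM x) := by
  have hfix : (evM x : Equiv.Perm GolayPt) (pt ⟨pIn, twist_spec.2.2.2.2.2.2.1⟩) =
      pt ⟨pIn, twist_spec.2.2.2.2.2.2.1⟩ := idx_injective (by
    rw [evM, idx_toM (evElt_ok x hx).1, idx_pt]
    exact evElt_fix x hx _ twist_spec.2.2.2.2.2.2.1 twist_spec.2.2.2.2.2.2.2)
  show Z.twFun (evM x) = _
  rw [twFun, hfix, symmDiff_self, Finset.bot_eq_empty, (Z.D.eS_eq_one ∅ (by simp)).2 empty_supp, one_mul]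

theorem twist_c {w : ℕ} (hw : w < 1024) : Z.twist.c w = Z.c w := by
  rw [c, c, twist_sv, Z.twist_evM (uMask_even w hw).2.2]

theorem twist_A : Z.twist.A = Z.A := by
  ext g
  constructor <;> rintro ⟨w, hw, rfl⟩
  · exact ⟨w, hw, (Z.twist_c hw).symm⟩
  · exact ⟨w, hw, Z.twist_c hw⟩

theorem twist_acts {r : G} {C : List ℕ} (h : Z.Acts r C) : Z.twist.Acts r C := fun w hw => by
  obtain ⟨h1, h2⟩ := h w hw
  exact ⟨h1, by rw [Z.twist_c hw, Z.twist_c h1, h2]⟩

theorem twist_gen {e : Elt} (he : permOK e = true) {t : ℕ} (ht : t < 1024) (hl : eLab t = 0)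
    (hc : inCode (((1 <<< pIn) ^^^ (1 <<< PermCert.get 5 e.1 pIn)) ^^^ uMask t) = true) :
    Z.twist.psi (toM e) = Z.c t * Z.psi (toM e) := by
  have hset : ∀ i : GolayPt, maskSet (1 <<< idx i) = {i} := fun i => by
    ext r
    simp only [mem_maskSet, Nat.one_shiftLeft, Nat.testBit_two_pow, decide_eq_true_eq, Finset.mem_singleton]
    exact ⟨fun h => idx_injective h.symm, fun h => by rw [h]⟩
  set p := pt ⟨pIn, twist_spec.2.2.2.2.2.2.1⟩
  set q := (toM e : Equiv.Perm GolayPt) p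
  have hp : idx p = pIn := idx_pt _
  have hq : idx q = PermCert.get 5 e.1 pIn := by rw [idx_toM he, hp]
  rw [← hq, ← hp] at hc
  have l1 : ∀ i : GolayPt, (1 : ℕ) <<< idx i < 2 ^ 24 := fun i => by
    rw [Nat.one_shiftLeft]; exact Nat.pow_lt_pow_right (by norm_num) (idx_lt i)
  have hev : popCount (1 <<< idx p ^^^ 1 <<< idx q) 24 % 2 = 0 := by
    rw [← card_maskSet, maskSet_xor (l1 p) (l1 q), hset, hset]
    exact Nat.even_iff.1 (even_two_singletons p q)
  show Z.twFun (toM e) = _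
  rw [twFun, ← hset p, ← hset q, ← maskSet_xor (l1 p) (l1 q), Z.c_sv hl,
    ← Z.sv_congr (Nat.xor_lt_two_pow (n := 24) (l1 p) (l1 q)) (uMask_ok ht).1 hev (uMask_ok ht).2 hc]
  rfl

end Sect

/-! ### The adjusted section -/

/-- A section with the point stabiliser inside a complement realising every frame map. -/
structure Rig {G : Type*} [Group G] [Finite G] (z : G) where
  Z : Sect z
  R : Subgroup G
  R_le : R ≤ normalizer (Z.A : Set G)
  R_inf : R ⊓ Z.A = ⊥
  real : ∀ C D, frameOK C D = true → ∃ r ∈ R, Z.Acts r C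
  class_iff : ∀ w < 1024, (IsConj z (Z.c w) ↔ wdec w = true)
  psiA : Z.psi (toM permA) ∈ R
  psiB : Z.psi (toM permB) ∈ R

theorem exists_rig {G : Type*} [Group G] [Finite G] {z : G} (S : Setup z) : Nonempty (Rig z) := by
  obtain ⟨ra, hra, Ha⟩ := S.exists_acts frames_ok.1
  obtain ⟨rb, hrb, Hb⟩ := S.exists_acts frames_ok.2.1
  have split : ∀ (e : Elt) (C : List ℕ) (r : G), permOK e = true → colsOK e C = true → S.Z.Acts r C →
      ∃ u < 1024, S.Z.psi (toM e) = S.Z.c u * r := by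
    intro e C r he hC hr
    have hm : S.Z.psi (toM e) * r⁻¹ ∈ S.Z.A := S.Z.centralizer_A.le (mem_centralizer_iff.2 (by
      rintro _ ⟨w, hw, rfl⟩
      obtain ⟨v, hv, e'⟩ : r⁻¹ * S.Z.c w * r ∈ S.Z.A := by
        have hinj : Function.Injective fun n : Fin 1024 => (⟨app C n, (hr n n.2).1⟩ : Fin 1024) := fun a b e => by
          have e1 : app C a = app C b := congrArg Fin.val e
          refine Fin.ext (S.Z.c_inj a.2 b.2 ?_)
          have := (hr a a.2).2.trans ((congrArg S.Z.c e1).trans (hr b b.2).2.symm)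
          exact mul_left_cancel (mul_right_cancel this)
        obtain ⟨v, hv⟩ := (Finite.injective_iff_surjective.1 hinj) ⟨w, hw⟩
        refine ⟨v, v.2, ?_⟩
        rw [← show app C v = w from congrArg Fin.val hv, ← (hr v v.2).2]
        group
      obtain ⟨-, p1⟩ := S.Z.psi_acts he hC v hv
      obtain ⟨-, p2⟩ := hr v hv
      have hw' : S.Z.c w = r * S.Z.c v * r⁻¹ := by rw [e']; group
      rw [hw', p2, ← p1]
      rw [p1, ← p2]
      calc r * S.Z.c v * r⁻¹ * (S.Z.psi (toM e) * r⁻¹)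
          = (r * S.Z.c v * r⁻¹) * S.Z.psi (toM e) * r⁻¹ := by group
        _ = (S.Z.psi (toM e) * S.Z.c v * (S.Z.psi (toM e))⁻¹) * S.Z.psi (toM e) * r⁻¹ := by rw [p1, p2]
        _ = _ := by group))
    obtain ⟨u, hu, e'⟩ := hm
    exact ⟨u, hu, by rw [e']; group⟩
  obtain ⟨ua, hua, ea⟩ := split _ _ _ permA_ok colA_ok.1 Ha
  obtain ⟨ub, hub, eb⟩ := split _ _ _ permB_ok colA_ok.2 Hb
  have hsol : ∀ r ∈ relWords, foldT ua ub r = 0 := by
    intro r hr
    have h := S.Z.gWord_fold hua hub Ha Hb ea eb r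
    rw [S.Z.gWord_eq, mWord_one (relWords_spec r hr).1, map_one] at h
    have hl := foldT_lt hua hub r
    refine S.Z.c_eq_one hl ?_
    have hR : S.Z.c (foldT ua ub r) ∈ S.R ⊓ S.Z.A := mem_inf.2 ⟨by
      rw [eq_inv_of_mul_eq_one_left h.symm]
      exact inv_mem (Sect.rWord_mem hra hrb r), ⟨_, hl, rfl⟩⟩
    rwa [S.R_inf, mem_bot] at hR
  -- the twisted section removes the twist
  obtain ⟨Z, hA, hc, hacts, w, hw, ea', eb'⟩ : ∃ Z : Sect z, Z.A = S.Z.A ∧ (∀ n < 1024, Z.c n = S.Z.c n) ∧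
      (∀ r C, S.Z.Acts r C → Z.Acts r C) ∧ ∃ w < 1024, Z.psi (toM permA) = S.Z.c (w ^^^ app colA w) * ra ∧
        Z.psi (toM permB) = S.Z.c (w ^^^ app colB w) * rb := by
    obtain ⟨w, hw, ⟨e1, e2⟩ | ⟨e1, e2⟩⟩ := sol_cases hua hub hsol
    · exact ⟨S.Z, rfl, fun _ _ => rfl, fun _ _ h => h, w, hw, e1 ▸ ea, e2 ▸ eb⟩
    · refine ⟨S.Z.twist, S.Z.twist_A, fun n hn => S.Z.twist_c hn, fun r C h => S.Z.twist_acts h, w, hw, ?_, ?_⟩
      · rw [S.Z.twist_gen permA_ok twist_spec.1 twist_spec.2.2.2.1 twist_spec.2.2.1, ea, ← mul_assoc,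
          ← S.Z.c_xor twist_spec.1 hua, e1, Nat.xor_comm twA, Nat.xor_assoc, Nat.xor_self, Nat.xor_zero]
      · rw [S.Z.twist_gen permB_ok twist_spec.2.1 twist_spec.2.2.2.2.2.1 twist_spec.2.2.2.2.1, eb, ← mul_assoc,
          ← S.Z.c_xor twist_spec.2.1 hub, e2, Nat.xor_comm twB, Nat.xor_assoc, Nat.xor_self, Nat.xor_zero]
  -- conjugate the complement
  set a := S.Z.c w with ha
  have haA : a ∈ S.Z.A := ⟨w, hw, rfl⟩
  have hinv : a⁻¹ = a := inv_eq_of_mul_eq_one_right (S.Z.c_sq hw)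
  have gen : ∀ (C : List ℕ) (r : G), r ∈ S.R → S.Z.Acts r C →
      S.Z.c (w ^^^ app C w) * r ∈ S.R.map (MulAut.conj a).toMonoidHom := by
    intro C r hr h
    refine ⟨r, hr, show a * r * a⁻¹ = _ from ?_⟩
    obtain ⟨h1, h2⟩ := h w hw
    rw [hinv, S.Z.c_xor hw h1, ← h2, ha]
    group
  refine ⟨⟨Z, S.R.map (MulAut.conj a).toMonoidHom, ?_, ?_, ?_, ?_, ?_, ?_⟩⟩
  · rintro _ ⟨r, hr, rfl⟩
    rw [hA]
    exact mul_mem (mul_mem (le_normalizer haA) (S.R_le hr)) (inv_mem (le_normalizer haA))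
  · have hmap : S.Z.A.map (MulAut.conj a).toMonoidHom = S.Z.A := by
      refine le_antisymm ?_ fun x hx => ⟨a⁻¹ * x * a, mul_mem (mul_mem (inv_mem haA) hx) haA, ?_⟩
      · rintro _ ⟨x, hx, rfl⟩
        exact mul_mem (mul_mem haA hx) (inv_mem haA)
      · show a * (a⁻¹ * x * a) * a⁻¹ = x
        group
    rw [hA, ← hmap, ← map_inf _ _ _ (MulAut.conj a).injective, S.R_inf, Subgroup.map_bot]
  · intro C D h
    obtain ⟨r, hr, hr'⟩ := S.exists_acts h
    refine ⟨a * r * a⁻¹, ⟨r, hr, rfl⟩, hacts _ _ fun n hn => ?_⟩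
    obtain ⟨h1, h2⟩ := hr' n hn
    refine ⟨h1, ?_⟩
    have e1 : a⁻¹ * S.Z.c n * a = S.Z.c n := by rw [hinv, ha, S.Z.c_comm hw hn, mul_assoc, S.Z.c_sq hw, mul_one]
    have e2 : a * S.Z.c (app C n) * a⁻¹ = S.Z.c (app C n) := by rw [ha, S.Z.c_comm hw h1, mul_inv_cancel_right]
    calc a * r * a⁻¹ * S.Z.c n * (a * r * a⁻¹)⁻¹ = a * (r * (a⁻¹ * S.Z.c n * a) * r⁻¹) * a⁻¹ := by group
      _ = _ := by rw [e1, h2, e2]
  · intro n hn
    rw [hc n hn, S.class_iff n hn]
  · rw [ea']; exact gen colA ra hra Ha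
  · rw [eb']; exact gen colB rb hrb Hb

namespace Rig

variable {G : Type*} [Group G] [Finite G] {z : G} (X : Rig z)

theorem gWord_mem : ∀ w, X.Z.gWord w ∈ X.R
  | [] => one_mem X.R
  | k :: w => by
    refine mul_mem ?_ (gWord_mem w)
    split
    · exact X.psiA
    · exact X.psiB

/-- A listed element is its translation times an element of the complement with the stored matrix. -/
theorem data {d : SData} (h : dataOK d = true) : d.2.1 < 16 ∧ X.Z.Acts (X.Z.psi (toM d.1)) d.2.2.2 ∧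
    X.Z.gWord d.2.2.1 ∈ X.R ∧ X.Z.Acts (X.Z.gWord d.2.2.1) d.2.2.2 ∧
    X.Z.psi (toM d.1) = X.Z.c (eW d.2.1) * X.Z.gWord d.2.2.1 := by
  obtain ⟨h1, h2, h3, h4, h5⟩ := toM_data h
  refine ⟨h2, X.Z.psi_acts h1 h3, X.gWord_mem _, X.Z.acts_congr (X.Z.gWord_acts _) h5, ?_⟩
  rw [h4, map_mul, X.Z.gWord_eq, X.Z.c_eW h2]

theorem data_of_mem {d : SData} (h : d ∈ allData) : dataOK d = true := List.all_eq_true.1 allData_ok d h

end Rig

end Cfsg.Agent.JankoFour.Recog
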