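import Cfsg.Agent.Lib.JankoFour.Recog.Entry
import Cfsg.Agent.Lib.J4Pres.Bound.Presented
import Cfsg.Agent.Lib.J4Pres.Bound.TransMain

/-!
The bound on the order of the presented fourth Janko group.
-/

set_option autoImplicit false

namespace Cfsg.Agent.JankoFour.Recog

/-- **The bound.** -/
theorem j4Upper : J4Upper :=
  haveI := (J4Bound.Rels.card_H J4Bound.relsJ).1
  J4Bound.card_le_of_card_H (J4Bound.Rels.card_H J4Bound.relsJ).2

end Cfsg.Agent.JankoFour.Recog
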