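import Cfsg.Agent.Lib.JankoFour.Recog.Data
import Cfsg.Agent.Lib.JankoFour.TenFrameChecks
import Cfsg.Agent.Lib.Golay.SingleBlockBase
import Cfsg.Agent.Lib.J4Module.SylowChecks
import Cfsg.Agent.Lib.JankoFour.Data

/-!
The exterior square of the five space on the data of the octad: decidable facts.
Coordinates: the labels of the sixteen points outside the octad form the four space W; an element of the abelian
subgroup of order 1024 is ten bits in the order of the pairs of five, the last vector standing for the octad's
translations.
-/

set_option autoImplicit false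
set_option maxRecDepth 100000
set_option synthInstance.maxSize 4000
set_option synthInstance.maxHeartbeats 200000

namespace Cfsg.Agent.JankoFour.Recog

open Cfsg.Agent.Golay Cfsg.Agent.PermCert
open Cfsg.Agent.J4Module (app of_chunks)

/-- The point of a label. -/
def ptL (x : ℕ) : ℕ := ptTab.getD x 0

/-- The four points of a plane through the origin. -/
def planeM (x y : ℕ) : ℕ := (1 <<< ptL 0) ^^^ (1 <<< ptL x) ^^^ (1 <<< ptL y) ^^^ (1 <<< ptL (x ^^^ y))

/-- The exterior product in the coordinates. -/
def wp (u v : ℕ) : ℕ := Ten.wedge u v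

/-- The map induced on the exterior square by five images. -/
def liftW (g : List ℕ) : List ℕ := Ten.pairs5.map fun p => wp (g.getD p.1 0) (g.getD p.2 0)

/-- The transvection with the centre the last vector and the given functional. -/
def tauC (l : ℕ) : List ℕ :=
  liftW ((List.range 4).map (fun k => 2 ^ k + if l.testBit k then 16 else 0) ++ [16])

/-- The identity of the ten coordinates. -/
def unitW : List ℕ := (List.range 10).map (2 ^ ·)

/-- The masks of the basis. -/
def uCols : List ℕ := Ten.pairs5.map fun p => if p.2 = 4 then 0 else planeM (2 ^ p.1) (2 ^ p.2)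

/-- The translation labels of the basis. -/
def eCols : List ℕ := Ten.pairs5.map fun p => if p.2 = 4 then 2 ^ p.1 else 0

/-- The set of points of a vector. -/
def uMask (w : ℕ) : ℕ := app uCols w

/-- The translation label of a vector. -/
def eLab (w : ℕ) : ℕ := app eCols w

/-- The vector of a translation label. -/
def eW (x : ℕ) : ℕ := wp x 16

/-- A coded translation. -/
def evElt (x : ℕ) : Elt :=
  (List.range 4).foldr (fun k r => if x.testBit k then mul 5 24 (permE.getD k (one 5 24)) r else r) (one 5 24)

/-- A word in the two generators of the point stabiliser. -/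
def wordElt (w : List ℕ) : Elt :=
  w.foldr (fun k r => mul 5 24 (if k = 0 then permA else permB) r) (one 5 24)

/-- The matrix of a word. -/
def wordW (w : List ℕ) : List ℕ := w.foldr (fun k C => mulC (if k = 0 then colA else colB) C) unitW

/-- The decomposable vectors. -/
def wdec (w : ℕ) : Bool := Ten.tDec.testBit (app Ten.tSol w)

/-- A coded permutation preserves the code. -/
def permOK (e : Elt) : Bool := validElt 5 24 e && isAutB e

/-- A coded permutation induces the given map on the coordinates. -/
def colsOK (e : Elt) (C : List ℕ) : Bool :=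
  (List.range 10).all fun n =>
    Nat.blt (C.getD n 0) 1024 && inCode (imgMask e (uMask (2 ^ n)) ^^^ uMask (C.getD n 0)) &&
      Nat.beq (mul 5 24 e (evElt (eLab (2 ^ n)))).1 (mul 5 24 (evElt (eLab (C.getD n 0))) e).1

/-- A linear map of the coordinates preserving the decomposable vectors, with its inverse. -/
def frameOK (C D : List ℕ) : Bool :=
  C.all (fun c => Nat.blt c 1024) && D.all (fun c => Nat.blt c 1024) &&
    (List.range 1024).all fun w => (wdec (app C w) == wdec w) && Nat.beq (app D (app C w)) w

/-- An element of the octad stabiliser is the product of its translation and its word, with the stored matrix. -/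
def dataOK (d : SData) : Bool :=
  permOK d.1 && Nat.blt d.2.1 16 && colsOK d.1 d.2.2.2 && (d.2.2.1.all fun k => Nat.blt k 2) &&
    Nat.beq (mul 5 24 (evElt d.2.1) (wordElt d.2.2.1)).1 d.1.1 &&
    (List.range 1024).all fun w => Nat.beq (app (wordW d.2.2.1) w) (app d.2.2.2 w)

theorem perms_ok : [permX, permY, permA, permB, permGam, permH, permG, permW, permW1, permU].all permOK = true := by
  decide +kernel

theorem evElt_ok : ∀ x < 16, permOK (evElt x) = true ∧ (x ≠ 0 → (evElt x).1 ≠ idCode 5 24) ∧
    ∀ y < 16, (mul 5 24 (evElt x) (evElt y)).1 = (evElt (x ^^^ y)).1 := by decide +kernel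

theorem evElt_fix : ∀ x < 16, ∀ i < 24, (5279 : ℕ).testBit i = true → PermCert.get 5 (evElt x).1 i = i := by
  decide +kernel

theorem evElt_inj : ∀ x < 16, ∀ y < 16, (evElt x).1 = (evElt y).1 → x = y := by decide +kernel

theorem evElt_zero : (evElt 0).1 = idCode 5 24 := by decide +kernel

theorem cols_lt : (∀ c ∈ uCols, c < 2 ^ 24) ∧ (∀ c ∈ eCols, c < 16) := by decide +kernel

theorem uMask_even : ∀ w < 1024, popCount (uMask w) 24 % 2 = 0 ∧ uMask w < 2 ^ 24 ∧ eLab w < 16 :=
  of_chunks 16 (by decide +kernel)

theorem ev_fix_u : ∀ x < 16, ∀ n < 10, inCode (imgMask (evElt x) (uMask (2 ^ n)) ^^^ uMask (2 ^ n)) = true := by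
  decide +kernel

theorem coord_inj : ∀ w < 1024, eLab w = 0 → inCode (uMask w) = true → w = 0 := of_chunks 16 (by decide +kernel)

theorem eW_spec : ∀ x < 16, eW x < 1024 ∧ eLab (eW x) = x ∧ uMask (eW x) = 0 := by decide +kernel

theorem plane_spec : ∀ x < 16, ∀ y < 16, x ≠ 0 → y ≠ 0 → x ≠ y →
    wp x y < 1024 ∧ eLab (wp x y) = 0 ∧ inCode (planeM x y ^^^ uMask (wp x y)) = true ∧ popCount (planeM x y) 24 = 4 ∧
      wdec (wp x y) = true := by
  decide +kernel

theorem colA_ok : colsOK permA colA = true ∧ colsOK permB colB = true := by decide +kernel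

theorem allData_ok : allData.all dataOK = true := by decide +kernel

theorem wdec_spec : wdec 0 = false ∧ ∀ x < 16, x ≠ 0 → wdec (eW x) = true := by decide +kernel

theorem wdec_count : ((List.range 1024).filter fun w => wdec w).length = 155 := by decide +kernel

/-- A vector is a product of two labels, a translation, or a translation times one of its displacements. -/
def casesB (w : ℕ) : Bool :=
  (List.range 16).any fun x => (List.range 16).any fun y =>
    decide (x ≠ 0) && ((decide (y ≠ 0) && decide (x ≠ y) && (Nat.beq (wp x y) w || Nat.beq (eW x ^^^ wp x y) w)) ||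
      Nat.beq (eW x) w)

theorem wdec_cases : ∀ w < 1024, wdec w = true → casesB w = true := of_chunks 16 (by decide +kernel)

/-- An element of order seven fixes one translation and nothing else. -/
theorem seven_fix : ∀ w < 1024, (app elSeven.2.2.2 w = w ↔ (w = 0 ∨ w = 72)) := of_chunks 16 (by decide +kernel)

/-- The translations are one orbit of the point stabiliser. -/
theorem eW_orbit : eLab 72 < 16 ∧ eW (eLab 72) = 72 ∧ wdec 72 = true := by decide +kernel

/-- The representatives of the classes of even sets. -/
def repCols : List ℕ := (List.range 11).map fun k => 1 + 2 ^ (k + 1)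

theorem rep_spec : ∀ i < 2048, popCount (app repCols i) 24 % 2 = 0 ∧ app repCols i < 2 ^ 24 ∧
    (inCode (app repCols i) = true → i = 0) :=
  of_chunks 32 (by decide +kernel)

theorem rep_fixed : ∀ i < 2048, ((List.range 4).all fun k =>
      inCode (imgMask (evElt (2 ^ k)) (app repCols i) ^^^ app repCols i)) = true →
    ∃ w < 256, eLab w = 0 ∧ inCode (app repCols i ^^^ uMask w) = true :=
  of_chunks 32 (by decide +kernel)

/-- Every pair of points of the octad is the class of a vector. -/
theorem pair_spec : ∀ i < 24, ∀ j < 24, i ≠ j → (5279 : ℕ).testBit i = true → (5279 : ℕ).testBit j = true →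
    ∃ w < 256, eLab w = 0 ∧ inCode ((1 <<< i ||| 1 <<< j) ^^^ uMask w) = true := by
  decide +kernel

theorem frames_ok : frameOK colA (wordW [0, 0, 0, 0, 0]) = true ∧ frameOK colB (wordW [1, 1]) = true ∧
    ∀ l < 16, frameOK (tauC l) (tauC l) = true := by decide +kernel

theorem relWords_spec : ∀ r ∈ relWords, (wordElt r).1 = idCode 5 24 ∧ (∀ k ∈ r, k < 2) ∧
    ∀ w < 1024, app (wordW r) w = w := by decide +kernel

end Cfsg.Agent.JankoFour.Recog
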